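import Mathlib
import Cfsg.Agent.H453.OddM.Defs
import Cfsg.Agent.H436.Names
import Cfsg.Agent.Involutions.IndexFive

/-!
# TEAM ODDM (S4785): the alternating row (helper683)

A maximal subgroup `M` of `A_n` (`n ≥ 7`) meeting every real class is transitive (types `(n-2)`, `(2,2,n-4)`,
`(3,3,n-6)` for `n` odd, `(2,n-2)`, `(4,n-4)` for `n` even), primitive (types `(n-2)`; `(n-3)`, `(3,3,n-7)`), and
contains a 3-cycle. `A_5`, `A_6`: orders.
-/

set_option autoImplicit false

namespace Cfsg.Agent.H683.OddMAlt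

open Equiv.Perm MulAction Cfsg.Agent.H453.OddM
open scoped Pointwise

variable {n : ℕ}

/-- restriction to a stable set: cycle types -/
theorem decomp (σ : Equiv.Perm (Fin n)) (O : Finset (Fin n)) (hO : ∀ x, x ∈ O ↔ σ x ∈ O) :
    ∃ a b : Multiset ℕ, a + b = σ.cycleType ∧ a.sum = (O.filter fun x => σ x ≠ x).card ∧
      b.sum = (Oᶜ.filter fun x => σ x ≠ x).card := by
  classical
  have h1 : ∀ x, (x ∈ O) ↔ (σ x ∈ O) := hO
  have h2 : ∀ x, (¬ x ∈ O) ↔ (¬ σ x ∈ O) := fun x => not_congr (hO x)
  let σ1 : Equiv.Perm {x // x ∈ O} := σ.subtypePerm (fun x => (h1 x).symm)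
  let σ2 : Equiv.Perm {x // ¬ x ∈ O} := σ.subtypePerm (fun x => (h2 x).symm)
  have e1 : ∀ x, x ∈ O → ofSubtype σ1 x = σ x := fun x hx => by
    rw [ofSubtype_apply_of_mem σ1 hx]; rfl
  have e1' : ∀ x, x ∉ O → ofSubtype σ1 x = x := fun x hx => ofSubtype_apply_of_not_mem σ1 hx
  have e2 : ∀ x, x ∉ O → ofSubtype σ2 x = σ x := fun x hx => by
    rw [ofSubtype_apply_of_mem σ2 hx]; rfl
  have e2' : ∀ x, x ∈ O → ofSubtype σ2 x = x := fun x hx =>
    ofSubtype_apply_of_not_mem σ2 (by simpa using hx)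
  have hd : Disjoint (ofSubtype σ1) (ofSubtype σ2) := by
    intro x
    by_cases hx : x ∈ O
    · exact Or.inr (e2' x hx)
    · exact Or.inl (e1' x hx)
  have hm : ofSubtype σ1 * ofSubtype σ2 = σ := by
    ext x
    rw [mul_apply]
    by_cases hx : x ∈ O
    · rw [e2' x hx, e1 x hx]
    · rw [e2 x hx, e1' _ ((h2 x).1 hx)]
  refine ⟨(ofSubtype σ1).cycleType, (ofSubtype σ2).cycleType, ?_, ?_, ?_⟩
  · rw [← hd.cycleType_mul, hm]
  · rw [sum_cycleType]
    congr 1
    ext x
    rw [mem_support, Finset.mem_filter]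
    by_cases hx : x ∈ O
    · rw [e1 x hx]; simp [hx]
    · rw [e1' x hx]; simp [hx]
  · rw [sum_cycleType]
    congr 1
    ext x
    rw [mem_support, Finset.mem_filter, Finset.mem_compl]
    by_cases hx : x ∈ O
    · rw [e2' x hx]; simp [hx]
    · rw [e2 x hx]; simp [hx]

/-- reality in the alternating group -/
theorem isReal_of {σ : alternatingGroup (Fin n)}
    (h : ¬ Subgroup.centralizer {(σ : Equiv.Perm (Fin n))} ≤ alternatingGroup (Fin n)) : IsReal σ := by
  classical
  have h1 : IsConj (σ : Equiv.Perm (Fin n)) (σ : Equiv.Perm (Fin n))⁻¹ := by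
    rw [isConj_iff_cycleType_eq, cycleType_inv]
  obtain ⟨c, hc⟩ := isConj_iff.1 h1
  by_cases hcA : c ∈ alternatingGroup (Fin n)
  · refine ⟨⟨c, hcA⟩, ?_⟩
    ext1
    exact hc
  · obtain ⟨z, hz, hzA⟩ := Set.not_subset.1 h
    have hz1 : z * (σ : Equiv.Perm (Fin n)) = (σ : Equiv.Perm (Fin n)) * z := by
      have := (Subgroup.mem_centralizer_iff.1 hz) _ (Set.mem_singleton _)
      exact this.symm
    have hcz : c * z ∈ alternatingGroup (Fin n) := by
      rw [mem_alternatingGroup] at hcA ⊢
      have hzA' : ¬ sign z = 1 := fun h => hzA (mem_alternatingGroup.2 h)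
      rw [map_mul, (Int.units_eq_one_or (sign c)).resolve_left hcA,
        (Int.units_eq_one_or (sign z)).resolve_left hzA']
      rfl
    refine ⟨⟨c * z, hcz⟩, ?_⟩
    ext1
    change c * z * (σ : Equiv.Perm (Fin n)) * (c * z)⁻¹ = (σ : Equiv.Perm (Fin n))⁻¹
    rw [mul_inv_rev, ← hc, mul_assoc c z, hz1]
    group

/-- the permutations of `M` -/
def toPerm (M : Subgroup (alternatingGroup (Fin n))) : Subgroup (Equiv.Perm (Fin n)) :=
  M.map (alternatingGroup (Fin n)).subtype

theorem exists_type {M : Subgroup (alternatingGroup (Fin n))} (hM : Cov (alternatingGroup (Fin n)) M)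
    (m : Multiset ℕ) (hs : m.sum ≤ n) (h2 : ∀ a ∈ m, 2 ≤ a) (he : Even (m.sum + m.card))
    (hr : (∃ c ∈ m, Even c) ∨ m.sum + 2 ≤ n ∨ ∃ i, 2 ≤ m.count i) :
    ∃ σ ∈ toPerm M, σ.cycleType = m := by
  classical
  obtain ⟨g, hg⟩ := (exists_with_cycleType_iff (Fin n) (m := m)).2 ⟨by simpa using hs, h2⟩
  have hgA : g ∈ alternatingGroup (Fin n) := by
    rw [mem_alternatingGroup, sign_of_cycleType, hg]
    exact he.neg_one_pow
  have hreal : IsReal (⟨g, hgA⟩ : alternatingGroup (Fin n)) := by
    apply isReal_of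
    intro hle
    obtain ⟨k1, k2, k3⟩ := centralizer_le_alternating_iff.1 hle
    change ∀ c ∈ g.cycleType, Odd c at k1
    change Fintype.card (Fin n) ≤ g.cycleType.sum + 1 at k2
    change ∀ i, g.cycleType.count i ≤ 1 at k3
    rw [hg] at k1 k2 k3
    rw [Fintype.card_fin] at k2
    rcases hr with ⟨c, hc, hc2⟩ | h | ⟨i, hi⟩
    · exact (Nat.not_even_iff_odd.2 (k1 c hc)) hc2
    · omega
    · have := k3 i
      omega
  obtain ⟨x, hx⟩ := hM.2 _ hreal
  refine ⟨_, ⟨_, hx, rfl⟩, ?_⟩
  change ((x : Equiv.Perm (Fin n)) * g * (x : Equiv.Perm (Fin n))⁻¹).cycleType = m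
  rw [cycleType_conj, hg]

theorem sum_le_cons {u : ℕ} {m a : Multiset ℕ} (h : a ≤ u ::ₘ m) :
    ∃ a' ≤ m, a.sum = a'.sum ∨ a.sum = u + a'.sum := by
  classical
  by_cases hu : u ∈ a
  · obtain ⟨a', rfl⟩ := Multiset.exists_cons_of_mem hu
    exact ⟨a', (Multiset.cons_le_cons_iff u).1 h, Or.inr (by simp)⟩
  · exact ⟨a, (Multiset.le_cons_of_notMem hu).1 h, Or.inl rfl⟩

theorem sum_one {u : ℕ} {a : Multiset ℕ} (h : a ≤ {u}) : a.sum = 0 ∨ a.sum = u := by
  obtain ⟨a', h1, h2⟩ := sum_le_cons (m := 0) h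
  have : a' = 0 := Multiset.le_zero.1 h1
  subst this
  simpa using h2

theorem sum_two {u v : ℕ} {a : Multiset ℕ} (h : a ≤ {u, v}) :
    a.sum = 0 ∨ a.sum = u ∨ a.sum = v ∨ a.sum = u + v := by
  obtain ⟨a', h1, h2⟩ := sum_le_cons (m := {v}) h
  rcases sum_one h1 with h | h <;> rcases h2 with h2 | h2 <;> omega

theorem sum_three {u v w : ℕ} {a : Multiset ℕ} (h : a ≤ {u, v, w}) :
    a.sum = 0 ∨ a.sum = u ∨ a.sum = v ∨ a.sum = w ∨ a.sum = u + v ∨ a.sum = u + w ∨ a.sum = v + w ∨
      a.sum = u + v + w := by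
  obtain ⟨a', h1, h2⟩ := sum_le_cons (m := {v, w}) h
  rcases sum_two h1 with h | h | h | h <;> rcases h2 with h2 | h2 <;> omega

/-- stable sets -/
theorem stable {σ : Equiv.Perm (Fin n)} {O : Finset (Fin n)} (hO : ∀ x, x ∈ O ↔ σ x ∈ O) :
    ∃ a ≤ σ.cycleType, a.sum ≤ O.card ∧ σ.cycleType.sum + O.card ≤ n + a.sum := by
  classical
  obtain ⟨a, b, hab, ha, hb⟩ := decomp σ O hO
  refine ⟨a, ?_, ?_, ?_⟩
  · rw [← hab]; exact Multiset.le_add_right a b
  · rw [ha]; exact Finset.card_filter_le _ _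
  · have h1 : b.sum ≤ Oᶜ.card := by rw [hb]; exact Finset.card_filter_le _ _
    rw [Finset.card_compl, Fintype.card_fin] at h1
    have h2 : O.card ≤ n := by simpa using Finset.card_le_univ O
    have h3 : σ.cycleType.sum = a.sum + b.sum := by rw [← hab, Multiset.sum_add]
    omega

/-- stable sets containing a fixed point -/
theorem stable_fix {σ : Equiv.Perm (Fin n)} {O : Finset (Fin n)} (hO : ∀ x, x ∈ O ↔ σ x ∈ O)
    {x : Fin n} (hx : x ∈ O) (hfx : σ x = x) :
    ∃ a ≤ σ.cycleType, a.sum + 1 ≤ O.card ∧ σ.cycleType.sum + O.card ≤ n + a.sum := by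
  classical
  obtain ⟨a, b, hab, ha, hb⟩ := decomp σ O hO
  refine ⟨a, ?_, ?_, ?_⟩
  · rw [← hab]; exact Multiset.le_add_right a b
  · rw [ha]
    have h1 : (O.filter fun x => σ x ≠ x) ⊂ O := by
      refine ⟨Finset.filter_subset _ _, fun h => ?_⟩
      have := h hx
      rw [Finset.mem_filter] at this
      exact this.2 hfx
    exact Finset.card_lt_card h1
  · have h1 : b.sum ≤ Oᶜ.card := by rw [hb]; exact Finset.card_filter_le _ _
    rw [Finset.card_compl, Fintype.card_fin] at h1
    have h2 : O.card ≤ n := by simpa using Finset.card_le_univ O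
    have h3 : σ.cycleType.sum = a.sum + b.sum := by rw [← hab, Multiset.sum_add]
    omega

section

variable {M : Subgroup (alternatingGroup (Fin n))} (hM : Cov (alternatingGroup (Fin n)) M)

include hM

/-- a stable set is trivial -/
theorem stable_all (hn : 7 ≤ n) {O : Finset (Fin n)} (hO : ∀ σ ∈ toPerm M, ∀ x, x ∈ O ↔ σ x ∈ O)
    (h0 : 0 < O.card) (h1 : O.card < n) : False := by
  rcases Nat.even_or_odd n with he | ho
  · obtain ⟨s1, hs1, ht1⟩ := exists_type hM {2, n - 2} (by simp; omega) (by simp; omega)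
      (by simp only [Multiset.insert_eq_cons, Multiset.sum_cons, Multiset.sum_singleton, Multiset.card_cons,
            Multiset.card_singleton]; rw [Nat.even_iff] at he ⊢; omega) (Or.inl ⟨2, by simp, by decide⟩)
    obtain ⟨s2, hs2, ht2⟩ := exists_type hM {4, n - 4} (by simp; omega) (by simp; omega)
      (by simp only [Multiset.insert_eq_cons, Multiset.sum_cons, Multiset.sum_singleton, Multiset.card_cons,
            Multiset.card_singleton]; rw [Nat.even_iff] at he ⊢; omega) (Or.inl ⟨4, by simp, by decide⟩)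
    obtain ⟨a1, b1, c1, d1⟩ := stable (hO s1 hs1)
    obtain ⟨a2, b2, c2, d2⟩ := stable (hO s2 hs2)
    rw [ht1] at b1 d1
    rw [ht2] at b2 d2
    simp only [Multiset.insert_eq_cons, Multiset.sum_cons, Multiset.sum_singleton] at d1 d2
    have e1 := sum_two b1
    have e2 := sum_two b2
    rw [Nat.even_iff] at he
    omega
  · rw [Nat.odd_iff] at ho
    obtain ⟨s1, hs1, ht1⟩ := exists_type hM {n - 2} (by simp) (by simp; omega)
      (by simp only [Multiset.sum_singleton, Multiset.card_singleton]; rw [Nat.even_iff]; omega)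
      (Or.inr (Or.inl (by simp; omega)))
    obtain ⟨s2, hs2, ht2⟩ := exists_type hM {2, 2, n - 4} (by simp; omega) (by simp; omega)
      (by simp only [Multiset.insert_eq_cons, Multiset.sum_cons, Multiset.sum_singleton, Multiset.card_cons,
            Multiset.card_singleton]; rw [Nat.even_iff]; omega) (Or.inl ⟨2, by simp, by decide⟩)
    obtain ⟨a1, b1, c1, d1⟩ := stable (hO s1 hs1)
    obtain ⟨a2, b2, c2, d2⟩ := stable (hO s2 hs2)
    rw [ht1] at b1 d1
    rw [ht2] at b2 d2
    simp only [Multiset.insert_eq_cons, Multiset.sum_cons, Multiset.sum_singleton] at d1 d2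
    have e1 := sum_one b1
    have e2 := sum_three b2
    by_cases h7 : n = 7
    · obtain ⟨s3, hs3, ht3⟩ := exists_type hM {3, 3} (by simp; omega) (by simp)
        (by simp only [Multiset.insert_eq_cons, Multiset.sum_cons, Multiset.sum_singleton, Multiset.card_cons,
              Multiset.card_singleton]; decide) (Or.inr (Or.inr ⟨3, by simp⟩))
      obtain ⟨a3, b3, c3, d3⟩ := stable (hO s3 hs3)
      rw [ht3] at b3 d3
      simp only [Multiset.insert_eq_cons, Multiset.sum_cons, Multiset.sum_singleton] at d3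
      have e3 := sum_two b3
      omega
    · obtain ⟨s3, hs3, ht3⟩ := exists_type hM {3, 3, n - 6} (by simp; omega) (by simp; omega)
        (by simp only [Multiset.insert_eq_cons, Multiset.sum_cons, Multiset.sum_singleton, Multiset.card_cons,
              Multiset.card_singleton]; rw [Nat.even_iff]; omega) (Or.inr (Or.inr ⟨3, by simp⟩))
      obtain ⟨a3, b3, c3, d3⟩ := stable (hO s3 hs3)
      rw [ht3] at b3 d3
      simp only [Multiset.insert_eq_cons, Multiset.sum_cons, Multiset.sum_singleton] at d3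
      have e3 := sum_three b3
      omega

theorem pretrans (hn : 7 ≤ n) : IsPretransitive (toPerm M) (Fin n) := by
  classical
  haveI : NeZero n := ⟨by omega⟩
  refine (isPretransitive_iff_orbit_eq_univ (0 : Fin n)).2 ?_
  by_contra hne
  have hfin : (orbit (toPerm M) (0 : Fin n)).Finite := Set.toFinite _
  refine stable_all hM hn (O := hfin.toFinset) ?_ ?_ ?_
  · intro σ hσ x
    rw [Set.Finite.mem_toFinset, Set.Finite.mem_toFinset]
    have : σ x = (⟨σ, hσ⟩ : toPerm M) • x := rfl
    rw [this]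
    constructor
    · intro h; exact smul_orbit_subset _ _ ⟨x, h, rfl⟩
    · intro h
      have h2 := smul_orbit_subset (⟨σ, hσ⟩ : toPerm M)⁻¹ (0 : Fin n) ⟨_, h, rfl⟩
      have h3 : (fun z => (⟨σ, hσ⟩ : toPerm M)⁻¹ • z) ((⟨σ, hσ⟩ : toPerm M) • x) = x := inv_smul_smul _ _
      rwa [h3] at h2
  · rw [Finset.card_pos]
    exact ⟨0, by rw [Set.Finite.mem_toFinset]; exact mem_orbit_self _⟩
  · have h1 : hfin.toFinset ⊂ Finset.univ := by
      rw [Finset.ssubset_univ_iff]
      intro h
      apply hne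
      have := congrArg (fun s : Finset (Fin n) => (s : Set (Fin n))) h
      simpa using this
    simpa using Finset.card_lt_card h1

/-- a block and a permutation with a fixed point -/
theorem block_type (hn : 7 ≤ n) {B : Set (Fin n)} (hB : IsBlock (toPerm M) B) (hne : B.Nonempty) {σ : Equiv.Perm (Fin n)}
    (hσ : σ ∈ toPerm M) (hs : σ.cycleType.sum < n) :
    ∃ a ≤ σ.cycleType, a.sum + 1 ≤ B.ncard ∧ σ.cycleType.sum + B.ncard ≤ n + a.sum := by
  classical
  haveI := pretrans hM hn
  have h1 : ∃ x, σ x = x := by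
    by_contra h
    push Not at h
    have h2 : σ.support = Finset.univ := by
      ext x
      simpa using h x
    rw [sum_cycleType, h2] at hs
    simp at hs
  obtain ⟨x, hx⟩ := h1
  obtain ⟨y, hy⟩ := hne
  obtain ⟨g, hg⟩ := exists_smul_eq (toPerm M) y x
  have hB' : IsBlock (toPerm M) (g • B) := hB.translate g
  have hxB : x ∈ g • B := ⟨y, hy, hg⟩
  let s : toPerm M := ⟨σ, hσ⟩
  have hsB : s • (g • B) = g • B := by
    refine hB'.smul_eq_of_nonempty ⟨x, ?_, hxB⟩
    exact ⟨x, hxB, hx⟩
  have hcard : (g • B).ncard = B.ncard := Set.ncard_smul_set g B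
  have hfin : (g • B).Finite := Set.toFinite _
  have hst : ∀ z, z ∈ hfin.toFinset ↔ σ z ∈ hfin.toFinset := by
    intro z
    rw [Set.Finite.mem_toFinset, Set.Finite.mem_toFinset]
    have h3 : σ z = s • z := rfl
    rw [h3]
    nth_rewrite 2 [← hsB]
    rw [Set.smul_mem_smul_set_iff]
  obtain ⟨a, ha1, ha2, ha3⟩ := stable_fix hst ((Set.Finite.mem_toFinset hfin).2 hxB) hx
  rw [← Set.ncard_eq_toFinset_card _ hfin, hcard] at ha2 ha3
  exact ⟨a, ha1, ha2, ha3⟩

theorem preprim (hn : 7 ≤ n) : IsPreprimitive (toPerm M) (Fin n) := by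
  classical
  haveI := pretrans hM hn
  refine { isTrivialBlock_of_isBlock := ?_ }
  intro B hB
  by_contra hnt
  unfold IsTrivialBlock at hnt
  push Not at hnt
  obtain ⟨h1, h2⟩ := hnt
  have hne : B.Nonempty := by
    by_contra h
    rw [Set.not_nonempty_iff_eq_empty] at h
    exact h1.not_subsingleton (by rw [h]; exact Set.subsingleton_empty)
  have hk2 : 2 ≤ B.ncard := by
    by_contra h
    have h3 : B.ncard ≤ 1 := by omega
    rw [Set.ncard_le_one_iff_subsingleton] at h3
    exact h1.not_subsingleton h3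
  have hdvd : B.ncard ∣ n := by simpa using hB.ncard_dvd_card hne
  have hle : B.ncard * 2 ≤ n := by
    by_contra h
    exact h2 (hB.eq_univ_of_card_lt (by simpa using Nat.lt_of_not_le h))
  rcases Nat.even_or_odd n with he | ho
  · rw [Nat.even_iff] at he
    obtain ⟨s1, hs1, ht1⟩ := exists_type hM {n - 3} (by simp) (by simp; omega)
      (by simp only [Multiset.sum_singleton, Multiset.card_singleton]; rw [Nat.even_iff]; omega)
      (Or.inr (Or.inl (by simp; omega)))
    obtain ⟨a1, b1, c1, d1⟩ := block_type hM hn hB hne hs1 (by rw [ht1]; simp; omega)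
    rw [ht1] at b1 d1
    simp only [Multiset.sum_singleton] at d1
    have e1 := sum_one b1
    by_cases h8 : n = 8
    · obtain ⟨s2, hs2, ht2⟩ := exists_type hM {2, 2, 3} (by simp; omega) (by simp)
        (by simp only [Multiset.insert_eq_cons, Multiset.sum_cons, Multiset.sum_singleton, Multiset.card_cons,
              Multiset.card_singleton]; decide) (Or.inl ⟨2, by simp, by decide⟩)
      obtain ⟨a2, b2, c2, d2⟩ := block_type hM hn hB hne hs2 (by rw [ht2]; simp; omega)
      rw [ht2] at b2 d2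
      simp only [Multiset.insert_eq_cons, Multiset.sum_cons, Multiset.sum_singleton] at d2
      have e2 := sum_three b2
      have h3 : B.ncard = 3 ∨ B.ncard = 2 := by omega
      subst h8
      rcases h3 with h3 | h3
      · rw [h3] at hdvd; omega
      · omega
    · obtain ⟨s2, hs2, ht2⟩ := exists_type hM {3, 3, n - 7} (by simp; omega) (by simp; omega)
        (by simp only [Multiset.insert_eq_cons, Multiset.sum_cons, Multiset.sum_singleton, Multiset.card_cons,
              Multiset.card_singleton]; rw [Nat.even_iff]; omega) (Or.inr (Or.inr ⟨3, by simp⟩))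
      obtain ⟨a2, b2, c2, d2⟩ := block_type hM hn hB hne hs2
        (by rw [ht2]; simp only [Multiset.insert_eq_cons, Multiset.sum_cons, Multiset.sum_singleton]; omega)
      rw [ht2] at b2 d2
      simp only [Multiset.insert_eq_cons, Multiset.sum_cons, Multiset.sum_singleton] at d2
      have e2 := sum_three b2
      omega
  · rw [Nat.odd_iff] at ho
    obtain ⟨s1, hs1, ht1⟩ := exists_type hM {n - 2} (by simp) (by simp; omega)
      (by simp only [Multiset.sum_singleton, Multiset.card_singleton]; rw [Nat.even_iff]; omega)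
      (Or.inr (Or.inl (by simp; omega)))
    obtain ⟨a1, b1, c1, d1⟩ := block_type hM hn hB hne hs1 (by rw [ht1]; simp; omega)
    rw [ht1] at b1 d1
    simp only [Multiset.sum_singleton] at d1
    have e1 := sum_one b1
    have h3 : B.ncard = 2 := by omega
    rw [h3] at hdvd
    omega

theorem eq_top (hn : 7 ≤ n) : M = ⊤ := by
  classical
  obtain ⟨s, hs, ht⟩ := exists_type hM {3} (by simp; omega) (by simp) (by simp; decide)
    (Or.inr (Or.inl (by simp; omega)))
  have h1 := alternatingGroup_le_of_isPreprimitive_of_isThreeCycle_mem (preprim hM hn) (g := s) ht hs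
  rw [eq_top_iff]
  intro x _
  obtain ⟨y, hy, hyx⟩ := h1 x.2
  have : y = x := Subtype.ext hyx
  rwa [← this]

end

/-! ### `A_5`, `A_6` -/

theorem realP_of {x g : Equiv.Perm (Fin n)} (h1 : sign x = 1) (h2 : sign g = 1) (h3 : x ^ 5 = 1) (h4 : x ≠ 1)
    (h5 : g * x * g⁻¹ = x⁻¹) : RealP (alternatingGroup (Fin n)) 5 := by
  have hf : Fact (Nat.Prime 5) := ⟨by norm_num⟩
  refine ⟨⟨x, mem_alternatingGroup.2 h1⟩, ?_, ⟨g, mem_alternatingGroup.2 h2⟩, Subtype.ext h5⟩
  exact orderOf_eq_prime (Subtype.ext h3) (fun h => h4 (congrArg Subtype.val h))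

set_option maxRecDepth 20000 in
theorem realP_five5 : RealP (alternatingGroup (Fin 5)) 5 :=
  realP_of (x := c[0, 1, 2, 3, 4]) (g := Equiv.swap 1 4 * Equiv.swap 2 3) (by decide) (by decide) (by decide)
    (by decide) (by decide)

set_option maxRecDepth 20000 in
theorem realP_five6 : RealP (alternatingGroup (Fin 6)) 5 :=
  realP_of (x := c[0, 1, 2, 3, 4]) (g := Equiv.swap 1 4 * Equiv.swap 2 3) (by decide) (by decide) (by decide)
    (by decide) (by decide)

theorem realP_three (hn : 5 ≤ n) : RealP (alternatingGroup (Fin n)) 3 := by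
  classical
  obtain ⟨g, hg⟩ := (exists_with_cycleType_iff (Fin n) (m := {3})).2 ⟨by simp; omega, by simp⟩
  have hgA : g ∈ alternatingGroup (Fin n) := by
    rw [mem_alternatingGroup, sign_of_cycleType, hg]
    decide
  refine ⟨⟨g, hgA⟩, ?_, ?_⟩
  · rw [Subgroup.orderOf_mk, ← lcm_cycleType, hg]
    simp
  · apply isReal_of
    intro hle
    obtain ⟨k1, k2, k3⟩ := centralizer_le_alternating_iff.1 hle
    change Fintype.card (Fin n) ≤ g.cycleType.sum + 1 at k2
    rw [hg] at k2
    simp at k2
    omega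

theorem card_alt (hn : 2 ≤ n) : 2 * Nat.card (alternatingGroup (Fin n)) = n.factorial := by
  haveI : Nontrivial (Fin n) := Fin.nontrivial_iff_two_le.2 hn
  have := nat_card_alternatingGroup (α := Fin n)
  rw [this]
  simp
  have h2 : 2 ∣ n.factorial := Nat.dvd_factorial (by norm_num) hn
  omega

theorem five {M : Subgroup (alternatingGroup (Fin 5))} (hM : Cov (alternatingGroup (Fin 5)) M) : M = ⊤ := by
  have h0 : Nat.card (alternatingGroup (Fin 5)) = 60 := by
    have := card_alt (n := 5) (by norm_num)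
    rw [show Nat.factorial 5 = 120 from rfl] at this
    omega
  have h1 := hM.dvd realP_five5
  have h2 := hM.dvd (realP_three (n := 5) (by norm_num))
  have h3 : 2 ^ 2 ∣ Nat.card M := hM.two_part.1 (by rw [h0]; norm_num)
  have h4 : 60 ∣ Nat.card M := by omega
  apply Subgroup.eq_top_of_card_eq
  apply Nat.dvd_antisymm (Subgroup.card_subgroup_dvd_card M)
  rw [h0]; exact h4

theorem six {M : Subgroup (alternatingGroup (Fin 6))} (hM : Cov (alternatingGroup (Fin 6)) M) : M = ⊤ := by
  have hs : IsSimpleGroup (alternatingGroup (Fin 6)) := alternatingGroup.isSimpleGroup (by simp)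
  have h0 : Nat.card (alternatingGroup (Fin 6)) = 360 := by
    have := card_alt (n := 6) (by norm_num)
    rw [show Nat.factorial 6 = 720 from rfl] at this
    omega
  have h1 := hM.dvd realP_five6
  have h2 := hM.dvd (realP_three (n := 6) (by norm_num))
  have h3 : 2 ^ 3 ∣ Nat.card M := hM.two_part.1 (by rw [h0]; norm_num)
  have h4 : 120 ∣ Nat.card M := by omega
  by_contra hne
  have h5 := Cfsg.Agent.Involutions.IndexFive.card_dvd_factorial_index M hne
  have h6 := M.card_mul_index
  rw [h0] at h5 h6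
  obtain ⟨k, hk⟩ := h4
  have h7 : M.index ≤ 3 := by
    rw [hk] at h6
    have hk0 : 0 < k := by
      rcases Nat.eq_zero_or_pos k with h | h
      · rw [h] at h6; omega
      · exact h
    by_contra hcon
    have h8 : 4 ≤ M.index := by omega
    have : 120 * 1 * 4 ≤ 120 * k * M.index := Nat.mul_le_mul (Nat.mul_le_mul_left _ hk0) h8
    omega
  have h9 := Nat.le_of_dvd (Nat.factorial_pos _) h5
  have h10 : M.index.factorial ≤ 6 := (Nat.factorial_le h7).trans (by decide)
  omega

/-- the alternating row -/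
theorem rowC_alt (hn : 5 ≤ n) : RowC (alternatingGroup (Fin n)) := by
  intro M hM hc
  apply hM.1
  by_cases h5 : n = 5
  · subst h5; exact five hc
  by_cases h6 : n = 6
  · subst h6; exact six hc
  exact eq_top hc (by omega)

universe u

theorem row_alt {T : Type u} [Group T] [Finite T] {n : ℕ} (h : Cfsg.Agent.H436.IsNamed (.alt n) T) : Row T := by
  obtain ⟨e⟩ := h.real
  exact (RowC.row (rowC_alt h.cond)).congr e.symm

end Cfsg.Agent.H683.OddMAlt
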