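import Cfsg.Agent.H683.CpqPerm

/-!
# Elements of a nonabelian minimal normal subgroup whose class size is divisible by two primes

`cs x` is the class size. `V` is a nonabelian minimal normal subgroup of `G`.

* `lemX` : `p ≠ q` do not divide `|V|` and some commuting `p`- and `q`-elements act nontrivially on `V`;
* `lemQ` : `p` does not divide `|V|`, `q` does, and some `p`-element acts nontrivially on `V`.
-/

set_option autoImplicit false

namespace Cfsg.Agent.H683.Cpq

open Subgroup Cfsg.Agent.H531 Cfsg.Agent.H531.TwoPrimes Cfsg.Agent.H531.LemX Cfsg.Agent.H531.Sizes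
  Cfsg.Agent.H531.ClassIndex Cfsg.Agent.H531.Red Cfsg.Agent.Lib.MinNormal Cfsg.Agent.Lib.MinNormalNonabelian

universe u

attribute [local instance] act

variable {G : Type u} [Group G]

theorem cs_dvd_of_le {x y : G} (h : ∀ g : G, Commute g x → Commute g y) : cs y ∣ cs x := by
  apply Subgroup.index_dvd_of_le
  intro g hg
  rw [mem_centralizer_singleton_iff] at hg ⊢
  exact h g hg

theorem cs_pow_dvd (x : G) (m : ℕ) : cs (x ^ m) ∣ cs x :=
  cs_dvd_of_le fun _ h => h.pow_right m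

/-- every prime not dividing `|V|` is at least `3` -/
theorem three_le [Finite G] {V : Subgroup G} [V.Normal] (H : Str V) {p : ℕ} (hp : p.Prime)
    (hpV : ¬ p ∣ Nat.card V) : 3 ≤ p := by
  have h2 := hp.two_le
  by_contra hlt
  have hp2 : p = 2 := by omega
  obtain ⟨T, hT⟩ := H.nonempty
  apply H.not_solvable ⟨T, hT⟩
  apply S0205.result
  rw [← Nat.not_even_iff_odd, even_iff_two_dvd]
  intro h
  apply hpV
  rw [hp2]
  exact h.trans (Subgroup.card_dvd_of_le hT.1)

theorem cop_comp [Finite G] {V : Subgroup G} [V.Normal] {p : ℕ} (hp : p.Prime)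
    (hpV : ¬ p ∣ Nat.card V) (T : minSet V) : p.Coprime (Nat.card T.1) := by
  rw [Nat.Prime.coprime_iff_not_dvd hp]
  exact fun h => hpV (h.trans (Subgroup.card_dvd_of_le T.2.1))

/-- a `p`-element moving components has a power moving components whose `p`-th power does not -/
theorem exists_mover {Ω : Type*} [MulAction G Ω] {p k : ℕ} {a : G} (hak : a ^ p ^ k = 1)
    (ha : ∃ T : Ω, a • T ≠ T) :
    ∃ i : ℕ, (∃ T : Ω, a ^ p ^ i • T ≠ T) ∧ ∀ T : Ω, (a ^ p ^ i) ^ p • T = T := by
  classical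
  have hex : ∃ j, ∀ T : Ω, a ^ p ^ j • T = T := ⟨k, fun T => by rw [hak, one_smul]⟩
  have h1 := Nat.find_spec hex
  have hj0 : Nat.find hex ≠ 0 := by
    intro h0
    rw [h0, pow_zero, pow_one] at h1
    obtain ⟨T, hT⟩ := ha
    exact hT (h1 T)
  obtain ⟨i, hi⟩ := Nat.exists_eq_succ_of_ne_zero hj0
  refine ⟨i, ?_, ?_⟩
  · have := Nat.find_min hex (m := i) (by omega)
    push Not at this
    exact this
  · intro T
    rw [← pow_mul, ← pow_succ]
    rw [hi] at h1
    exact h1 T

/-- an element normalising all components and not centralising `V` is nontrivial on some component -/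
theorem exists_comp {V : Subgroup G} [V.Normal] (H : Str V) {a : G} (ha : ∃ v ∈ V, ¬ Commute a v) :
    ∃ T : minSet V, ∃ t ∈ T.1, ¬ Commute a t := by
  by_contra hcon
  push Not at hcon
  obtain ⟨v, hv, hav⟩ := ha
  apply hav
  have hle : sSup (minSet V) ≤ centralizer {a} := by
    refine sSup_le fun U hU => ?_
    intro u hu
    rw [mem_centralizer_singleton_iff]
    exact (hcon ⟨U, hU⟩ u hu).eq.symm
  rw [H.gen] at hle
  exact (mem_centralizer_singleton_iff.1 (hle hv)).symm

/-- conjugating, an element normalising all components becomes nontrivial on a given one -/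
theorem exists_conj_comp [Finite G] {V : Subgroup G} [V.Normal] (H : Str V) {a : G} (ha : ∃ v ∈ V, ¬ Commute a v)
    (hfix : ∀ T : minSet V, a • T = T) (T₀ : minSet V) :
    ∃ g : G, (∀ T : minSet V, (g * a * g⁻¹) • T = T) ∧ ∃ t ∈ T₀.1, ¬ Commute (g * a * g⁻¹) t := by
  obtain ⟨T, t, ht, hat⟩ := exists_comp H ha
  obtain ⟨g, hg⟩ := H.trans T T₀
  refine ⟨g, fun T' => ?_, g * t * g⁻¹, ?_, ?_⟩
  · rw [mul_smul, mul_smul, hfix, smul_inv_smul]
  · rw [← hg, LemX.smul_coe]
    exact ⟨t, ht, rfl⟩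
  · intro h
    apply hat
    have h1 := h.map (MulAut.conj g⁻¹).toMonoidHom
    have e1 : (MulAut.conj g⁻¹).toMonoidHom (g * a * g⁻¹) = a := by
      show g⁻¹ * (g * a * g⁻¹) * g⁻¹⁻¹ = a
      group
    have e2 : (MulAut.conj g⁻¹).toMonoidHom (g * t * g⁻¹) = t := by
      show g⁻¹ * (g * t * g⁻¹) * g⁻¹⁻¹ = t
      group
    rwa [e1, e2] at h1

/-- a `p`-element which normalises, but does not centralise, `⟨s⟩` -/
theorem dvd_cs_of_good [Finite G] {p k : ℕ} (hp : p.Prime) {a s : G} (hak : a ^ p ^ k = 1)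
    (h1 : a * s * a⁻¹ ∈ zpowers s) (h2 : ¬ Commute a s) : p ∣ cs s :=
  prime_dvd_of_normalizes hp hak h1 (fun h => h2 (mul_inv_eq_iff_eq_mul.1 h))

theorem card_zpowers_dvd {G : Type*} [Group G] {a : G} {n : ℕ} (h : a ^ n = 1) : Nat.card (zpowers a) ∣ n := by
  rw [Nat.card_zpowers]
  exact orderOf_dvd_of_pow_eq_one h

/-- a good element of a component -/
theorem exists_good [Finite G] {V : Subgroup G} [V.Normal] (T : minSet V) (hFM : FM T.1) {p k : ℕ}
    (hcop : p.Coprime (Nat.card T.1)) {a : G} (hak : a ^ p ^ k = 1) (hfix : a • T = T)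
    (ha : ∃ t ∈ T.1, ¬ Commute a t) : ∃ s ∈ T.1, a * s * a⁻¹ ∈ zpowers s ∧ ¬ Commute a s := by
  have han : a ∈ normalizer (T.1 : Set G) := mem_normalizer_iff_smul.1 hfix
  obtain ⟨s, hsT, hs⟩ := exists_s T hFM (zpowers a) ((zpowers_le).2 han)
    ((hcop.pow_left k).coprime_dvd_left (card_zpowers_dvd hak))
  obtain ⟨hs1, hs2⟩ := hs a (mem_zpowers a)
  obtain ⟨t, ht, hat⟩ := ha
  exact ⟨s, hsT, hs1, fun h => hat (hs2 h t ht)⟩

/-- both primes move components -/
theorem case1 [Finite G] {V : Subgroup G} [V.Normal] (H : Str V) {p q : ℕ} (hp : p.Prime) (hq : q.Prime)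
    (hp3 : 3 ≤ p) (hq3 : 3 ≤ q) {a b : G} {k l : ℕ} (hak : a ^ p ^ k = 1) (hbl : b ^ q ^ l = 1)
    (T₀ T₁ : minSet V) (h0 : a • T₀ ≠ T₀) (h1 : b • T₁ ≠ T₁) (hap : a ^ p • T₀ = T₀) (hbq : b ^ q • T₁ = T₁)
    (H1 : ∀ k : ℕ, a ^ k • T₀ ≠ T₀ → a ^ k • T₀ ≠ T₁)
    (H2 : ∀ k : ℕ, b ^ k • T₁ ≠ T₁ → b ^ k • T₁ ≠ T₀ ∧ ∀ l : ℕ, a ^ l • T₀ ≠ b ^ k • T₁) :
    ∃ v ∈ V, p ∣ cs v ∧ q ∣ cs v := by
  classical
  obtain ⟨x, y, z, hx1, hy1, hz1, hxy, hxz, hyz⟩ := exists_three (H.not_solvable T₀)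
  choose c hc using fun T => H.trans T₀ T
  let f : minSet V → G := fun T =>
    if T = T₀ ∨ T = T₁ then c T * z * (c T)⁻¹
    else if ∃ k : ℕ, a ^ k • T₀ = T then c T * x * (c T)⁻¹
    else if ∃ k : ℕ, b ^ k • T₁ = T then c T * y * (c T)⁻¹ else 1
  have hmem : ∀ (T : minSet V) (w : T₀.1), c T * w * (c T)⁻¹ ∈ T.1 := by
    intro T w
    have h2 : T.1 = T₀.1.map (MulAut.conj (c T)).toMonoidHom := congrArg Subtype.val (hc T).symm
    rw [h2]
    exact ⟨w, w.2, rfl⟩
  have hf : ∀ T, f T ∈ T.1 := by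
    intro T
    show (if T = T₀ ∨ T = T₁ then c T * z * (c T)⁻¹
      else if ∃ k : ℕ, a ^ k • T₀ = T then c T * x * (c T)⁻¹
      else if ∃ k : ℕ, b ^ k • T₁ = T then c T * y * (c T)⁻¹ else (1 : G)) ∈ T.1
    split_ifs
    · exact hmem T z
    · exact hmem T x
    · exact hmem T y
    · exact one_mem _
  have hord : ∀ T, orderOf (f T) = if T = T₀ ∨ T = T₁ then orderOf z
      else if ∃ k : ℕ, a ^ k • T₀ = T then orderOf x
      else if ∃ k : ℕ, b ^ k • T₁ = T then orderOf y else 1 := by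
    intro T
    show orderOf (if T = T₀ ∨ T = T₁ then c T * z * (c T)⁻¹
      else if ∃ k : ℕ, a ^ k • T₀ = T then c T * x * (c T)⁻¹
      else if ∃ k : ℕ, b ^ k • T₁ = T then c T * y * (c T)⁻¹ else (1 : G)) = _
    split_ifs
    · rw [orderOf_conj', Subgroup.orderOf_coe]
    · rw [orderOf_conj', Subgroup.orderOf_coe]
    · rw [orderOf_conj', Subgroup.orderOf_coe]
    · exact orderOf_one
  obtain ⟨v, hvV, hv⟩ := H.build f hf
  have hinv : ∀ g : G, Commute g v → ∀ T, orderOf (f (g • T)) = orderOf (f T) := by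
    intro g hg T
    rw [hv g hg T, orderOf_conj']
  -- the special points
  have hz : ∀ T, orderOf (f T) = orderOf z → T = T₀ ∨ T = T₁ := by
    intro T hT
    by_contra hcon
    rw [hord, if_neg hcon] at hT
    split_ifs at hT
    · exact hxz hT
    · exact hyz hT
    · exact hz1 hT.symm
  have hz' : ∀ T, (T = T₀ ∨ T = T₁) → orderOf (f T) = orderOf z := by
    intro T hT
    rw [hord, if_pos hT]
  have hxx : ∀ T, orderOf (f T) = orderOf x → ∃ k : ℕ, a ^ k • T₀ = T := by
    intro T hT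
    rw [hord] at hT
    split_ifs at hT with h2 h3
    · exact absurd hT.symm hxz
    · exact h3
    · exact absurd hT.symm hxy
    · exact absurd hT.symm hx1
  have hyy : ∀ T, orderOf (f T) = orderOf y → ∃ k : ℕ, b ^ k • T₁ = T := by
    intro T hT
    rw [hord] at hT
    split_ifs at hT with h2 h3 h4
    · exact absurd hT.symm hyz
    · exact absurd hT hxy
    · exact h4
    · exact absurd hT.symm hy1
  -- elements of odd prime power order fix the special points
  have hsp : ∀ (r m : ℕ) (g : G), r.Prime → 3 ≤ r → g ^ r ^ m = 1 → Commute g v → g • T₀ = T₀ ∧ g • T₁ = T₁ := by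
    intro r m g hr h3 hgr hg
    have hΔ : ∀ T ∈ ({T₀, T₁} : Finset (minSet V)), g • T ∈ ({T₀, T₁} : Finset (minSet V)) := by
      intro T hT
      rw [Finset.mem_insert, Finset.mem_singleton] at hT ⊢
      exact hz _ ((hinv g hg T).trans (hz' T hT))
    have hcard : ({T₀, T₁} : Finset (minSet V)).card < r := lt_of_le_of_lt Finset.card_le_two (by omega)
    exact ⟨fix_of_small hr hgr _ hΔ hcard (by simp), fix_of_small hr hgr _ hΔ hcard (by simp)⟩
  refine ⟨v, hvV, ?_, ?_⟩
  · refine dvd_index_of_move hp hak h0 hap _ ?_ ?_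
    · rintro h hh ⟨m, hm⟩
      exact (hsp p m h hp hp3 hm (mem_centralizer_singleton_iff.1 hh)).1
    · intro h hh k hk
      have h3 : ¬ (a ^ k • T₀ = T₀ ∨ a ^ k • T₀ = T₁) := by
        rintro (h | h)
        · exact hk h
        · exact H1 k hk h
      obtain ⟨l, hl⟩ := hxx (h • a ^ k • T₀) (by
        rw [hinv _ (mem_centralizer_singleton_iff.1 hh), hord, if_neg h3, if_pos ⟨k, rfl⟩])
      exact ⟨l, hl.symm⟩
  · refine dvd_index_of_move hq hbl h1 hbq _ ?_ ?_
    · rintro h hh ⟨m, hm⟩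
      exact (hsp q m h hq hq3 hm (mem_centralizer_singleton_iff.1 hh)).2
    · intro h hh k hk
      obtain ⟨h4, h5⟩ := H2 k hk
      have h3 : ¬ (b ^ k • T₁ = T₀ ∨ b ^ k • T₁ = T₁) := by
        rintro (h | h)
        · exact h4 h
        · exact hk h
      obtain ⟨l, hl⟩ := hyy (h • b ^ k • T₁) (by
        rw [hinv _ (mem_centralizer_singleton_iff.1 hh), hord, if_neg h3,
          if_neg (by rintro ⟨l, hl⟩; exact h5 l hl), if_pos ⟨k, rfl⟩])
      exact ⟨l, hl.symm⟩

/-- `a` moves `T₀`, and `s` is an element of `T₀`: there is an element `v` of `V` with `C(v) ≤ C(s)` and class size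
divisible by `p` -/
theorem case2 [Finite G] {V : Subgroup G} [V.Normal] (H : Str V) {p : ℕ} (hp : p.Prime)
    {a : G} {k : ℕ} (hak : a ^ p ^ k = 1) (T₀ : minSet V) (h0 : a • T₀ ≠ T₀) (hap : a ^ p • T₀ = T₀)
    {s : G} (hsT : s ∈ T₀.1) (hsne : orderOf s ≠ 1) :
    ∃ v ∈ V, p ∣ cs v ∧ ∀ g : G, Commute g v → Commute g s := by
  classical
  obtain ⟨x, hx1, hxs⟩ : ∃ x : T₀.1, orderOf x ≠ 1 ∧ orderOf x ≠ orderOf s := by
    obtain ⟨x, y, z, hx1, hy1, hz1, hxy, hxz, hyz⟩ := exists_three (H.not_solvable T₀)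
    by_cases h : orderOf x = orderOf s
    · exact ⟨y, hy1, fun h2 => hxy (h.trans h2.symm)⟩
    · exact ⟨x, hx1, h⟩
  choose c hc using fun T => H.trans T₀ T
  let f : minSet V → G := fun T =>
    if T = T₀ then s else if ∃ k : ℕ, a ^ k • T₀ = T then c T * x * (c T)⁻¹ else 1
  have hmem : ∀ (T : minSet V) (w : T₀.1), c T * w * (c T)⁻¹ ∈ T.1 := by
    intro T w
    have h2 : T.1 = T₀.1.map (MulAut.conj (c T)).toMonoidHom := congrArg Subtype.val (hc T).symm
    rw [h2]
    exact ⟨w, w.2, rfl⟩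
  have hf : ∀ T, f T ∈ T.1 := by
    intro T
    show (if T = T₀ then s else if ∃ k : ℕ, a ^ k • T₀ = T then c T * x * (c T)⁻¹ else (1 : G)) ∈ T.1
    split_ifs with h2
    · rw [h2]; exact hsT
    · exact hmem T x
    · exact one_mem _
  have hord : ∀ T, orderOf (f T) = if T = T₀ then orderOf s
      else if ∃ k : ℕ, a ^ k • T₀ = T then orderOf x else 1 := by
    intro T
    show orderOf (if T = T₀ then s else if ∃ k : ℕ, a ^ k • T₀ = T then c T * x * (c T)⁻¹ else (1 : G)) = _
    split_ifs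
    · rfl
    · rw [orderOf_conj', Subgroup.orderOf_coe]
    · exact orderOf_one
  obtain ⟨v, hvV, hv⟩ := H.build f hf
  have hinv : ∀ g : G, Commute g v → ∀ T, orderOf (f (g • T)) = orderOf (f T) := by
    intro g hg T
    rw [hv g hg T, orderOf_conj']
  have hs0 : ∀ T, orderOf (f T) = orderOf s → T = T₀ := by
    intro T hT
    by_contra hcon
    rw [hord, if_neg hcon] at hT
    split_ifs at hT
    · exact hxs hT
    · exact hsne hT.symm
  have hxx : ∀ T, orderOf (f T) = orderOf x → ∃ k : ℕ, a ^ k • T₀ = T := by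
    intro T hT
    rw [hord] at hT
    split_ifs at hT with h2 h3
    · exact absurd hT.symm hxs
    · exact h3
    · exact absurd hT.symm hx1
  have hsp : ∀ g : G, Commute g v → g • T₀ = T₀ := by
    intro g hg
    apply hs0
    rw [hinv g hg, hord, if_pos rfl]
  have hfs : f T₀ = s := if_pos rfl
  refine ⟨v, hvV, ?_, ?_⟩
  · refine dvd_index_of_move hp hak h0 hap _ ?_ ?_
    · rintro h hh -
      exact hsp h (mem_centralizer_singleton_iff.1 hh)
    · intro h hh k hk
      obtain ⟨l, hl⟩ := hxx (h • a ^ k • T₀) (by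
        rw [hinv _ (mem_centralizer_singleton_iff.1 hh), hord, if_neg hk, if_pos ⟨k, rfl⟩])
      exact ⟨l, hl.symm⟩
  · intro g hcom
    have h2 := hv _ hcom T₀
    rw [hsp _ hcom, hfs] at h2
    show g * s = s * g
    nth_rewrite 2 [h2]
    group

/-- two different components -/
theorem case3 [Finite G] {V : Subgroup G} [V.Normal] (H : Str V) {p q : ℕ} (hp : p.Prime) (hq : q.Prime)
    (hp3 : 3 ≤ p) (hq3 : 3 ≤ q) {a b : G} {k l : ℕ} (hak : a ^ p ^ k = 1) (hbl : b ^ q ^ l = 1)
    (T₀ T₁ : minSet V) (hne : T₀ ≠ T₁) {s t : G} (hs : s ∈ T₀.1) (ht : t ∈ T₁.1)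
    (hs1 : a * s * a⁻¹ ∈ zpowers s) (hs2 : ¬ Commute a s) (ht1 : b * t * b⁻¹ ∈ zpowers t) (ht2 : ¬ Commute b t) :
    ∃ v ∈ V, p ∣ cs v ∧ q ∣ cs v := by
  classical
  have hsne : s ≠ 1 := by
    rintro rfl
    exact hs2 (Commute.one_right a)
  have htne : t ≠ 1 := by
    rintro rfl
    exact ht2 (Commute.one_right b)
  let f : minSet V → G := fun T => if T = T₀ then s else if T = T₁ then t else 1
  have hf : ∀ T, f T ∈ T.1 := by
    intro T
    show (if T = T₀ then s else if T = T₁ then t else (1 : G)) ∈ T.1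
    split_ifs with h2 h3
    · rw [h2]; exact hs
    · rw [h3]; exact ht
    · exact one_mem _
  obtain ⟨v, hvV, hv⟩ := H.build f hf
  have hf0 : f T₀ = s := if_pos rfl
  have hf1 : f T₁ = t := by
    show (if T₁ = T₀ then s else if T₁ = T₁ then t else (1 : G)) = t
    rw [if_neg hne.symm, if_pos rfl]
  have hne1 : ∀ T, f T ≠ 1 ↔ T = T₀ ∨ T = T₁ := by
    intro T
    constructor
    · intro h
      by_contra hcon
      push Not at hcon
      apply h
      show (if T = T₀ then s else if T = T₁ then t else (1 : G)) = 1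
      rw [if_neg hcon.1, if_neg hcon.2]
    · rintro (rfl | rfl)
      · rw [hf0]; exact hsne
      · rw [hf1]; exact htne
  have hsp : ∀ (r m : ℕ) (g : G), r.Prime → 3 ≤ r → g ^ r ^ m = 1 → Commute g v → g • T₀ = T₀ ∧ g • T₁ = T₁ := by
    intro r m g hr h3 hgr hg
    have hΔ : ∀ T ∈ ({T₀, T₁} : Finset (minSet V)), g • T ∈ ({T₀, T₁} : Finset (minSet V)) := by
      intro T hT
      rw [Finset.mem_insert, Finset.mem_singleton] at hT ⊢
      rw [← hne1] at hT ⊢
      rw [hv g hg T]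
      intro h
      apply hT
      have : f T = g⁻¹ * (g * f T * g⁻¹) * g := by group
      rw [this, h]; group
    have hcard : ({T₀, T₁} : Finset (minSet V)).card < r := lt_of_le_of_lt Finset.card_le_two (by omega)
    exact ⟨fix_of_small hr hgr _ hΔ hcard (by simp), fix_of_small hr hgr _ hΔ hcard (by simp)⟩
  have key : ∀ (g : G), Commute g v → ∀ (T : minSet V), g • T = T → Commute g (f T) := by
    intro g hcom T hT
    have h2 := hv _ hcom T
    rw [hT] at h2
    show g * f T = f T * g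
    nth_rewrite 2 [h2]
    group
  have hfin : ∀ (r : ℕ), r.Prime → ∀ y : G, r ∣ cs y →
      (∀ (m : ℕ) (g : G), g ^ r ^ m = 1 → Commute g v → Commute g y) → r ∣ cs v := by
    intro r hr y hry h
    by_contra hcon
    have : Fact r.Prime := ⟨hr⟩
    obtain ⟨R, hR⟩ := (not_dvd_iff v).1 hcon
    apply (not_dvd_iff (r := r) y).2 ⟨R, fun g hg => ?_⟩ hry
    obtain ⟨m, hm⟩ := R.isPGroup' ⟨g, hg⟩
    exact h m g (congrArg Subtype.val hm) (hR g hg)
  refine ⟨v, hvV, ?_, ?_⟩
  · refine hfin p hp s (dvd_cs_of_good hp hak hs1 hs2) ?_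
    intro m g hg hcom
    have := key g hcom T₀ (hsp p m g hp hp3 hg hcom).1
    rwa [hf0] at this
  · refine hfin q hq t (dvd_cs_of_good hq hbl ht1 ht2) ?_
    intro m g hg hcom
    have := key g hcom T₁ (hsp q m g hq hq3 hg hcom).2
    rwa [hf1] at this

/-- **Lemma X.** -/
theorem lemX [Finite G] {V : Subgroup G} [V.Normal] (H : Str V) (hFM : ∀ T : minSet V, FM T.1) {p q : ℕ}
    (hp : p.Prime) (hq : q.Prime) (hpq : p ≠ q) (hpV : ¬ p ∣ Nat.card V) (hqV : ¬ q ∣ Nat.card V)
    {a b : G} {k l : ℕ} (hak : a ^ p ^ k = 1) (hbl : b ^ q ^ l = 1) (hab : Commute a b)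
    (ha : ∃ v ∈ V, ¬ Commute a v) (hb : ∃ v ∈ V, ¬ Commute b v) :
    ∃ v ∈ V, p ∣ cs v ∧ q ∣ cs v := by
  classical
  have hp3 := three_le H hp hpV
  have hq3 := three_le H hq hqV
  have hcpq : p.Coprime q := (Nat.coprime_primes hp hq).2 hpq
  by_cases hma : ∀ T : minSet V, a • T = T
  · by_cases hmb : ∀ T : minSet V, b • T = T
    · -- nothing moves
      obtain ⟨T₀, hT₀⟩ := H.nonempty
      set T₀ : minSet V := ⟨T₀, hT₀⟩
      by_cases hone : ∃ T₁ : minSet V, T₀ ≠ T₁
      · obtain ⟨T₁, hne⟩ := hone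
        obtain ⟨g, hg1, hg2⟩ := exists_conj_comp H ha hma T₀
        obtain ⟨h, hh1, hh2⟩ := exists_conj_comp H hb hmb T₁
        have hak' : (g * a * g⁻¹) ^ p ^ k = 1 := by rw [conj_pow, hak, mul_one, mul_inv_cancel]
        have hbl' : (h * b * h⁻¹) ^ q ^ l = 1 := by rw [conj_pow, hbl, mul_one, mul_inv_cancel]
        obtain ⟨s, hs, hs1, hs2⟩ := exists_good T₀ (hFM T₀) (cop_comp hp hpV T₀) hak' (hg1 T₀) hg2
        obtain ⟨t, ht, ht1, ht2⟩ := exists_good T₁ (hFM T₁) (cop_comp hq hqV T₁) hbl' (hh1 T₁) hh2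
        exact case3 H hp hq hp3 hq3 hak' hbl' T₀ T₁ hne hs ht hs1 hs2 ht1 ht2
      · push Not at hone
        obtain ⟨T, t, ht, hat⟩ := exists_comp H ha
        obtain ⟨T', t', ht', hbt⟩ := exists_comp H hb
        rw [← hone T] at ht
        rw [← hone T'] at ht'
        have han : a ∈ normalizer (T₀.1 : Set G) := mem_normalizer_iff_smul.1 (hma T₀)
        have hbn : b ∈ normalizer (T₀.1 : Set G) := mem_normalizer_iff_smul.1 (hmb T₀)
        have hpow : (a * b) ^ (p ^ k * q ^ l) = 1 := by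
          rw [hab.mul_pow, pow_mul, hak, one_pow, one_mul, mul_comm, pow_mul, hbl, one_pow]
        have hcop : (p ^ k * q ^ l).Coprime (Nat.card T₀.1) :=
          ((cop_comp hp hpV T₀).pow_left k).mul_left ((cop_comp hq hqV T₀).pow_left l)
        obtain ⟨s, hsT, hs⟩ := exists_s T₀ (hFM T₀) (zpowers (a * b)) ((zpowers_le).2 (mul_mem han hbn))
          (hcop.coprime_dvd_left (card_zpowers_dvd hpow))
        have hcc : (p ^ k).Coprime (q ^ l) := (hcpq.pow_left k).pow_right l
        have hmza : a ∈ zpowers (a * b) := by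
          refine mem_of_pow_coprime _ hcc (by rw [hak]; exact one_mem _) ?_
          have h2 : (a * b) ^ q ^ l = a ^ q ^ l := by rw [hab.mul_pow, hbl, mul_one]
          rw [← h2]
          exact pow_mem (mem_zpowers _) _
        have hmzb : b ∈ zpowers (a * b) := by
          refine mem_of_pow_coprime _ hcc ?_ (by rw [hbl]; exact one_mem _)
          have h2 : (a * b) ^ p ^ k = b ^ p ^ k := by rw [hab.mul_pow, hak, one_mul]
          rw [← h2]
          exact pow_mem (mem_zpowers _) _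
        obtain ⟨hsb1, hsb2⟩ := hs b hmzb
        obtain ⟨hsa1, hsa2⟩ := hs a hmza
        refine ⟨s, T₀.2.1 hsT, dvd_cs_of_good hp hak hsa1 (fun h => hat (hsa2 h t ht)),
          dvd_cs_of_good hq hbl hsb1 (fun h => hbt (hsb2 h t' ht'))⟩
    · -- only `b` moves
      push Not at hmb
      obtain ⟨i, ⟨T₀, hT₀⟩, hi⟩ := exists_mover hbl hmb
      have hbl' : (b ^ q ^ i) ^ q ^ l = 1 := by rw [← pow_mul, mul_comm, pow_mul, hbl, one_pow]
      obtain ⟨g, hg1, hg2⟩ := exists_conj_comp H ha hma T₀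
      have hak' : (g * a * g⁻¹) ^ p ^ k = 1 := by rw [conj_pow, hak, mul_one, mul_inv_cancel]
      obtain ⟨s, hs, hs1, hs2⟩ := exists_good T₀ (hFM T₀) (cop_comp hp hpV T₀) hak' (hg1 T₀) hg2
      obtain ⟨v, hv, h1, h2⟩ := case2 H hq hbl' T₀ hT₀ (hi T₀) hs (by
        rw [Ne, orderOf_eq_one_iff]
        rintro rfl
        exact hs2 (Commute.one_right _))
      exact ⟨v, hv, (dvd_cs_of_good hp hak' hs1 hs2).trans (cs_dvd_of_le h2), h1⟩
  · push Not at hma
    obtain ⟨i, ⟨T₀, hT₀⟩, hi⟩ := exists_mover hak hma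
    have hak' : (a ^ p ^ i) ^ p ^ k = 1 := by rw [← pow_mul, mul_comm, pow_mul, hak, one_pow]
    by_cases hmb : ∀ T : minSet V, b • T = T
    · -- only `a` moves
      obtain ⟨g, hg1, hg2⟩ := exists_conj_comp H hb hmb T₀
      have hbl' : (g * b * g⁻¹) ^ q ^ l = 1 := by rw [conj_pow, hbl, mul_one, mul_inv_cancel]
      obtain ⟨s, hs, hs1, hs2⟩ := exists_good T₀ (hFM T₀) (cop_comp hq hqV T₀) hbl' (hg1 T₀) hg2
      obtain ⟨v, hv, h1, h2⟩ := case2 H hp hak' T₀ hT₀ (hi T₀) hs (by
        rw [Ne, orderOf_eq_one_iff]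
        rintro rfl
        exact hs2 (Commute.one_right _))
      exact ⟨v, hv, h1, (dvd_cs_of_good hq hbl' hs1 hs2).trans (cs_dvd_of_le h2)⟩
    · -- both move
      push Not at hmb
      obtain ⟨j, ⟨T₁, hT₁⟩, hj⟩ := exists_mover hbl hmb
      have hbl' : (b ^ q ^ j) ^ q ^ l = 1 := by rw [← pow_mul, mul_comm, pow_mul, hbl, one_pow]
      set a' : G := a ^ p ^ i with ha'
      set b' : G := b ^ q ^ j with hb'
      have hab' : Commute a' b' := hab.pow_pow _ _
      by_cases hboth : ∃ T : minSet V, a' • T ≠ T ∧ b' • T ≠ T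
      · obtain ⟨T, haT, hbT⟩ := hboth
        refine case1 H hp hq hp3 hq3 hak' hbl' T T haT hbT (hi T) (hj T) (fun k hk => hk)
          (fun k hk => ⟨hk, fun l hl => hk ?_⟩)
        have h1 : ∀ i : ℕ, (a' ^ l) ^ i • T = (b' ^ k) ^ i • T := by
          intro i
          induction i with
          | zero => rw [pow_zero, pow_zero]
          | succ i ih =>
            rw [pow_succ', mul_smul, ih, ← mul_smul, ((hab'.pow_pow l k).pow_right i).eq, mul_smul, hl, ← mul_smul,
              ← pow_succ]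
        have hpp : ∀ (c : G) (n : ℕ), (∀ T : minSet V, c ^ n • T = T) → ∀ m : ℕ, (c ^ m) ^ n • T = T := by
          intro c n hc m
          rw [← pow_mul, mul_comm, pow_mul]
          induction m with
          | zero => rw [pow_zero, one_smul]
          | succ m ih => rw [pow_succ, mul_smul, hc, ih]
        have h2 : (b' ^ k) ^ p • T = T := by
          rw [← h1]
          exact hpp a' p hi l
        exact smul_eq_of_coprime hcpq h2 (hpp b' q hj k)
      · push Not at hboth
        have hbT₀ : b' • T₀ = T₀ := hboth T₀ hT₀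
        have haT₁ : a' • T₁ = T₁ := by
          by_contra h
          exact hT₁ (hboth T₁ h)
        refine case1 H hp hq hp3 hq3 hak' hbl' T₀ T₁ hT₀ hT₁ (hi T₀) (hj T₁) (fun k hk h => ?_)
          (fun k hk => ⟨fun h => ?_, fun l hl => ?_⟩)
        · apply hT₀
          have h2 : a' • a' ^ k • T₀ = a' ^ k • T₀ := by rw [h, haT₁]
          rw [← mul_smul, (Commute.refl a').pow_right k |>.eq, mul_smul] at h2
          exact smul_left_cancel _ h2
        · apply hT₁
          have h2 : b' • b' ^ k • T₁ = b' ^ k • T₁ := by rw [h, hbT₀]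
          rw [← mul_smul, (Commute.refl b').pow_right k |>.eq, mul_smul] at h2
          exact smul_left_cancel _ h2
        · apply hT₀
          have h2 : a' • b' ^ k • T₁ = b' ^ k • T₁ := by
            rw [← mul_smul, (hab'.pow_right k).eq, mul_smul, haT₁]
          rw [← hl, ← mul_smul, (Commute.refl a').pow_right l |>.eq, mul_smul] at h2
          exact smul_left_cancel _ h2

/-- The condition `(TQ)` on the finite simple group `S`. -/
def TQ (S : Type u) [Group S] : Prop :=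
  ∀ (p q : ℕ) (α : MulAut S), p.Prime → q.Prime → ¬ p ∣ Nat.card S → α ^ p = 1 → α ≠ 1 → q ∣ Nat.card S →
    ∃ (x : S) (m : ℕ), α (x ^ m) ∈ zpowers (x ^ m) ∧ α (x ^ m) ≠ x ^ m ∧ q ∣ (centralizer ({x} : Set S)).index

theorem relIndex_comp_dvd [Finite G] {V : Subgroup G} [V.Normal] (T : minSet V) (s : G) :
    (centralizer ({s} : Set G)).relIndex T.1 ∣ cs s := by
  have hmem := T.2
  rw [mem_minSet] at hmem
  exact (relIndex_dvd_relIndex _ hmem.1 hmem.2.2.1).trans (relIndex_dvd_index _ V)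

/-- **the case** `q ∣ |V|` -/
theorem lemQ [Finite G] {V : Subgroup G} [V.Normal] (H : Str V) (hTQ : ∀ T : minSet V, TQ T.1) {p q : ℕ}
    (hp : p.Prime) (hq : q.Prime) (hpV : ¬ p ∣ Nat.card V) (hqV : ∀ T : minSet V, q ∣ Nat.card T.1)
    {a : G} {k : ℕ} (hak : a ^ p ^ k = 1) (ha : ∃ v ∈ V, ¬ Commute a v) :
    ∃ v ∈ V, p ∣ cs v ∧ q ∣ cs v := by
  classical
  have hqf : Fact q.Prime := ⟨hq⟩
  by_cases hma : ∀ T : minSet V, a • T = T
  · obtain ⟨T, t, ht, hat⟩ := exists_comp H ha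
    -- a power inducing an automorphism of order `p`
    have hex : ∃ j, ∀ t ∈ T.1, Commute (a ^ p ^ j) t := ⟨k, fun t _ => by rw [hak]; exact Commute.one_left t⟩
    have h1 := Nat.find_spec hex
    have hj0 : Nat.find hex ≠ 0 := by
      intro h0
      rw [h0, pow_zero, pow_one] at h1
      exact hat (h1 t ht)
    obtain ⟨i, hi⟩ := Nat.exists_eq_succ_of_ne_zero hj0
    have h2 := Nat.find_min hex (m := i) (by omega)
    rw [hi] at h1
    set b : G := a ^ p ^ i with hb
    have h1' : ∀ t ∈ T.1, Commute (b ^ p) t := by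
      intro t ht
      rw [hb, ← pow_mul, ← pow_succ]
      exact h1 t ht
    have hbk : b ^ p ^ k = 1 := by rw [hb, ← pow_mul, mul_comm, pow_mul, hak, one_pow]
    have han : a ∈ normalizer (T.1 : Set G) := mem_normalizer_iff_smul.1 (hma T)
    have hbn : b ∈ normalizer (T.1 : Set G) := pow_mem han _
    set α : MulAut T.1 := T.1.normalizerMonoidHom ⟨b, hbn⟩ with hα
    have hker : ∀ y : normalizer (T.1 : Set G), T.1.normalizerMonoidHom y = 1 ↔
        ∀ t ∈ T.1, Commute (y : G) t := by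
      intro y
      rw [← MonoidHom.mem_ker, Subgroup.normalizerMonoidHom_ker, Subgroup.mem_subgroupOf,
        Subgroup.mem_centralizer_iff]
      exact ⟨fun h t ht => (h t ht).symm, fun h t ht => (h t ht).symm⟩
    have hαp : α ^ p = 1 := by
      rw [hα, ← map_pow, hker]
      exact h1'
    have hα1 : α ≠ 1 := fun hc => h2 ((hker _).1 hc)
    obtain ⟨x, m, hx1, hx2, hx3⟩ := hTQ T p q α hp hq
      (fun h => hpV (h.trans (Subgroup.card_dvd_of_le T.2.1))) hαp hα1 (hqV T)
    have hαx : ((α (x ^ m) : T.1) : G) = b * (x : G) ^ m * b⁻¹ := rfl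
    refine ⟨x, T.2.1 x.2, ?_, ?_⟩
    · refine (prime_dvd_of_normalizes hp hbk (x := (x : G) ^ m) ?_ ?_).trans (cs_pow_dvd (x : G) m)
      · obtain ⟨n, hn⟩ := mem_zpowers_iff.1 hx1
        refine mem_zpowers_iff.2 ⟨n, ?_⟩
        rw [← hαx, ← hn]
        rfl
      · intro h
        apply hx2
        apply Subtype.ext
        rw [hαx, h]
        rfl
    · refine dvd_trans ?_ (relIndex_comp_dvd T (x : G))
      rw [Subgroup.relIndex, subgroupOf_centralizer]
      exact hx3
  · push Not at hma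
    obtain ⟨i, ⟨T₀, hT₀⟩, hi⟩ := exists_mover hak hma
    have hak' : (a ^ p ^ i) ^ p ^ k = 1 := by rw [← pow_mul, mul_comm, pow_mul, hak, one_pow]
    -- an element whose class size is divisible by `q`
    obtain ⟨s, hs⟩ : ∃ s : T₀.1, q ∣ cs s := by
      by_contra hcon
      push Not at hcon
      have : IsSimpleGroup T₀.1 := H.simple T₀
      obtain ⟨R⟩ : Nonempty (Sylow q T₀.1) := inferInstance
      have h1 := le_center hcon R
      have h2 : (R : Subgroup T₀.1) ≠ ⊥ := by
        intro h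
        have h3 := R.card_eq_multiplicity
        rw [h, Subgroup.card_bot] at h3
        have h4 := (Nat.Prime.factorization_pos_of_dvd hq Nat.card_pos.ne' (hqV T₀))
        have h5 := Nat.one_lt_pow h4.ne' hq.one_lt
        omega
      obtain ⟨⟨z, hz⟩, hz1⟩ := Subgroup.ne_bot_iff_exists_ne_one.1 h2
      have h3 := Subgroup.mem_center_iff.1 (h1 hz)
      apply hz1
      apply Subtype.ext
      have h4 := H.cen T₀ (z : G) z.2 (fun t ht => (congrArg Subtype.val (h3 ⟨t, ht⟩)).symm)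
      exact Subtype.ext h4
    obtain ⟨v, hv, h1, h2⟩ := case2 H hp hak' T₀ hT₀ (hi T₀) s.2 (by
      rw [Subgroup.orderOf_coe, Ne, orderOf_eq_one_iff]
      rintro rfl
      have h1 : cs (1 : T₀.1) = 1 := by
        have : centralizer ({(1 : T₀.1)} : Set T₀.1) = ⊤ := by
          rw [eq_top_iff]
          intro y _
          rw [mem_centralizer_singleton_iff, mul_one, one_mul]
        rw [cs, this, Subgroup.index_top]
      rw [h1] at hs
      exact hq.one_lt.ne' (Nat.dvd_one.1 hs))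
    refine ⟨v, hv, h1, dvd_trans ?_ (cs_dvd_of_le h2)⟩
    refine dvd_trans ?_ (relIndex_comp_dvd T₀ (s : G))
    rw [Subgroup.relIndex, subgroupOf_centralizer]
    exact hs

end Cfsg.Agent.H683.Cpq
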