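import Mathlib
import Cfsg.Agent.H683.TwoSize

/-!
# Groups with two class sizes: the partition case is impossible
-/

set_option autoImplicit false

namespace Cfsg.Agent.H683.TwoSize

open Subgroup
open scoped commutatorElement

variable {G : Type*} [Group G]

/-- Elements of `r`-power order outside of the center force `r ∣ |K : Z|`. -/
theorem dvd_relIndex_center [Finite G] {r k : ℕ} (hr : r.Prime) {K : Subgroup G} {y : G}
    (hyK : y ∈ K) (hyZ : y ∉ center G) (hy : orderOf y = r ^ k) : r ∣ (center G).relIndex K := by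
  have h1 : orderOf (QuotientGroup.mk' ((center G).subgroupOf K) ⟨y, hyK⟩) ∣ r ^ k := by
    rw [← hy, ← Subgroup.orderOf_mk y hyK]
    exact orderOf_map_dvd _ _
  obtain ⟨j, -, hj⟩ := (Nat.dvd_prime_pow hr).1 h1
  have hj0 : j ≠ 0 := by
    rintro rfl
    rw [pow_zero, orderOf_eq_one_iff] at hj
    apply hyZ
    have := (QuotientGroup.eq_one_iff _).1 hj
    exact this
  have h2 : orderOf (QuotientGroup.mk' ((center G).subgroupOf K) ⟨y, hyK⟩) ∣
      (center G).relIndex K := orderOf_dvd_natCard _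
  rw [hj] at h2
  exact (dvd_pow_self r hj0).trans h2

theorem exists_of_dvd_relIndex_center [Finite G] {r : ℕ} (hr : r.Prime) {K : Subgroup G}
    (h : r ∣ (center G).relIndex K) :
    ∃ y ∈ K, y ∉ center G ∧ y ^ r ∈ center G ∧ ∃ k, orderOf y = r ^ k := by
  have : Fact r.Prime := ⟨hr⟩
  obtain ⟨c, hc⟩ := exists_prime_orderOf_dvd_card' (G := K ⧸ (center G).subgroupOf K) r h
  obtain ⟨x, rfl⟩ := QuotientGroup.mk_surjective c
  obtain ⟨a, b, hab, hcomm, ⟨k, hk⟩, hb, haz, hbz⟩ :=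
    Cfsg.Agent.H524.ClassSize.exists_decomp r x
  have h2 : orderOf (b : K ⧸ (center G).subgroupOf K) ∣ r := by
    rw [← hc]
    obtain ⟨n, hn⟩ := hbz
    rw [← hn]
    change orderOf ((x : K ⧸ (center G).subgroupOf K) ^ n) ∣ _
    exact orderOf_dvd_of_mem_zpowers ⟨n, rfl⟩
  have h3 : orderOf (b : K ⧸ (center G).subgroupOf K) ∣ orderOf b :=
    orderOf_map_dvd (QuotientGroup.mk' ((center G).subgroupOf K)) b
  have h4 : orderOf (b : K ⧸ (center G).subgroupOf K) = 1 :=
    Nat.eq_one_of_dvd_coprimes hb h3 h2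
  rw [orderOf_eq_one_iff] at h4
  have h5 : (x : K ⧸ (center G).subgroupOf K) = a := by
    rw [← hab, QuotientGroup.mk_mul, h4, mul_one]
  refine ⟨a, a.2, ?_, ?_, k, ?_⟩
  · intro h6
    have h7 : (a : K ⧸ (center G).subgroupOf K) = 1 := (QuotientGroup.eq_one_iff _).2 h6
    rw [h5, h7, orderOf_one] at hc
    exact hr.one_lt.ne hc
  · have h7 : ((a ^ r : K) : K ⧸ (center G).subgroupOf K) = 1 := by
      rw [QuotientGroup.mk_pow, ← h5, ← hc, pow_orderOf_eq_one]
    have := (QuotientGroup.eq_one_iff _).1 h7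
    exact this
  · rw [Subgroup.orderOf_coe, hk]

/-- The homomorphism `g ↦ [g, y]`. -/
theorem exists_theta {R : Subgroup G} {y : G} (h : ∀ g ∈ R, ⁅g, y⁆ ∈ center G) :
    ∃ θ : R →* center G, ∀ g : R, ((θ g : center G) : G) = ⁅(g : G), y⁆ := by
  refine ⟨MonoidHom.mk' (fun g => ⟨⁅(g : G), y⁆, h g g.2⟩) ?_, fun g => rfl⟩
  intro a b
  apply Subtype.ext
  change ⁅(a : G) * b, y⁆ = ⁅(a : G), y⁆ * ⁅(b : G), y⁆
  have h1 := mem_center_iff.1 (h b b.2) a
  have e : ⁅(a : G) * b, y⁆ = a * ⁅(b : G), y⁆ * y * (a : G)⁻¹ * y⁻¹ := by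
    simp only [commutatorElement_def]; group
  rw [e, h1]
  have h2 := mem_center_iff.1 (h b b.2) ⁅(a : G), y⁆
  rw [h2]
  simp only [commutatorElement_def]; group

/-- `⁅g, y⁆ ^ k = 1` if `⁅g, y⁆` and `y ^ k` are central. -/
theorem theta_pow {g y : G} {k : ℕ} (h : ⁅g, y⁆ ∈ center G) (hy : y ^ k ∈ center G) :
    ⁅g, y⁆ ^ k = 1 := by
  have h1 : g * y * g⁻¹ = ⁅g, y⁆ * y := by rw [commutatorElement_def]; group
  have hc : Commute ⁅g, y⁆ y := (mem_center_iff.1 h y).symm
  have h2 : (g * y * g⁻¹) ^ k = y ^ k := by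
    rw [conj_pow, mem_center_iff.1 hy g, mul_inv_cancel_right]
  rw [h1, hc.mul_pow] at h2
  exact mul_eq_right.1 h2

theorem theta_pow' {g y : G} {k : ℕ} (h : ⁅g, y⁆ ∈ center G) (hg : g ^ k ∈ center G) :
    ⁅g, y⁆ ^ k = 1 := by
  have h1 : ⁅y, g⁆ ∈ center G := by
    rw [← commutatorElement_inv]
    exact inv_mem h
  have h2 := theta_pow h1 hg
  rw [← commutatorElement_inv, inv_pow, inv_eq_one] at h2
  exact h2

theorem mem_normalizer_of {H : Subgroup G} {g : G} (h1 : ∀ x ∈ H, g * x * g⁻¹ ∈ H)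
    (h2 : ∀ x ∈ H, g⁻¹ * x * g ∈ H) : g ∈ normalizer (H : Set G) := by
  rw [mem_normalizer_iff]
  intro x
  refine ⟨h1 x, fun h => ?_⟩
  have := h2 _ h
  have e : g⁻¹ * (g * x * g⁻¹) * g = x := by group
  rwa [e] at this

/-- If `[g, y]` is central then `g` normalizes `C(y)`. -/
theorem mem_normalizer_cz {g y : G} (h : ⁅g, y⁆ ∈ center G) : g ∈ normalizer (cz y : Set G) := by
  have key : ∀ g : G, ⁅g, y⁆ ∈ center G → ∀ x ∈ cz y, g * x * g⁻¹ ∈ cz y := by
    intro g h x hx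
    have h1 : g * y * g⁻¹ = y * ⁅g, y⁆ := by
      rw [mem_center_iff.1 h y, commutatorElement_def]; group
    have h2 : g * x * g⁻¹ ∈ cz (g * y * g⁻¹) := by
      rw [mem_cz] at hx ⊢
      calc g * x * g⁻¹ * (g * y * g⁻¹) = g * (x * y) * g⁻¹ := by group
        _ = g * (y * x) * g⁻¹ := by rw [hx]
        _ = _ := by group
    rwa [h1, cz_mul_center h] at h2
  refine mem_normalizer_of (key g h) fun x hx => ?_
  have h3 : ⁅g⁻¹, y⁆ ∈ center G := by
    have e : ⁅g⁻¹, y⁆ = g⁻¹ * ⁅g, y⁆⁻¹ * g := by simp only [commutatorElement_def]; group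
    rw [e]
    have h4 := mem_center_iff.1 (inv_mem h) g⁻¹
    rw [h4, inv_mul_cancel_right]
    exact inv_mem h
  have := key _ h3 x hx
  rwa [inv_inv] at this

/-- In a Sylow subgroup which is not central and whose center is central in `G`: an element
which is central of order `r` modulo the center. -/
theorem exists_central_mod [Finite G] {r : ℕ} [hr : Fact r.Prime] (R : Sylow r G)
    (hR : ¬ (R : Subgroup G) ≤ center G) :
    ∃ y ∈ (R : Subgroup G), y ∉ center G ∧ y ^ r ∈ center G ∧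
      ∀ g ∈ (R : Subgroup G), ⁅g, y⁆ ∈ center G := by
  let K := (center G).subgroupOf (R : Subgroup G)
  have hK : K ≠ ⊤ := fun h => hR (subgroupOf_eq_top.1 h)
  have hnt : Nontrivial ((R : Subgroup G) ⧸ K) := QuotientGroup.nontrivial_iff.2 hK
  have hQ : IsPGroup r ((R : Subgroup G) ⧸ K) := R.isPGroup'.to_quotient K
  have hc := hQ.center_nontrivial
  have hd : r ∣ Nat.card (center ((R : Subgroup G) ⧸ K)) := by
    obtain ⟨n, hn, hn'⟩ := ((hQ.to_subgroup _).nontrivial_iff_card).1 hc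
    rw [hn']
    exact dvd_pow_self r hn.ne'
  obtain ⟨c, hc⟩ := exists_prime_orderOf_dvd_card' r hd
  obtain ⟨y, hy⟩ := QuotientGroup.mk_surjective (c : (R : Subgroup G) ⧸ K)
  have hc' : orderOf (c : (R : Subgroup G) ⧸ K) = r := by rw [Subgroup.orderOf_coe, hc]
  refine ⟨y, y.2, ?_, ?_, ?_⟩
  · intro h
    have : (y : (R : Subgroup G) ⧸ K) = 1 := (QuotientGroup.eq_one_iff _).2 h
    rw [← hy, this, orderOf_one] at hc'
    exact hr.out.one_lt.ne hc'
  · have : ((y ^ r : (R : Subgroup G)) : (R : Subgroup G) ⧸ K) = 1 := by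
      rw [QuotientGroup.mk_pow, hy]
      exact orderOf_dvd_iff_pow_eq_one.1 hc'.dvd
    have h2 := (QuotientGroup.eq_one_iff _).1 this
    exact h2
  · intro g hg
    have h1 : QuotientGroup.mk' K ⁅(⟨g, hg⟩ : (R : Subgroup G)), y⁆ = 1 := by
      rw [map_commutatorElement, commutatorElement_eq_one_iff_mul_comm]
      have := mem_center_iff.1 c.2 (QuotientGroup.mk' K ⟨g, hg⟩)
      rw [← hy] at this
      exact this
    have h2 := (QuotientGroup.eq_one_iff _).1 h1
    exact h2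

/-- A `q`-element normalizing a subgroup of order `< q` centralizes it. -/
theorem commute_of_card_lt {K : Subgroup G} [Finite K] {q k : ℕ} (hq : q.Prime) {g : G}
    (hg : g ∈ normalizer (K : Set G)) (hgq : g ^ q ^ k = 1) (hK : Nat.card K < q) :
    ∀ v ∈ K, g * v = v * g := by
  classical
  let φ : normalizer (K : Set G) →* MulAut K := K.normalizerMonoidHom
  have := Fintype.ofFinite K
  have h1 : orderOf (φ ⟨g, hg⟩) ∣ q ^ k := by
    apply orderOf_dvd_of_pow_eq_one
    rw [← map_pow]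
    have : (⟨g, hg⟩ : normalizer (K : Set G)) ^ q ^ k = 1 := Subtype.ext hgq
    rw [this, map_one]
  have h2 : orderOf (φ ⟨g, hg⟩) ∣ (Nat.card K).factorial := by
    have h3 : orderOf (MulAut.toPerm K (φ ⟨g, hg⟩)) = orderOf (φ ⟨g, hg⟩) :=
      orderOf_injective _ (by
        intro a b hab
        ext x
        exact congrArg Subtype.val (DFunLike.congr_fun hab x)) _
    rw [← h3]
    have h4 := orderOf_dvd_natCard (MulAut.toPerm K (φ ⟨g, hg⟩))
    rwa [Nat.card_perm] at h4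
  have h3 : orderOf (φ ⟨g, hg⟩) = 1 := by
    refine Nat.eq_one_of_dvd_coprimes ?_ h1 h2
    refine Nat.Coprime.pow_left _ ?_
    rw [hq.coprime_iff_not_dvd, hq.dvd_factorial]
    exact not_le.2 hK
  rw [orderOf_eq_one_iff] at h3
  intro v hv
  have h4 := congrArg Subtype.val (DFunLike.congr_fun h3 ⟨v, hv⟩)
  have h5 : g * v * g⁻¹ = v := h4
  exact mul_inv_eq_iff_eq_mul.1 h5

end Cfsg.Agent.H683.TwoSize
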