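import Mathlib
import Cfsg.Agent.H683.TwoSizeTop
import Cfsg.Agent.H683.ClassCount
import Cfsg.Agent.H551.Frob
import Cfsg.Agent.S0007

/-!
# Groups whose two largest class sizes are coprime
-/

set_option autoImplicit false

namespace Cfsg.Agent.H683.CopTop

open Subgroup Cfsg.Agent.H683.TwoSize
open scoped commutatorElement

theorem nat_decomp (m : ℕ) : ∀ N : ℕ, N ≠ 0 →
    ∃ u v k : ℕ, N = u * v ∧ u ∣ m ^ k ∧ v.Coprime m := by
  intro N
  induction N using Nat.strong_induction_on with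
  | _ N ih =>
    intro hN
    by_cases h1 : N.gcd m = 1
    · exact ⟨1, N, 0, (one_mul N).symm, one_dvd _, h1⟩
    · obtain ⟨N1, hN1⟩ := Nat.gcd_dvd_left N m
      have hN10 : N1 ≠ 0 := by
        rintro rfl
        rw [mul_zero] at hN1
        exact hN hN1
      have hd0 : N.gcd m ≠ 0 := fun h => hN (Nat.eq_zero_of_gcd_eq_zero_left h)
      have hlt : N1 < N := by
        have h2 : 1 < N.gcd m := by omega
        calc N1 = 1 * N1 := (one_mul _).symm
          _ < N.gcd m * N1 := Nat.mul_lt_mul_of_pos_right h2 (Nat.pos_of_ne_zero hN10)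
          _ = N := hN1.symm
      obtain ⟨u, v, k, h3, h4, h5⟩ := ih N1 hlt hN10
      refine ⟨N.gcd m * u, v, k + 1, ?_, ?_, h5⟩
      · conv_lhs => rw [hN1, h3]
        rw [mul_assoc]
      · rw [pow_succ']
        exact mul_dvd_mul (Nat.gcd_dvd_right _ _) h4

variable {G : Type*} [Group G] [Finite G]

/-- The primes dividing the order of `a` divide `m`. -/
def IsPi (m : ℕ) (a : G) : Prop := ∃ k, orderOf a ∣ m ^ k

omit [Finite G] in
theorem IsPi.coprime {m : ℕ} {a : G} (ha : IsPi m a) {t : ℕ} (ht : t.Coprime m) :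
    (orderOf a).Coprime t := by
  obtain ⟨k, hk⟩ := ha
  exact Nat.Coprime.coprime_dvd_left hk (Nat.Coprime.pow_left k ht.symm)

omit [Finite G] in
theorem IsPi.of_dvd {m : ℕ} {a b : G} (ha : IsPi m a) (h : orderOf b ∣ orderOf a) : IsPi m b := by
  obtain ⟨k, hk⟩ := ha
  exact ⟨k, h.trans hk⟩

/-- Decomposition of an element with respect to a set of primes. -/
theorem exists_decomp_pi (m : ℕ) (g : G) : ∃ a b : G, a * b = g ∧ Commute a b ∧ IsPi m a ∧
    (orderOf b).Coprime m ∧ a ∈ zpowers g ∧ b ∈ zpowers g := by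
  obtain ⟨u, v, k, huv, hu, hv⟩ := nat_decomp m (orderOf g) (orderOf_pos g).ne'
  have hcop : u.Coprime v := Nat.Coprime.coprime_dvd_left hu (Nat.Coprime.pow_left k hv.symm)
  obtain ⟨e, he1, he2⟩ := Nat.chineseRemainder hcop 1 0
  obtain ⟨f, hf1, hf2⟩ := Nat.chineseRemainder hcop 0 1
  refine ⟨g ^ e, g ^ f, ?_, (Commute.refl g).pow_pow e f, ⟨k, ?_⟩, ?_, ⟨e, by simp⟩, ⟨f, by simp⟩⟩
  · rw [← pow_add]
    conv_rhs => rw [← pow_one g]
    rw [pow_eq_pow_iff_modEq, huv, ← Nat.modEq_and_modEq_iff_modEq_mul hcop]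
    constructor
    · simpa using he1.add hf1
    · simpa using he2.add hf2
  · refine (orderOf_dvd_of_pow_eq_one ?_).trans hu
    rw [← pow_mul, ← orderOf_dvd_iff_pow_eq_one, huv, mul_comm]
    exact mul_dvd_mul_right ((Nat.modEq_zero_iff_dvd).1 he2) u
  · refine Nat.Coprime.coprime_dvd_left (orderOf_dvd_of_pow_eq_one ?_) hv
    rw [← pow_mul, ← orderOf_dvd_iff_pow_eq_one, huv]
    exact mul_dvd_mul_right ((Nat.modEq_zero_iff_dvd).1 hf1) v

theorem relIndex_eq_index {A B : Subgroup G} (h : A.index.Coprime B.index) :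
    A.relIndex B = A.index := by
  have h1 : A.relIndex B * B.index = (A ⊓ B).index := by
    rw [← Subgroup.inf_relIndex_right]
    exact Subgroup.relIndex_mul_index inf_le_right
  have h2 : A.index ∣ (A ⊓ B).index := Subgroup.index_dvd_of_le inf_le_left
  rw [← h1] at h2
  have h3 : A.index ∣ A.relIndex B := h.dvd_of_dvd_mul_right h2
  apply le_antisymm
  · have h4 : A.relIndex B ≤ A.relIndex ⊤ := Subgroup.relIndex_le_of_le_right le_top (by
      rw [Subgroup.relIndex_top_right]; exact Subgroup.index_ne_zero_of_finite)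
    rwa [Subgroup.relIndex_top_right] at h4
  · exact Nat.le_of_dvd (Nat.pos_of_ne_zero Subgroup.index_ne_zero_of_finite) h3

/-- The conjugacy class as a set. -/
def cls (b : G) : Set G := Set.range fun h : G => h * b * h⁻¹

omit [Finite G] in
theorem mem_cls {b k : G} : k ∈ cls b ↔ ∃ h : G, h * b * h⁻¹ = k := Iff.rfl

theorem card_cls (b : G) : Nat.card (cls b) = (cz b).index := by
  rw [← show (ConjClasses.mk b).carrier = cls b from ?_]
  · exact Cfsg.Agent.H683.ClassCount.card_carrier b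
  · ext k
    rw [ConjClasses.mem_carrier_iff_mk_eq, ConjClasses.mk_eq_mk_iff_isConj, isConj_comm, isConj_iff,
      mem_cls]

/-- `K_a b ⊆ K_{ab}` for coprime class sizes. -/
theorem conj_mul_mem {a b : G} (h : (cz a).index.Coprime (cz b).index) (g : G) {k : G}
    (hk : k ∈ cls b) : g * a * g⁻¹ * k ∈ cls (a * b) := by
  obtain ⟨t, rfl⟩ := hk
  obtain ⟨c, hc, u, hu, hcu⟩ := Cfsg.Agent.S0007.exists_mul_eq (cz b) (cz a) h.symm (t⁻¹ * g)
  rw [mem_cz] at hc hu
  refine ⟨t * c, ?_⟩
  have h1 : g = t * (c * u) := by rw [← hcu]; group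
  have h2 : c * b * c⁻¹ = b := by rw [hc]; group
  have h3 : u * a * u⁻¹ = a := by rw [hu]; group
  calc t * c * (a * b) * (t * c)⁻¹ = t * (c * a * c⁻¹) * (c * b * c⁻¹) * t⁻¹ := by group
    _ = t * (c * (u * a * u⁻¹) * c⁻¹) * b * t⁻¹ := by rw [h2, h3]
    _ = g * a * g⁻¹ * (t * b * t⁻¹) := by rw [h1]; group

/-- The subgroup `[a, G]`. -/
def comS (a : G) : Subgroup G := closure (Set.range fun g : G => ⁅g, a⁆)

omit [Finite G] in
theorem mem_comS (a g : G) : ⁅g, a⁆ ∈ comS a := subset_closure ⟨g, rfl⟩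

instance comS_normal (a : G) : (comS a).Normal := by
  refine ⟨fun t ht h => ?_⟩
  induction ht using closure_induction with
  | mem x hx =>
    obtain ⟨g, rfl⟩ := hx
    have e : h * ⁅g, a⁆ * h⁻¹ = ⁅h * g, a⁆ * ⁅h, a⁆⁻¹ := by
      simp only [commutatorElement_def]; group
    dsimp only
    rw [e]
    exact mul_mem (mem_comS a _) (inv_mem (mem_comS a _))
  | one => rw [mul_one, mul_inv_cancel]; exact one_mem _
  | mul x y _ _ hx hy =>
    have e : h * (x * y) * h⁻¹ = (h * x * h⁻¹) * (h * y * h⁻¹) := by group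
    rw [e]; exact mul_mem hx hy
  | inv x _ hx =>
    have e : h * x⁻¹ * h⁻¹ = (h * x * h⁻¹)⁻¹ := by group
    rw [e]; exact inv_mem hx

omit [Finite G] in
theorem card_dvd_of_closed (H : Subgroup G) (S : Set G) (hS : ∀ t ∈ H, ∀ k ∈ S, t * k ∈ S) :
    Nat.card H ∣ Nat.card S := by
  have h1 : (QuotientGroup.mk : G → G ⧸ H) ⁻¹' ((QuotientGroup.mk : G → G ⧸ H) '' S⁻¹) = S⁻¹ := by
    apply Set.Subset.antisymm
    · rintro x ⟨y, hy, hxy⟩
      rw [QuotientGroup.eq] at hxy
      rw [Set.mem_inv] at hy ⊢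
      have h2 := hS _ (inv_mem hxy) _ hy
      have e : (y⁻¹ * x)⁻¹ * y⁻¹ = x⁻¹ := by group
      rwa [e] at h2
    · intro x hx
      exact ⟨x, hx, rfl⟩
  have h2 := QuotientGroup.card_preimage_mk H ((QuotientGroup.mk : G → G ⧸ H) '' S⁻¹)
  rw [h1] at h2
  have h3 : Nat.card (S⁻¹ : Set G) = Nat.card S :=
    Nat.card_congr (Equiv.subtypeEquiv (Equiv.inv G) (fun x => by simp))
  rw [← h3, h2]
  exact dvd_mul_right _ _

theorem le_index_mul {a b : G} (h : (cz a).index.Coprime (cz b).index) :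
    (cz b).index ≤ (cz (a * b)).index := by
  rw [← card_cls, ← card_cls]
  have hinj : Function.Injective (fun k : cls b => (⟨a * k, by
      have := conj_mul_mem h 1 k.2
      simpa using this⟩ : cls (a * b))) := by
    intro k l hkl
    have := congrArg Subtype.val hkl
    exact Subtype.ext (mul_left_cancel this)
  exact Nat.card_le_card_of_injective _ hinj

theorem card_comS_dvd {a b : G} (h : (cz a).index.Coprime (cz b).index)
    (hab : (cz (a * b)).index = (cz b).index) : Nat.card (comS a) ∣ (cz b).index := by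
  rw [← hab, ← card_cls]
  have himg : ∀ g : G, (fun k => g * a * g⁻¹ * k) '' cls b = cls (a * b) := by
    intro g
    apply Set.eq_of_subset_of_ncard_le
    · rintro _ ⟨k, hk, rfl⟩
      exact conj_mul_mem h g hk
    · rw [Set.ncard_image_of_injective _ (mul_right_injective _), ← Nat.card_coe_set_eq,
        ← Nat.card_coe_set_eq, card_cls, card_cls, hab]
    · exact Set.toFinite _
  apply card_dvd_of_closed
  intro t ht
  induction ht using closure_induction with
  | mem x hx =>
    obtain ⟨g, rfl⟩ := hx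
    intro k hk
    rw [← himg 1] at hk
    obtain ⟨l, hl, rfl⟩ := hk
    dsimp only
    have e : ⁅g, a⁆ * (1 * a * 1⁻¹ * l) = g * a * g⁻¹ * l := by
      simp only [commutatorElement_def]; group
    rw [e]
    exact conj_mul_mem h g hl
  | one => intro k hk; rwa [one_mul]
  | mul x y _ _ hx hy => intro k hk; rw [mul_assoc]; exact hx _ (hy _ hk)
  | inv x _ hx =>
    have hpow : ∀ j : ℕ, ∀ k ∈ cls (a * b), x ^ j * k ∈ cls (a * b) := by
      intro j
      induction j with
      | zero => intro k hk; rwa [pow_zero, one_mul]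
      | succ j ih => intro k hk; rw [pow_succ', mul_assoc]; exact hx _ (ih k hk)
    intro k hk
    have e : x⁻¹ = x ^ (orderOf x - 1) := by
      rw [inv_eq_of_mul_eq_one_right]
      rw [← pow_succ', Nat.sub_add_cancel (orderOf_pos x), pow_orderOf_eq_one]
    rw [e]
    exact hpow _ k hk

end Cfsg.Agent.H683.CopTop
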