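import Mathlib
import Cfsg.Agent.H683.CopTop

/-!
# Groups whose two largest class sizes are coprime: the centralizers
-/

set_option autoImplicit false
set_option linter.unusedSectionVars false

namespace Cfsg.Agent.H683.CopTop

open Subgroup Cfsg.Agent.H683.TwoSize
open scoped commutatorElement

/-- `m > n > 1` are the two largest class sizes and are coprime. -/
structure Hyp (G : Type*) [Group G] (m n : ℕ) : Prop where
  hmn : n < m
  hn : 1 < n
  hcop : m.Coprime n
  htop : ∀ z : G, (cz z).index ≤ m
  hsec : ∀ z : G, (cz z).index < m → (cz z).index ≤ n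

variable {G : Type*} [Group G] [Finite G] {m n : ℕ}

theorem index_dvd_of_mem_zpowers {x y : G} (h : y ∈ zpowers x) : (cz y).index ∣ (cz x).index :=
  Subgroup.index_dvd_of_le (cz_le_of_mem_zpowers h)

theorem index_pos (x : G) : 0 < (cz x).index := Nat.pos_of_ne_zero Subgroup.index_ne_zero_of_finite

theorem cz_eq_of_le {x y : G} (hle : cz x ≤ cz y) (h : (cz x).index ≤ (cz y).index) :
    cz x = cz y := by
  apply Subgroup.eq_of_le_of_card_ge hle
  have h1 := (cz x).card_mul_index
  rw [← (cz y).card_mul_index] at h1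
  by_contra hcon
  push Not at hcon
  have : Nat.card (cz x) * (cz x).index < Nat.card (cz y) * (cz y).index :=
    Nat.mul_lt_mul_of_lt_of_le hcon h (index_pos y)
  omega

theorem cz_mul_left {a b : G} (hc : Commute a b) (h : (orderOf a).Coprime (orderOf b)) :
    cz (a * b) ≤ cz a := cz_le_of_mem_zpowers (mem_zpowers_mul hc h)

theorem cz_mul_right {a b : G} (hc : Commute a b) (h : (orderOf a).Coprime (orderOf b)) :
    cz (a * b) ≤ cz b := cz_le_of_mem_zpowers (mem_zpowers_mul' hc h)

namespace Hyp

variable (H : Hyp G m n)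
include H

/-- For the largest class size: `C(a) ≤ C(b)` for commuting coprime elements. -/
theorem le_of_top {a b : G} (ha : (cz a).index = m) (hc : Commute a b)
    (h : (orderOf a).Coprime (orderOf b)) : cz a ≤ cz b := by
  have h1 : cz (a * b) = cz a :=
    cz_eq_of_le (cz_mul_left hc h) (by rw [ha]; exact H.htop _)
  rw [← h1]
  exact cz_mul_right hc h

/-- For the second largest class size. -/
theorem le_of_second {a b : G} (ha : (cz a).index = n) (hc : Commute a b)
    (h : (orderOf a).Coprime (orderOf b)) : cz a ≤ cz b := by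
  have h1 : cz (a * b) = cz a := by
    refine cz_eq_of_le (cz_mul_left hc h) ?_
    rw [ha]
    apply H.hsec
    refine lt_of_le_of_ne (H.htop _) fun h2 => ?_
    have h3 : (cz a).index ∣ (cz (a * b)).index := Subgroup.index_dvd_of_le (cz_mul_left hc h)
    rw [ha, h2] at h3
    have h4 : n = 1 := Nat.eq_one_of_dvd_coprimes H.hcop h3 dvd_rfl
    exact H.hn.ne' h4
  rw [← h1]
  exact cz_mul_right hc h

/-- `[a, G]` has order dividing `m` if the class size of `a` is prime to `m`. -/
theorem card_comS_top {y : G} (hy : (cz y).index = m) {a : G} (ha : (cz a).index.Coprime m) :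
    Nat.card (comS a) ∣ m := by
  have h1 : (cz a).index.Coprime (cz y).index := by rwa [hy]
  have h2 := le_index_mul h1
  have h3 := card_comS_dvd h1 (le_antisymm (by rw [hy]; exact H.htop _) h2)
  rwa [hy] at h3

theorem card_comS_second {x : G} (hx : (cz x).index = n) {a : G} (ha : (cz a).index.Coprime n)
    (ha' : (cz a).index < m) : Nat.card (comS a) ∣ n := by
  have h1 : (cz a).index.Coprime (cz x).index := by rwa [hx]
  have h2 := le_index_mul h1
  have h3 : (cz (a * x)).index ≤ n := by
    apply H.hsec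
    refine lt_of_le_of_ne (H.htop _) fun h4 => ?_
    have h5 : (cz (a * x)).index ∣ (cz a).index * n := by
      have e1 : (cz a ⊓ cz x) ≤ cz (a * x) := by
        rintro g ⟨hg1, hg2⟩
        have hg1' : g * a = a * g := mem_cz.1 hg1
        have hg2' : g * x = x * g := mem_cz.1 hg2
        rw [mem_cz]
        calc g * (a * x) = (g * a) * x := by group
          _ = a * (g * x) := by rw [hg1']; group
          _ = a * x * g := by rw [hg2']; group
      have e2 : (cz a ⊓ cz x).index = (cz a).index * n := by
        rw [← Subgroup.relIndex_mul_index (inf_le_right : cz a ⊓ cz x ≤ cz x),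
          Subgroup.inf_relIndex_right, relIndex_eq_index h1, hx]
      rw [← e2]
      exact Subgroup.index_dvd_of_le e1
    rw [h4] at h5
    have h6 : m ∣ (cz a).index := H.hcop.dvd_of_dvd_mul_right h5
    exact absurd (Nat.le_of_dvd (index_pos a) h6) (not_le.2 ha')
  have h4 := card_comS_dvd h1 (le_antisymm (by rw [hx]; exact h3) h2)
  rwa [hx] at h4

end Hyp

/-- If `[a, G]` centralizes `a` then its elements have order dividing that of `a`, and all
conjugates of `a` commute. -/
theorem comS_le_centralizer {a : G} (h : comS a ≤ cz a) (g : G) : comS a ≤ cz (g * a * g⁻¹) := by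
  intro t ht
  have h1 := h ((comS_normal a).conj_mem t ht g⁻¹)
  rw [inv_inv, mem_cz] at h1
  rw [mem_cz]
  calc t * (g * a * g⁻¹) = g * ((g⁻¹ * t * g) * a) * g⁻¹ := by group
    _ = g * (a * (g⁻¹ * t * g)) * g⁻¹ := by rw [h1]
    _ = _ := by group

theorem conj_commute {a : G} (h : comS a ≤ cz a) (g k : G) :
    Commute (g * a * g⁻¹) (k * a * k⁻¹) := by
  have h1 : g * a * g⁻¹ = ⁅g, a⁆ * a := by rw [commutatorElement_def]; group
  have h2 := comS_le_centralizer h k (mem_comS a g)
  rw [mem_cz] at h2
  have h3 : k * a * k⁻¹ = ⁅k, a⁆ * a := by rw [commutatorElement_def]; group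
  have h4 := h (mem_comS a k)
  rw [mem_cz] at h4
  have h5 : Commute ⁅g, a⁆ (k * a * k⁻¹) := h2
  have h6 : Commute a (k * a * k⁻¹) := by
    rw [h3]
    exact Commute.mul_right (show Commute ⁅k, a⁆ a from h4).symm (Commute.refl a)
  rw [h1]
  exact Commute.mul_left h5 h6

theorem comS_pow {a : G} (h : comS a ≤ cz a) : ∀ t ∈ comS a, t ^ orderOf a = 1 := by
  have hcomm : ∀ t ∈ comS a, ∀ s ∈ comS a, t * s = s * t := by
    intro t ht s hs
    induction hs using closure_induction with
    | mem x hx =>
      obtain ⟨g, rfl⟩ := hx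
      have h1 := comS_le_centralizer h g ht
      rw [mem_cz] at h1
      have h2 := h ht
      rw [mem_cz] at h2
      have h3 : Commute t ((g * a * g⁻¹) * a⁻¹) :=
        Commute.mul_right h1 (Commute.inv_right h2)
      have e : ⁅g, a⁆ = (g * a * g⁻¹) * a⁻¹ := by rw [commutatorElement_def]
      dsimp only
      rw [e]
      exact h3
    | one => rw [mul_one, one_mul]
    | mul x y _ _ hx hy => exact (Commute.mul_right hx hy : Commute t (x * y))
    | inv x _ hx => exact (Commute.inv_right hx : Commute t x⁻¹)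
  intro t ht
  induction ht using closure_induction with
  | mem x hx =>
    obtain ⟨g, rfl⟩ := hx
    have h2 := h (mem_comS a g)
    rw [mem_cz] at h2
    have h3 : Commute ⁅g, a⁆ a := h2
    have h4 : (⁅g, a⁆ * a) ^ orderOf a = 1 := by
      have e : ⁅g, a⁆ * a = g * a * g⁻¹ := by rw [commutatorElement_def]; group
      rw [e, conj_pow, pow_orderOf_eq_one, mul_one, mul_inv_cancel]
    rw [h3.mul_pow, pow_orderOf_eq_one, mul_one] at h4
    exact h4
  | one => rw [one_pow]
  | mul x y hx' hy' hx hy =>
    rw [(show Commute x y from hcomm x hx' y hy').mul_pow, hx, hy, mul_one]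
  | inv x _ hx => rw [inv_pow, hx, inv_one]

theorem mem_center_of_comS {a : G} (h : comS a = ⊥) : a ∈ center G := by
  rw [mem_center_iff]
  intro g
  have h1 := mem_comS a g
  rw [h, mem_bot] at h1
  exact commutatorElement_eq_one_iff_mul_comm.1 h1

namespace Hyp

variable (H : Hyp G m n)
include H

/-- A `π(m)'`-element of class size prime to `m` is central. -/
theorem mem_center {y : G} (hy : (cz y).index = m) {w : G} (hw : (cz w).index.Coprime m)
    (hwo : (orderOf w).Coprime m) : w ∈ center G := by
  have h1 := H.card_comS_top hy hw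
  have h2 : comS w ≤ cz w :=
    Cfsg.Agent.H551.Compl.le_centralizer_of_coprime (Nat.Coprime.coprime_dvd_right h1 hw)
  apply mem_center_of_comS
  rw [eq_bot_iff]
  intro t ht
  rw [mem_bot, ← orderOf_eq_one_iff]
  have h3 : orderOf t ∣ m := by
    refine dvd_trans ?_ h1
    rw [← Subgroup.orderOf_mk t ht]
    exact orderOf_dvd_natCard _
  exact Nat.eq_one_of_dvd_coprimes hwo (orderOf_dvd_of_pow_eq_one (comS_pow h2 t ht)) h3

end Hyp

/-- `x` has the second largest class size and is a `π(m)`-element. -/
structure IsX (m n : ℕ) (x : G) : Prop where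
  index_eq : (cz x).index = n
  isPi : IsPi m x

theorem IsX.conj {x : G} (hx : IsX m n x) (g : G) : IsX m n (g * x * g⁻¹) := by
  have h1 : orderOf (g * x * g⁻¹) = orderOf x := (MulAut.conj g).orderOf_eq x
  refine ⟨?_, hx.isPi.of_dvd h1.dvd⟩
  rw [← hx.index_eq, ← card_cls, ← card_cls]
  congr 2
  ext k
  constructor
  · rintro ⟨h, rfl⟩
    exact ⟨h * g, by group⟩
  · rintro ⟨h, rfl⟩
    refine ⟨h * g⁻¹, ?_⟩
    dsimp only
    group

namespace Hyp

variable (H : Hyp G m n)
include H

theorem exists_isX {x y : G} (hx : (cz x).index = n) (hy : (cz y).index = m) :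
    ∃ x' : G, IsX m n x' ∧ cz x' = cz x := by
  obtain ⟨a, b, hab, hc, ha, hb, haz, hbz⟩ := exists_decomp_pi m x
  have hbZ : b ∈ center G := by
    refine H.mem_center hy ?_ hb
    refine Nat.Coprime.coprime_dvd_left (index_dvd_of_mem_zpowers hbz) ?_
    rw [hx]
    exact H.hcop.symm
  have h1 : cz x = cz a := by rw [← hab, cz_mul_center hbZ]
  exact ⟨a, ⟨by rw [← h1, hx], ha⟩, h1.symm⟩

/-- The `π(m)'`-elements of `C(x)` are central. -/
theorem center_of_cz_x {x y : G} (hx : IsX m n x) (hy : (cz y).index = m) {w : G}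
    (hw : w ∈ cz x) (hwo : (orderOf w).Coprime m) : w ∈ center G := by
  have hc : Commute x w := (mem_cz.1 hw).symm
  have h1 : cz x ≤ cz w := H.le_of_second hx.index_eq hc (hx.isPi.coprime hwo)
  refine H.mem_center hy ?_ hwo
  refine Nat.Coprime.coprime_dvd_left (Subgroup.index_dvd_of_le h1) ?_
  rw [hx.index_eq]
  exact H.hcop.symm

/-- If `|G : C(a)| = m` then `C(a)` contains a non-central `π(n)`-element of prime power order. -/
theorem exists_in_top {x a : G} (hx : (cz x).index = n) (ha : (cz a).index = m) :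
    ∃ w ∈ cz a, w ∉ center G ∧ (orderOf w).Coprime m := by
  obtain ⟨r, hr, hrn⟩ := Nat.exists_prime_and_dvd H.hn.ne'
  have h1 : n ∣ (center G).relIndex (cz a) := by
    have h2 : n ∣ (center G).index := by
      rw [← hx]
      exact Subgroup.index_dvd_of_le (center_le_cz x)
    rw [← Subgroup.relIndex_mul_index (center_le_cz a), ha] at h2
    exact H.hcop.symm.dvd_of_dvd_mul_right h2
  obtain ⟨w, hw, hwZ, -, k, hk⟩ := exists_of_dvd_relIndex_center hr (hrn.trans h1)
  refine ⟨w, hw, hwZ, ?_⟩
  rw [hk]
  refine Nat.Coprime.pow_left k ?_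
  rw [hr.coprime_iff_not_dvd]
  intro hrm
  have := Nat.eq_one_of_dvd_coprimes H.hcop hrm hrn
  exact hr.one_lt.ne' this

/-- No element of `C(x)` has class size `m`. -/
theorem ne_top {x y : G} (hx : IsX m n x) (hy : (cz y).index = m) {v : G} (hv : v ∈ cz x) :
    (cz v).index ≠ m := by
  intro hvm
  obtain ⟨a, b, hab, hc, ha, hb, haz, hbz⟩ := exists_decomp_pi m v
  have hbZ : b ∈ center G := H.center_of_cz_x hx hy ((zpowers_le.2 hv) hbz) hb
  have h1 : cz v = cz a := by rw [← hab, cz_mul_center hbZ]
  rw [h1] at hvm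
  obtain ⟨w, hw, hwZ, hwo⟩ := H.exists_in_top hx.index_eq hvm
  apply hwZ
  have h2 : cz a ≤ cz w := H.le_of_top hvm (mem_cz.1 hw).symm (ha.coprime hwo)
  have h3 : x ∈ cz a := by
    have h4 := (zpowers_le.2 hv) haz
    rw [mem_cz] at h4 ⊢
    exact h4.symm
  have h5 := h2 h3
  refine H.center_of_cz_x hx hy ?_ hwo
  rw [mem_cz] at h5 ⊢
  exact h5.symm

/-- The conjugates of `x` commute. -/
theorem comS_le {x y : G} (hx : IsX m n x) (hy : (cz y).index = m) : comS x ≤ cz x := by
  have h1 : Nat.card (comS x) ∣ m := H.card_comS_top hy (by rw [hx.index_eq]; exact H.hcop.symm)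
  refine Cfsg.Agent.H551.Compl.le_centralizer_of_coprime (Nat.Coprime.coprime_dvd_right h1 ?_)
  rw [show (Subgroup.centralizer ({x} : Set G)).index = n from hx.index_eq]
  exact H.hcop.symm

end Hyp

/-- The normal closure of `x`. -/
def NX (x : G) : Subgroup G := closure (Set.range fun g : G => g * x * g⁻¹)

theorem conj_mem_NX (x g : G) : g * x * g⁻¹ ∈ NX x := subset_closure ⟨g, rfl⟩

theorem self_mem_NX (x : G) : x ∈ NX x := by
  have := conj_mem_NX x 1
  simpa using this

instance NX_normal (x : G) : (NX x).Normal := by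
  refine ⟨fun t ht h => ?_⟩
  induction ht using closure_induction with
  | mem t ht =>
    obtain ⟨g, rfl⟩ := ht
    have e : h * (g * x * g⁻¹) * h⁻¹ = (h * g) * x * (h * g)⁻¹ := by group
    dsimp only
    rw [e]
    exact conj_mem_NX x _
  | one => rw [mul_one, mul_inv_cancel]; exact one_mem _
  | mul s t _ _ hs ht =>
    have e : h * (s * t) * h⁻¹ = (h * s * h⁻¹) * (h * t * h⁻¹) := by group
    rw [e]; exact mul_mem hs ht
  | inv t _ ht =>
    have e : h * t⁻¹ * h⁻¹ = (h * t * h⁻¹)⁻¹ := by group
    rw [e]; exact inv_mem ht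

namespace Hyp

variable (H : Hyp G m n)
include H

theorem NX_comm {x y : G} (hx : IsX m n x) (hy : (cz y).index = m) :
    ∀ s ∈ NX x, ∀ t ∈ NX x, s * t = t * s := by
  have h := H.comS_le hx hy
  have h1 : ∀ g : G, ∀ t ∈ NX x, Commute (g * x * g⁻¹) t := by
    intro g t ht
    induction ht using closure_induction with
    | mem t ht => obtain ⟨k, rfl⟩ := ht; exact conj_commute h g k
    | one => exact Commute.one_right _
    | mul s t _ _ hs ht => exact hs.mul_right ht
    | inv t _ ht => exact ht.inv_right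
  intro s hs t ht
  change Commute s t
  induction hs using closure_induction with
  | mem s hs => obtain ⟨k, rfl⟩ := hs; exact h1 k t ht
  | one => exact Commute.one_left _
  | mul s u _ _ hs hu => exact hs.mul_left hu
  | inv s _ hs => exact hs.inv_left

theorem NX_isPi {x y : G} (hx : IsX m n x) (hy : (cz y).index = m) : ∀ s ∈ NX x, IsPi m s := by
  have hcomm := H.NX_comm hx hy
  have h1 : ∀ s ∈ NX x, s ^ orderOf x = 1 := by
    intro s hs
    induction hs using closure_induction with
    | mem s hs =>
      obtain ⟨g, rfl⟩ := hs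
      dsimp only
      rw [conj_pow, pow_orderOf_eq_one, mul_one, mul_inv_cancel]
    | one => rw [one_pow]
    | mul s t hs' ht' hs ht =>
      rw [(show Commute s t from hcomm s hs' t ht').mul_pow, hs, ht, mul_one]
    | inv s _ hs => rw [inv_pow, hs, inv_one]
  intro s hs
  exact hx.isPi.of_dvd (orderOf_dvd_of_pow_eq_one (h1 s hs))

theorem NX_le {x y : G} (hx : IsX m n x) (hy : (cz y).index = m) : NX x ≤ cz x := fun s hs => by
  rw [mem_cz]
  exact H.NX_comm hx hy s hs x (self_mem_NX x)

/-- An element of class size `< m` and prime to `n` is central. -/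
theorem mem_center' {x y : G} (hx : IsX m n x) (hy : (cz y).index = m) {w : G}
    (hw : (cz w).index.Coprime n) (hwm : (cz w).index < m) : w ∈ center G := by
  have h1 := H.card_comS_second hx.index_eq hw hwm
  have hZ : comS w ≤ center G := by
    intro c hc
    have h2 : orderOf c ∣ n := by
      refine dvd_trans ?_ h1
      rw [← Subgroup.orderOf_mk c hc]
      exact orderOf_dvd_natCard _
    have h3 : (orderOf c).Coprime m := Nat.Coprime.coprime_dvd_left h2 H.hcop.symm
    refine H.center_of_cz_x hx hy ?_ h3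
    have h4 : ⁅c, x⁆ ∈ comS w := by
      have e : ⁅c, x⁆ = c * (x * c⁻¹ * x⁻¹) := by rw [commutatorElement_def]; group
      rw [e]
      exact mul_mem hc ((comS_normal w).conj_mem _ (inv_mem hc) x)
    have h5 : ⁅c, x⁆ ∈ NX x := by
      rw [commutatorElement_def]
      exact mul_mem (conj_mem_NX x c) (inv_mem (self_mem_NX x))
    have h6 : orderOf ⁅c, x⁆ ∣ n := by
      refine dvd_trans ?_ h1
      rw [← Subgroup.orderOf_mk _ h4]
      exact orderOf_dvd_natCard _
    have h7 : (orderOf ⁅c, x⁆).Coprime n := (H.NX_isPi hx hy _ h5).coprime H.hcop.symm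
    have h8 : orderOf ⁅c, x⁆ = 1 := Nat.eq_one_of_dvd_coprimes h7 dvd_rfl h6
    rw [orderOf_eq_one_iff, commutatorElement_eq_one_iff_mul_comm] at h8
    rw [mem_cz]
    exact h8
  -- the class size divides `|[w, G]|`
  obtain ⟨θ, hθ⟩ := exists_theta (R := ⊤) (y := w) fun g _ => hZ (mem_comS w g)
  have h2 : (cz w).index = Nat.card θ.range := by
    rw [← Subgroup.index_ker]
    have h3 : θ.ker = (cz w).subgroupOf ⊤ := by
      ext g
      rw [MonoidHom.mem_ker, mem_subgroupOf, mem_cz, ← commutatorElement_eq_one_iff_mul_comm, ← hθ]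
      exact Subtype.ext_iff
    rw [h3]
    exact (Subgroup.relIndex_top_right (cz w)).symm
  have h3 : Nat.card θ.range ∣ Nat.card (comS w) := by
    rw [← Subgroup.card_map_of_injective (center G).subtype_injective]
    apply Subgroup.card_dvd_of_le
    rintro _ ⟨_, ⟨g, rfl⟩, rfl⟩
    rw [Subgroup.coe_subtype, hθ]
    exact mem_comS w g
  rw [← cz_index_eq_one]
  refine Nat.eq_one_of_dvd_coprimes hw dvd_rfl ?_
  rw [h2]
  exact h3.trans h1

end Hyp

end Cfsg.Agent.H683.CopTop
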