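import Mathlib
import Cfsg.Agent.H683.CopTopB

/-!
# Groups whose two largest class sizes are coprime: the complement
-/

set_option autoImplicit false
set_option linter.unusedSectionVars false

namespace Cfsg.Agent.H683.CopTop

open Subgroup Cfsg.Agent.H683.TwoSize
open scoped commutatorElement

variable {G : Type*} [Group G] [Finite G] {m n : ℕ}

theorem relIndex_le_index (A B : Subgroup G) : A.relIndex B ≤ A.index := by
  have h4 : A.relIndex B ≤ A.relIndex ⊤ := Subgroup.relIndex_le_of_le_right le_top (by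
    rw [Subgroup.relIndex_top_right]; exact Subgroup.index_ne_zero_of_finite)
  rwa [Subgroup.relIndex_top_right] at h4

theorem le_cz_mul {a b : G} {C : Subgroup G} (ha : C ≤ cz a) (hb : C ≤ cz b) : C ≤ cz (a * b) := by
  intro g hg
  have h1 : g * a = a * g := mem_cz.1 (ha hg)
  have h2 : g * b = b * g := mem_cz.1 (hb hg)
  rw [mem_cz]
  calc g * (a * b) = (g * a) * b := by group
    _ = a * (g * b) := by rw [h1]; group
    _ = a * b * g := by rw [h2]; group

namespace Hyp

variable (H : Hyp G m n) {x y : G} (hx : IsX m n x) (hy : (cz y).index = m)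
include H hx hy

/-- The `π(m)`-part of an element of class size `m` is central. -/
theorem pi_part_central {a b : G} (hc : Commute a b) (ha : IsPi m a) (hb : (orderOf b).Coprime m)
    (hab : (cz (a * b)).index = m) : a ∈ center G := by
  by_contra haZ
  have hdvd : (cz a).index ∣ m := by
    rw [← hab]
    exact Subgroup.index_dvd_of_le (cz_mul_left hc (ha.coprime hb))
  have hmem : ∀ u : G, (cz u).index ∣ m → (cz u).index ≠ m → u ∈ center G := fun u hu hne =>
    H.mem_center' hx hy (Nat.Coprime.coprime_dvd_left hu H.hcop)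
      (lt_of_le_of_ne (H.htop _) hne)
  have ham : (cz a).index = m := by
    by_contra hne
    exact haZ (hmem a hdvd hne)
  obtain ⟨w, hw, hwZ, hwo⟩ := H.exists_in_top hx.index_eq ham
  have h1 : cz a ≤ cz w := H.le_of_top ham (mem_cz.1 hw).symm (ha.coprime hwo)
  have hwm : (cz w).index = m := by
    by_contra hne
    refine hwZ (hmem w ?_ hne)
    rw [← ham]
    exact Subgroup.index_dvd_of_le h1
  have h2 : cz a = cz w := cz_eq_of_le h1 (by rw [ham, hwm])
  have hinf : cz x ⊓ cz a = center G := by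
    apply le_antisymm
    · rintro u ⟨hu1, hu2⟩
      have hu1' : u ∈ cz x := hu1
      have hu2' : u ∈ cz a := hu2
      obtain ⟨c, d, hcd, -, hcp, hdo, hcz', hdz⟩ := exists_decomp_pi m u
      have h3 : cz a ≤ cz d :=
        H.le_of_top ham (mem_cz.1 ((zpowers_le.2 hu2') hdz)).symm (ha.coprime hdo)
      have h4 : cz a ≤ cz c := by
        rw [h2]
        refine H.le_of_top hwm ?_ (hcp.coprime hwo).symm
        have h5 := (zpowers_le.2 hu2') hcz'
        rw [h2] at h5
        exact (mem_cz.1 h5).symm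
      have h5 : cz a ≤ cz u := by
        rw [← hcd]
        exact le_cz_mul h4 h3
      refine hmem u ?_ (H.ne_top hx hy hu1')
      rw [← ham]
      exact Subgroup.index_dvd_of_le h5
    · exact le_inf (center_le_cz x) (center_le_cz a)
  have hrel : (center G).relIndex (cz a) = n := by
    rw [← hinf, Subgroup.inf_relIndex_right, relIndex_eq_index, hx.index_eq]
    rw [hx.index_eq, ham]
    exact H.hcop.symm
  obtain ⟨p, a', hp, ⟨k, hk⟩, haz, haZ'⟩ := exists_primary _ _ rfl haZ
  have h3 : p ∣ n := by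
    rw [← hrel]
    exact dvd_relIndex_center hp ((zpowers_le.2 (self_mem_cz a)) haz) haZ' hk
  have h4 : p ∣ m := by
    obtain ⟨j, hj⟩ := ha
    have hk0 : k ≠ 0 := by
      rintro rfl
      rw [pow_zero, orderOf_eq_one_iff] at hk
      exact haZ' (hk ▸ one_mem _)
    have h5 : p ∣ m ^ j := by
      refine (dvd_pow_self p hk0).trans ?_
      rw [← hk]
      exact (orderOf_dvd_of_mem_zpowers haz).trans hj
    exact hp.dvd_of_dvd_pow h5
  exact hp.one_lt.ne' (Nat.eq_one_of_dvd_coprimes H.hcop h4 h3)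

/-- The `π(m)`-elements of `C(v)` are central if `v` has class size `m`. -/
theorem pi_central {v u : G} (hv : (cz v).index = m) (hu : u ∈ cz v) (hup : IsPi m u) :
    u ∈ center G := by
  obtain ⟨a, b, hab, hc, ha, hb, haz, hbz⟩ := exists_decomp_pi m v
  have haZ : a ∈ center G := H.pi_part_central hx hy hc ha hb (by rw [hab, hv])
  have h1 : cz v = cz b := by rw [← hab, hc.eq, cz_mul_center haZ]
  rw [h1] at hv hu
  have hcu : Commute u b := mem_cz.1 hu
  have h2 : cz b ≤ cz u := H.le_of_top hv hcu.symm (hup.coprime hb).symm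
  refine H.pi_part_central hx hy hcu hup hb ?_
  apply le_antisymm (H.htop _)
  rw [← hv]
  exact Nat.le_of_dvd (index_pos _)
    (Subgroup.index_dvd_of_le (cz_mul_right hcu (hup.coprime hb)))

theorem inf_eq {v : G} (hv : (cz v).index = m) : cz x ⊓ cz v = center G := by
  apply le_antisymm
  · rintro u ⟨hu1, hu2⟩
    have hu1' : u ∈ cz x := hu1
    have hu2' : u ∈ cz v := hu2
    obtain ⟨c, d, hcd, -, hcp, hdo, hcz', hdz⟩ := exists_decomp_pi m u
    rw [← hcd]
    exact mul_mem (H.pi_central hx hy hv ((zpowers_le.2 hu2') hcz') hcp)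
      (H.center_of_cz_x hx hy ((zpowers_le.2 hu1') hdz) hdo)
  · exact le_inf (center_le_cz x) (center_le_cz v)

theorem relIndex_v {v : G} (hv : (cz v).index = m) : (center G).relIndex (cz v) = n := by
  rw [← H.inf_eq hx hy hv, Subgroup.inf_relIndex_right, relIndex_eq_index, hx.index_eq]
  rw [hx.index_eq, hv]
  exact H.hcop.symm

theorem relIndex_x : (center G).relIndex (cz x) = m := by
  rw [← H.inf_eq hx hy hy, inf_comm, Subgroup.inf_relIndex_right, relIndex_eq_index, hy]
  rw [hx.index_eq, hy]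
  exact H.hcop

theorem x_notMem : x ∉ center G := fun h => by
  have := cz_index_eq_one.2 h
  rw [hx.index_eq] at this
  exact H.hn.ne' this

theorem y_notMem {v : G} (hv : (cz v).index = m) : v ∉ center G := fun h => by
  have := cz_index_eq_one.2 h
  rw [hv] at this
  have h1 := H.hmn
  have h2 := H.hn
  omega

/-- The image of the normal closure of `x` in `G / Z` has more than `n` elements. -/
theorem lt_card : n < Nat.card ((NX x).map (QuotientGroup.mk' (center G))) := by
  set π := QuotientGroup.mk' (center G) with hπ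
  let C' := (cz (π x)).comap π
  have hC' : ∀ g ∈ C', ⁅g, x⁆ ∈ center G := by
    intro g hg
    rw [← QuotientGroup.eq_one_iff]
    change π ⁅g, x⁆ = 1
    rw [map_commutatorElement, commutatorElement_eq_one_iff_mul_comm]
    exact mem_cz.1 hg
  obtain ⟨θ, hθ⟩ := exists_theta hC'
  have hker : θ.ker = (cz x).subgroupOf C' := by
    ext g
    rw [MonoidHom.mem_ker, mem_subgroupOf, mem_cz, ← commutatorElement_eq_one_iff_mul_comm, ← hθ]
    exact Subtype.ext_iff
  have hle : cz x ≤ C' := by
    intro g hg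
    rw [mem_comap, mem_cz, ← map_mul, ← map_mul, mem_cz.1 hg]
  have h1 : (cz x).relIndex C' = 1 := by
    by_contra hne
    obtain ⟨p, hp, hpd⟩ := Nat.exists_prime_and_dvd hne
    have hpf : Fact p.Prime := ⟨hp⟩
    have h2 : p ∣ n := by
      rw [← hx.index_eq]
      exact hpd.trans (Subgroup.relIndex_dvd_index_of_le hle)
    have h3 : p ∣ Nat.card θ.range := by
      rw [← Subgroup.index_ker, hker]
      exact hpd
    obtain ⟨⟨_, g, rfl⟩, ht⟩ := exists_prime_orderOf_dvd_card' p h3
    have h4 : p ∣ orderOf x := by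
      rw [← ht]
      apply orderOf_dvd_of_pow_eq_one
      apply Subtype.ext
      rw [SubmonoidClass.coe_pow, OneMemClass.coe_one]
      apply Subtype.ext
      rw [SubmonoidClass.coe_pow, hθ]
      exact theta_pow (hC' g g.2) (by rw [pow_orderOf_eq_one]; exact one_mem _)
    obtain ⟨k, hk⟩ := hx.isPi
    exact hp.one_lt.ne' (Nat.eq_one_of_dvd_coprimes H.hcop (hp.dvd_of_dvd_pow (h4.trans hk)) h2)
  have h2 : (cz (π x)).index = n := by
    have h3 : C'.index = (cz (π x)).index :=
      Subgroup.index_comap_of_surjective _ (QuotientGroup.mk'_surjective _)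
    rw [← h3, ← hx.index_eq, ← Subgroup.relIndex_mul_index hle, h1, one_mul]
  have h3 : 1 ∉ cls (π x) := by
    rintro ⟨h, hh⟩
    dsimp only at hh
    have h4 : π x = 1 := by
      have e : π x = h⁻¹ * (h * π x * h⁻¹) * h := by group
      rw [e, hh]; group
    exact H.x_notMem hx hy ((QuotientGroup.eq_one_iff x).1 h4)
  have h4 : insert 1 (cls (π x)) ⊆ ((NX x).map π : Set (G ⧸ center G)) := by
    rintro k (rfl | ⟨h, rfl⟩)
    · exact one_mem _
    · obtain ⟨g, rfl⟩ := QuotientGroup.mk'_surjective (center G) h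
      refine ⟨g * x * g⁻¹, conj_mem_NX x g, ?_⟩
      rw [map_mul, map_mul, map_inv]
  have h5 := Set.ncard_le_ncard h4 (Set.toFinite _)
  rw [Set.ncard_insert_of_notMem h3 (Set.toFinite _), ← Nat.card_coe_set_eq,
    ← Nat.card_coe_set_eq, card_cls, h2] at h5
  exact h5

omit H hx hy in
theorem relIndex_le_card {F : Subgroup G} {d : G} {S : Set G} (hS : ∀ h ∈ F, h * d * h⁻¹ ∈ S) :
    (cz d).relIndex F ≤ Nat.card S := by
  let f : F ⧸ (cz d).subgroupOf F → S := Quotient.lift (fun h : F => ⟨(h : G) * d * (h : G)⁻¹, hS h h.2⟩) (by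
    intro a b hab
    have h1 : a⁻¹ * b ∈ (cz d).subgroupOf F := QuotientGroup.leftRel_apply.1 hab
    rw [mem_subgroupOf, mem_cz] at h1
    apply Subtype.ext
    dsimp only
    have h2 : ((a : G)⁻¹ * b) * d = d * ((a : G)⁻¹ * b) := h1
    calc (a : G) * d * (a : G)⁻¹ = a * (d * ((a : G)⁻¹ * b)) * (b : G)⁻¹ := by group
      _ = a * (((a : G)⁻¹ * b) * d) * (b : G)⁻¹ := by rw [h2]
      _ = _ := by group)
  refine Nat.card_le_card_of_injective f ?_
  intro a b hab
  obtain ⟨a, rfl⟩ := QuotientGroup.mk_surjective a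
  obtain ⟨b, rfl⟩ := QuotientGroup.mk_surjective b
  rw [QuotientGroup.eq, mem_subgroupOf, mem_cz]
  have h1 : (a : G) * d * (a : G)⁻¹ = b * d * (b : G)⁻¹ := congrArg Subtype.val hab
  change ((a : G)⁻¹ * b) * d = d * ((a : G)⁻¹ * b)
  calc ((a : G)⁻¹ * b) * d = (a : G)⁻¹ * (b * d * (b : G)⁻¹) * b := by group
    _ = (a : G)⁻¹ * (a * d * (a : G)⁻¹) * b := by rw [h1]
    _ = _ := by group

theorem NX_inf : NX x ⊓ cz y ≤ center G := by
  rw [← H.inf_eq hx hy hy]
  exact inf_le_inf_right _ (H.NX_le hx hy)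

/-- The key step. -/
theorem part_central {u : G} (hu : u ∈ cz y) (huZ : u ∉ center G) (huo : (orderOf u).Coprime m)
    {x' a c : G} (hx' : IsX m n x') (ha : a ∈ NX x) (hc : c ∈ NX x) (hcu : c * u = u * c)
    (hx'e : x' = (a * u * a⁻¹ * u⁻¹) * c) : c ∈ center G := by
  by_contra hcZ
  set N := NX x with hN
  set d := a * u * a⁻¹ * u⁻¹ with hd
  set Y := cz y with hY
  have hcp : IsPi m c := H.NX_isPi hx hy c hc
  have hcomm : Commute c u := hcu
  have hcop : (orderOf c).Coprime (orderOf u) := hcp.coprime huo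
  have h1 : (cz (c * u)).index ≠ m := fun h => hcZ (H.pi_part_central hx hy hcomm hcp huo h)
  have h2 : (cz (c * u)).index ≤ n := H.hsec _ (lt_of_le_of_ne (H.htop _) h1)
  set E := cz (c * u) with hE
  have hEc : E ≤ cz c := cz_mul_left hcomm hcop
  have hEu : E ≤ cz u := cz_mul_right hcomm hcop
  have hinf' : cz x' ⊓ cz y = center G := H.inf_eq hx' hy hy
  -- the set of commutators
  let D : Set G := {t | ∃ b ∈ N, t = b * u * b⁻¹ * u⁻¹}
  have hDcard : Nat.card D ≤ (cz u).relIndex N := by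
    let f : N ⧸ (cz u).subgroupOf N → D := Quotient.lift
      (fun b : N => ⟨(b : G) * u * (b : G)⁻¹ * u⁻¹, b, b.2, rfl⟩) (by
        intro b b' hbb
        have h3 : b⁻¹ * b' ∈ (cz u).subgroupOf N := QuotientGroup.leftRel_apply.1 hbb
        rw [mem_subgroupOf, mem_cz] at h3
        apply Subtype.ext
        dsimp only
        have h4 : ((b : G)⁻¹ * b') * u = u * ((b : G)⁻¹ * b') := h3
        calc (b : G) * u * (b : G)⁻¹ * u⁻¹ = b * (u * ((b : G)⁻¹ * b')) * (b' : G)⁻¹ * u⁻¹ := by group
          _ = b * (((b : G)⁻¹ * b') * u) * (b' : G)⁻¹ * u⁻¹ := by rw [h4]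
          _ = _ := by group)
    refine Nat.card_le_card_of_surjective f ?_
    rintro ⟨t, b, hb, rfl⟩
    exact ⟨((⟨b, hb⟩ : N) : N ⧸ (cz u).subgroupOf N), rfl⟩
  have hd1 : d ≠ 1 := by
    intro h
    rw [h, one_mul] at hx'e
    apply huZ
    rw [← hinf', Subgroup.mem_inf]
    refine ⟨?_, hu⟩
    rw [mem_cz, hx'e]
    exact hcu.symm
  let F : Subgroup G := (N ⊔ E) ⊓ Y
  have hF : ∀ h ∈ F, h * c * h⁻¹ = c ∧ h * u * h⁻¹ = u := by
    rintro h ⟨hh1, hh2⟩
    have hhY : h ∈ Y := hh2
    have hh1' : h ∈ ((N ⊔ E : Subgroup G) : Set G) := hh1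
    rw [Subgroup.normal_mul] at hh1'
    obtain ⟨ν, hν, e, he, rfl⟩ := hh1'
    have he1 : e * c = c * e := mem_cz.1 (hEc he)
    have he2 : e * u = u * e := mem_cz.1 (hEu he)
    have hνc : ν * c = c * ν := H.NX_comm hx hy ν hν c hc
    constructor
    · calc ν * e * c * (ν * e)⁻¹ = ν * (e * c) * e⁻¹ * ν⁻¹ := by group
        _ = (ν * c) * ν⁻¹ := by rw [he1]; group
        _ = c := by rw [hνc]; group
    · have h3 : ⁅ν * e, u⁆ = ν * (u * ν⁻¹ * u⁻¹) := by
        rw [commutatorElement_def]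
        calc ν * e * u * (ν * e)⁻¹ * u⁻¹ = ν * (e * u) * e⁻¹ * ν⁻¹ * u⁻¹ := by group
          _ = _ := by rw [he2]; group
      have h4 : ⁅ν * e, u⁆ ∈ N := by
        rw [h3]
        exact mul_mem hν ((NX_normal x).conj_mem _ (inv_mem hν) u)
      have h5 : ⁅ν * e, u⁆ ∈ Y := by
        rw [commutatorElement_def]
        exact mul_mem (mul_mem (mul_mem hhY hu) (inv_mem hhY)) (inv_mem hu)
      have h6 : ⁅ν * e, u⁆ ∈ center G := H.NX_inf hx hy ⟨h4, h5⟩
      have h7 : ⁅ν * e, u⁆ ^ orderOf u = 1 :=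
        theta_pow h6 (by rw [pow_orderOf_eq_one]; exact one_mem _)
      have h8 : orderOf ⁅ν * e, u⁆ = 1 :=
        Nat.eq_one_of_dvd_coprimes ((H.NX_isPi hx hy _ h4).coprime huo) dvd_rfl
          (orderOf_dvd_of_pow_eq_one h7)
      rw [orderOf_eq_one_iff, commutatorElement_eq_one_iff_mul_comm] at h8
      rw [h8]; group
  have hZF : center G ≤ F := le_inf ((center_le_cz _).trans le_sup_right) (center_le_cz y)
  have hFd : F ⊓ cz d ≤ center G := by
    rintro h ⟨hh1, hh2⟩
    have hhF : h ∈ F := hh1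
    have hhd : h * d = d * h := mem_cz.1 hh2
    rw [← hinf', Subgroup.mem_inf]
    refine ⟨?_, (Subgroup.mem_inf.1 hhF).2⟩
    have h3 := (hF h hhF).1
    have h4 : h * c = c * h := mul_inv_eq_iff_eq_mul.1 h3
    rw [mem_cz, hx'e]
    calc h * (d * c) = (h * d) * c := by group
      _ = d * (h * c) := by rw [hhd]; group
      _ = d * c * h := by rw [h4]; group
  have h3 : (cz d).relIndex F ≤ Nat.card (D \ {1} : Set G) := by
    apply relIndex_le_card
    intro h hh
    have h4 := (hF h hh).2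
    refine ⟨⟨h * a * h⁻¹, (NX_normal x).conj_mem _ ha h, ?_⟩, ?_⟩
    · calc h * d * h⁻¹ = (h * a * h⁻¹) * (h * u * h⁻¹) * (h * a * h⁻¹)⁻¹ * (h * u * h⁻¹)⁻¹ := by
            rw [hd]; group
        _ = _ := by rw [h4]
    · intro h5
      apply hd1
      have h6 : h * d * h⁻¹ = 1 := h5
      have e : d = h⁻¹ * (h * d * h⁻¹) * h := by group
      rw [e, h6]; group
  have h4 : Nat.card (D \ {1} : Set G) < Nat.card D := by
    rw [Nat.card_coe_set_eq, Nat.card_coe_set_eq]
    apply Set.ncard_lt_ncard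
    · refine ⟨Set.sdiff_subset, fun hsub => ?_⟩
      have : (1 : G) ∈ D \ {1} := hsub ⟨1, one_mem _, by group⟩
      exact this.2 rfl
    · exact Set.toFinite _
  have hne : ∀ A B : Subgroup G, A.relIndex B ≠ 0 := fun A B =>
    Subgroup.index_ne_zero_of_finite
  have h5 : (center G).relIndex F ≤ (cz d).relIndex F := by
    rw [← Subgroup.inf_relIndex_right (cz d) F, inf_comm]
    exact Subgroup.relIndex_le_of_le_left hFd (hne _ _)
  have h6 : (center G).relIndex F < (cz u).relIndex N :=
    lt_of_le_of_lt (h5.trans h3) (h4.trans_le hDcard)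
  have a1 : E.relIndex (N ⊔ E) * (N ⊔ E).index = E.index :=
    Subgroup.relIndex_mul_index le_sup_right
  have a2 : E.relIndex N ≤ E.relIndex (N ⊔ E) :=
    Subgroup.relIndex_le_of_le_right le_sup_left (hne _ _)
  have a3 : (cz u).relIndex N ≤ E.relIndex N := Subgroup.relIndex_le_of_le_left hEu (hne _ _)
  have a4 : (N ⊔ E).relIndex Y ≤ (N ⊔ E).index := relIndex_le_index _ _
  have a5 : F.relIndex Y = (N ⊔ E).relIndex Y := Subgroup.inf_relIndex_right _ _
  have a6 : (center G).relIndex F * F.relIndex Y = n := by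
    rw [← H.relIndex_v hx hy hy]
    exact Subgroup.relIndex_mul_relIndex _ _ _ hZF inf_le_right
  have a7 : 0 < F.relIndex Y := Nat.pos_of_ne_zero (hne _ _)
  have a8 : (center G).relIndex F * F.relIndex Y < E.relIndex (N ⊔ E) * (N ⊔ E).index := by
    refine lt_of_lt_of_le (Nat.mul_lt_mul_of_pos_right (h6.trans_le (a3.trans a2)) a7) ?_
    exact Nat.mul_le_mul_left _ (by rw [a5]; exact a4)
  omega

end Hyp

end Cfsg.Agent.H683.CopTop
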