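import Mathlib
import Cfsg.Agent.H683.CopTopC
import Cfsg.Agent.S0034

/-!
# Groups whose two largest class sizes are coprime: the structure
-/

set_option autoImplicit false
set_option linter.unusedSectionVars false

namespace Cfsg.Agent.H683.CopTop

open Subgroup Cfsg.Agent.H683.TwoSize
open scoped commutatorElement Pointwise

variable {G : Type*} [Group G] [Finite G] {m n : ℕ}

namespace Hyp

variable (H : Hyp G m n) {x y : G} (hx : IsX m n x) (hy : (cz y).index = m)
include H hx hy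

/-- Non-central `π(m)'`-elements of `C(y)` centralize only central elements of `N`. -/
theorem fix_central {u : G} (hu : u ∈ cz y) (huZ : u ∉ center G) (huo : (orderOf u).Coprime m)
    {w : G} (hw : w ∈ NX x) (hwu : w * u = u * w) : w ∈ center G := by
  have hcomm := H.NX_comm hx hy
  have hcard : (Nat.card (NX x)).Coprime (orderOf u) := by
    by_contra hne
    obtain ⟨p, hp, hpd⟩ := Nat.exists_prime_and_dvd hne
    have hpf : Fact p.Prime := ⟨hp⟩
    obtain ⟨t, ht⟩ := exists_prime_orderOf_dvd_card' p (hpd.trans (Nat.gcd_dvd_left _ _))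
    have h1 := (H.NX_isPi hx hy t t.2).coprime huo
    rw [Subgroup.orderOf_coe, ht] at h1
    exact hp.one_lt.ne' (Nat.eq_one_of_dvd_coprimes h1 dvd_rfl (hpd.trans (Nat.gcd_dvd_right _ _)))
  let M : Subgroup G :=
    { carrier := {w | ∃ a ∈ NX x, ∃ c ∈ NX x, c ∈ center G ∧ w = (a * u * a⁻¹ * u⁻¹) * c}
      one_mem' := ⟨1, one_mem _, 1, one_mem _, one_mem _, by group⟩
      mul_mem' := by
        rintro _ _ ⟨a, ha, c, hc, hcZ, rfl⟩ ⟨b, hb, d, hd, hdZ, rfl⟩
        refine ⟨a * b, mul_mem ha hb, c * d, mul_mem hc hd, mul_mem hcZ hdZ, ?_⟩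
        have h1 : u * a⁻¹ * u⁻¹ ∈ NX x := (NX_normal x).conj_mem _ (inv_mem ha) u
        have h2 : b * u * b⁻¹ * u⁻¹ ∈ NX x := by
          have e : b * u * b⁻¹ * u⁻¹ = b * (u * b⁻¹ * u⁻¹) := by group
          rw [e]
          exact mul_mem hb ((NX_normal x).conj_mem _ (inv_mem hb) u)
        have h3 := hcomm _ h2 _ h1
        have h4 := mem_center_iff.1 hcZ (b * u * b⁻¹ * u⁻¹)
        calc a * u * a⁻¹ * u⁻¹ * c * (b * u * b⁻¹ * u⁻¹ * d)
            = a * u * a⁻¹ * u⁻¹ * (c * (b * u * b⁻¹ * u⁻¹)) * d := by group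
          _ = a * ((u * a⁻¹ * u⁻¹) * (b * u * b⁻¹ * u⁻¹)) * c * d := by rw [← h4]; group
          _ = a * ((b * u * b⁻¹ * u⁻¹) * (u * a⁻¹ * u⁻¹)) * c * d := by rw [h3]
          _ = _ := by group
      inv_mem' := by
        rintro _ ⟨a, ha, c, hc, hcZ, rfl⟩
        refine ⟨a⁻¹, inv_mem ha, c⁻¹, inv_mem hc, inv_mem hcZ, ?_⟩
        have h1 : u * a⁻¹ * u⁻¹ ∈ NX x := (NX_normal x).conj_mem _ (inv_mem ha) u
        have h3 := hcomm _ (inv_mem ha) _ (inv_mem h1)
        have h4 := mem_center_iff.1 (inv_mem hcZ) (u * a * u⁻¹ * a⁻¹)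
        calc (a * u * a⁻¹ * u⁻¹ * c)⁻¹ = c⁻¹ * (u * a * u⁻¹ * a⁻¹) := by group
          _ = ((u * a⁻¹ * u⁻¹)⁻¹ * a⁻¹) * c⁻¹ := by rw [← h4]; group
          _ = (a⁻¹ * (u * a⁻¹ * u⁻¹)⁻¹) * c⁻¹ := by rw [h3]
          _ = _ := by group }
  have hM : NX x ≤ M := by
    rw [NX, closure_le]
    rintro _ ⟨g, rfl⟩
    obtain ⟨a, ha, c, hc, hcu, he⟩ := Cfsg.Agent.H551.Frob.exists_decomp hcomm hcard
      (conj_mem_NX x g)
    exact ⟨a, ha, c, hc, H.part_central hx hy hu huZ huo (hx.conj g) ha hc hcu he, he⟩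
  obtain ⟨a, ha, c, hc, hcZ, rfl⟩ := hM hw
  have h1 : (a * u * a⁻¹ * u⁻¹) * u = u * (a * u * a⁻¹ * u⁻¹) := by
    have h2 := mem_center_iff.1 hcZ u
    have h3 : (a * u * a⁻¹ * u⁻¹) * u * c = u * (a * u * a⁻¹ * u⁻¹) * c := by
      calc (a * u * a⁻¹ * u⁻¹) * u * c = (a * u * a⁻¹ * u⁻¹) * (u * c) := by group
        _ = (a * u * a⁻¹ * u⁻¹ * c) * u := by rw [h2]; group
        _ = u * (a * u * a⁻¹ * u⁻¹ * c) := hwu
        _ = _ := by group
    exact mul_right_cancel h3
  have h2 := Cfsg.Agent.H551.Frob.comm_eq_one hcomm ha hcard h1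
  have h3 : a * u * a⁻¹ * u⁻¹ = 1 := by rw [h2]; group
  rw [h3, one_mul]
  exact hcZ

/-- The same for all non-central elements of `C(y)`. -/
theorem fix_central' {u : G} (hu : u ∈ cz y) (huZ : u ∉ center G)
    {w : G} (hw : w ∈ NX x) (hwu : w * u = u * w) : w ∈ center G := by
  obtain ⟨a, b, hab, hc, ha, hb, haz, hbz⟩ := exists_decomp_pi m u
  have haZ : a ∈ center G := H.pi_central hx hy hy ((zpowers_le.2 hu) haz) ha
  have h1 : cz u = cz b := by rw [← hab, hc.eq, cz_mul_center haZ]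
  have hbZ : b ∉ center G := fun h => huZ (hab ▸ mul_mem haZ h)
  refine H.fix_central hx hy ((zpowers_le.2 hu) hbz) hbZ hb hw ?_
  have h2 : w ∈ cz u := mem_cz.2 hwu
  rw [h1] at h2
  exact mem_cz.1 h2

/-- All non-central elements of `C(y)` have class size `m`. -/
theorem index_of_mem {u : G} (hu : u ∈ cz y) (huZ : u ∉ center G) : (cz u).index = m := by
  have hne : ∀ A B : Subgroup G, A.relIndex B ≠ 0 := fun A B =>
    Subgroup.index_ne_zero_of_finite
  have h1 : (center G).relIndex (NX x) ≤ (cz u).relIndex (NX x) := by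
    rw [← Subgroup.inf_relIndex_right (cz u) (NX x)]
    refine Subgroup.relIndex_le_of_le_left ?_ (hne _ _)
    rintro w ⟨hw1, hw2⟩
    exact H.fix_central' hx hy hu huZ hw2 (mem_cz.1 hw1)
  have h2 := H.lt_card hx hy
  rw [← Subgroup.relIndex_ker, QuotientGroup.ker_mk'] at h2
  have h3 : n < (cz u).index := h2.trans_le (h1.trans (relIndex_le_index _ _))
  by_contra hne'
  exact absurd (H.hsec u (lt_of_le_of_ne (H.htop u) hne')) (not_le.2 h3)

/-- A distinguished element of `C(y)`. -/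
theorem exists_y0 : ∃ (q : ℕ) (y0 : G), q.Prime ∧ ¬ q ∣ m ∧ y0 ∈ cz y ∧ y0 ∉ center G ∧
    y0 ^ q ∈ center G ∧ (∃ k, orderOf y0 = q ^ k) ∧ cz y0 = cz y := by
  obtain ⟨q, y', hq, ⟨k, hk⟩, hyz, hyZ⟩ := exists_primary _ _ rfl (H.y_notMem hx hy hy)
  obtain ⟨y0, hy0z, hy0Z, hy0q, l, hl⟩ := exists_of_dvd_relIndex_center hq
    (dvd_relIndex_center hq (mem_zpowers y') hyZ hk)
  have h1 : y0 ∈ zpowers y := (zpowers_le.2 hyz) hy0z
  have h2 : y0 ∈ cz y := (zpowers_le.2 (self_mem_cz y)) h1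
  refine ⟨q, y0, hq, ?_, h2, hy0Z, hy0q, ⟨l, hl⟩, ?_⟩
  · intro hqm
    apply hy0Z
    refine H.pi_central hx hy hy h2 ⟨l, ?_⟩
    rw [hl]
    exact pow_dvd_pow_of_dvd hqm l
  · exact (cz_eq_of_le (cz_le_of_mem_zpowers h1) (by
      rw [hy, H.index_of_mem hx hy h2 hy0Z])).symm

/-- `C(u) = C(y)` for all non-central elements of `C(y)`. -/
theorem cz_eq {u : G} (hu : u ∈ cz y) (huZ : u ∉ center G) : cz u = cz y := by
  obtain ⟨q, y0, hq, hqm, hy0, hy0Z, hy0q, ⟨l, hl⟩, hy0e⟩ := H.exists_y0 hx hy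
  have hqf : Fact q.Prime := ⟨hq⟩
  obtain ⟨r, u', hr, ⟨k, hk⟩, huz, huZ'⟩ := exists_primary _ _ rfl huZ
  obtain ⟨v, hvz, hvZ, hvr, j, hj⟩ := exists_of_dvd_relIndex_center hr
    (dvd_relIndex_center hr (mem_zpowers u') huZ' hk)
  have h1 : v ∈ zpowers u := (zpowers_le.2 huz) hvz
  have hvy : v ∈ cz y := (zpowers_le.2 hu) h1
  have hvm := H.index_of_mem hx hy hvy hvZ
  have hum := H.index_of_mem hx hy hu huZ
  have hy0m := H.index_of_mem hx hy hy0 hy0Z
  have hvc : v ∈ cz y0 := by rw [hy0e]; exact hvy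
  have hcomm : Commute y0 v := (mem_cz.1 hvc).symm
  have key : cz v = cz y0 := by
    by_cases hrq : r = q
    · subst hrq
      have hex : ∃ j : ℕ, v * y0 ^ j ∈ center G := by
        by_contra hcon
        push Not at hcon
        have hNn : ∀ g : G, g ∈ normalizer (NX x : Set G) := by
          intro g
          have := (Subgroup.normalizer_eq_top_iff (H := NX x)).2 (NX_normal x)
          rw [this]
          exact mem_top g
        have hZle : ∀ z ∈ center G, z ∈ centralizer (NX x : Set G) := fun z hz => by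
          rw [mem_centralizer_iff]
          intro t _
          exact mem_center_iff.1 hz t
        have hid := ident (p := r) (NX x) (H.NX_comm hx hy) (hNn v) (hNn y0) (hZle _ hvr)
          (hZle _ hy0q) (by
            rw [commutatorElement_eq_one_iff_mul_comm.2 hcomm.symm.eq]
            exact one_mem _) (NX x) (center G) le_rfl
          (fun w hw => (NX_normal x).conj_mem _ hw v) (fun w hw => (NX_normal x).conj_mem _ hw y0)
          (fun w hw h => H.fix_central' hx hy hy0 hy0Z hw h.symm)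
          (fun j w hw h => H.fix_central' hx hy (mul_mem hvy (pow_mem hy0 j)) (hcon j) hw h.symm)
        have h2 := hid x (self_mem_NX x)
        have hcop : r.Coprime (orderOf x) := by
          refine (hx.isPi.coprime ?_).symm
          rw [hr.coprime_iff_not_dvd]
          exact hqm
        obtain ⟨i, hi⟩ := exists_pow_eq_self_of_coprime hcop
        apply H.x_notMem hx hy
        rw [← hi]
        exact pow_mem h2 i
      obtain ⟨i, hi⟩ := hex
      have h2 : cz v = cz (y0 ^ i) := by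
        have e : v = (y0 ^ i)⁻¹ * (v * y0 ^ i) := by
          have h3 := mem_center_iff.1 hi (y0 ^ i)⁻¹
          rw [h3]; group
        rw [e, cz_mul_center hi]
        ext g
        rw [mem_cz, mem_cz]
        constructor
        · intro h; exact (Commute.inv_right_iff.1 (show Commute g (y0 ^ i)⁻¹ from h)).eq
        · intro h; exact (Commute.inv_right (show Commute g (y0 ^ i) from h)).eq
      have h3 : cz y0 ≤ cz v := by
        rw [h2]
        exact cz_le_of_mem_zpowers ⟨i, by simp⟩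
      exact (cz_eq_of_le h3 (by rw [hy0m, hvm])).symm
    · refine (cz_eq_of_le (H.le_of_top hy0m hcomm ?_) (by rw [hy0m, hvm])).symm
      rw [hl, hj]
      exact Nat.Coprime.pow _ _ ((Nat.coprime_primes hq hr).2 (Ne.symm hrq))
  rw [← hy0e, ← key]
  exact cz_eq_of_le (cz_le_of_mem_zpowers h1) (by rw [hum, hvm])

theorem y_comm : ∀ u ∈ cz y, ∀ w ∈ cz y, u * w = w * u := by
  intro u hu w hw
  by_cases huZ : u ∈ center G
  · exact (mem_center_iff.1 huZ w).symm
  · rw [← H.cz_eq hx hy hu huZ] at hw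
    exact (mem_cz.1 hw).symm

/-- `C(y)` is self-normalizing. -/
theorem self_normalizing {g : G} (hg : ∀ u ∈ cz y, g * u * g⁻¹ ∈ cz y) : g ∈ cz y := by
  obtain ⟨c, hc, h, hh, rfl⟩ := Cfsg.Agent.S0007.exists_mul_eq (cz x) (cz y)
    (by rw [hx.index_eq, hy]; exact H.hcop.symm) g
  refine mul_mem ?_ hh
  -- `c` normalizes `C(y)`
  have hcn : ∀ u ∈ cz y, c * u * c⁻¹ ∈ cz y := by
    intro u hu
    have h1 := hg (h⁻¹ * u * h) (mul_mem (mul_mem (inv_mem hh) hu) hh)
    have e : c * h * (h⁻¹ * u * h) * (c * h)⁻¹ = c * u * c⁻¹ := by group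
    rwa [e] at h1
  apply center_le_cz y
  by_contra hcZ
  have hcn' : c ∈ normalizer (cz y : Set G) := Subgroup.mem_normalizer_fintype hcn
  obtain ⟨a, b, hab, hcomm, ha, hb, haz, hbz⟩ := exists_decomp_pi m c
  have hbZ : b ∈ center G := H.center_of_cz_x hx hy ((zpowers_le.2 hc) hbz) hb
  have haZ : a ∉ center G := fun h => hcZ (hab ▸ mul_mem h hbZ)
  have hax : a ∈ cz x := (zpowers_le.2 hc) haz
  have han : a ∈ normalizer (cz y : Set G) := (zpowers_le.2 hcn') haz
  have hinf : cz a ⊓ cz y ≤ center G := by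
    rintro u ⟨hu1, hu2⟩
    by_contra huZ
    apply haZ
    rw [← H.inf_eq hx hy hy, Subgroup.mem_inf]
    refine ⟨hax, ?_⟩
    rw [← H.cz_eq hx hy hu2 huZ, mem_cz]
    exact (mem_cz.1 hu1).symm
  have hn : n ≤ (cz a).index := by
    refine le_trans ?_ (relIndex_le_index (cz a) (cz y))
    rw [← H.relIndex_v hx hy hy, ← Subgroup.inf_relIndex_right (cz a) (cz y)]
    exact Subgroup.relIndex_le_of_le_left hinf Subgroup.index_ne_zero_of_finite
  have hn' : (cz a).index = n :=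
    le_antisymm (H.hsec a (lt_of_le_of_ne (H.htop a) (H.ne_top hx hy hax))) hn
  have hXa : IsX m n a := ⟨hn', ha⟩
  obtain ⟨q, y0, hq, hqm, hy0, hy0Z, hy0q, ⟨l, hl⟩, hy0e⟩ := H.exists_y0 hx hy
  have h1 : ⁅a, y0⁆ ∈ NX a := by
    have e : ⁅a, y0⁆ = a * (y0 * a * y0⁻¹)⁻¹ := by rw [commutatorElement_def]; group
    rw [e]
    exact mul_mem (self_mem_NX a) (inv_mem (conj_mem_NX a y0))
  have h2 : ⁅a, y0⁆ ∈ cz y := by
    rw [commutatorElement_def]
    exact mul_mem (((mem_normalizer_iff.1 han) y0).1 hy0) (inv_mem hy0)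
  have h3 : ⁅a, y0⁆ ∈ center G := H.NX_inf hXa hy ⟨h1, h2⟩
  have h4 : ⁅a, y0⁆ ^ orderOf y0 = 1 :=
    theta_pow h3 (by rw [pow_orderOf_eq_one]; exact one_mem _)
  have hcop : (orderOf y0).Coprime m := by
    rw [hl]
    refine Nat.Coprime.pow_left l ?_
    rw [hq.coprime_iff_not_dvd]
    exact hqm
  have h5 : orderOf ⁅a, y0⁆ = 1 :=
    Nat.eq_one_of_dvd_coprimes ((H.NX_isPi hXa hy _ h1).coprime hcop) dvd_rfl
      (orderOf_dvd_of_pow_eq_one h4)
  rw [orderOf_eq_one_iff, commutatorElement_eq_one_iff_mul_comm] at h5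
  apply haZ
  rw [← H.inf_eq hx hy hy, Subgroup.mem_inf]
  refine ⟨hax, ?_⟩
  rw [← hy0e, mem_cz]
  exact h5

end Hyp

end Cfsg.Agent.H683.CopTop
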