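import Cfsg.Agent.H531.LemX

/-!
# Sylow subgroups fixing points

* `fix_of_small` : a `p`-element preserving a set of fewer than `p` points fixes them;
* `dvd_index_of_move` : the permutation trick for Sylow subgroups.
-/

set_option autoImplicit false

namespace Cfsg.Agent.H683.Cpq

open Subgroup Cfsg.Agent.H531.TwoPrimes Cfsg.Agent.H531.LemX

/-- a `p`-element preserving a set of fewer than `p` points fixes them -/
theorem fix_of_small {G Ω : Type*} [Group G] [MulAction G Ω] {p k : ℕ} (hp : p.Prime) {g : G} (hg : g ^ p ^ k = 1)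
    (Δ : Finset Ω) (hΔ : ∀ T ∈ Δ, g • T ∈ Δ) (hc : Δ.card < p) {T : Ω} (hT : T ∈ Δ) : g • T = T := by
  have h1 : ∀ i : ℕ, g ^ i • T ∈ Δ := by
    intro i
    induction i with
    | zero => rw [pow_zero, one_smul]; exact hT
    | succ i ih => rw [pow_succ', mul_smul]; exact hΔ _ ih
  obtain ⟨i, hi, j, hj, hij, he⟩ := Finset.exists_ne_map_eq_of_card_lt_of_maps_to
    (s := Finset.range p) (t := Δ) (by rwa [Finset.card_range]) (f := fun i => g ^ i • T) (fun i _ => h1 i)
  rw [Finset.mem_range] at hi hj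
  wlog hlt : i < j generalizing i j
  · exact this j hj i hi hij.symm he.symm (by omega)
  have h2 : g ^ (j - i) • T = T := by
    have he' : g ^ i • T = g ^ j • T := he
    have h3 : g ^ j = g ^ i * g ^ (j - i) := by rw [← pow_add]; congr 1; omega
    rw [h3, mul_smul] at he'
    exact (smul_left_cancel _ he').symm
  refine smul_eq_of_coprime (m := j - i) (n := p ^ k) ?_ h2 (by rw [hg, one_smul])
  apply Nat.Coprime.pow_right
  rw [Nat.coprime_comm, Nat.Prime.coprime_iff_not_dvd hp]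
  intro h
  have := Nat.le_of_dvd (by omega) h
  omega

/-- **The permutation trick.** `a` is a `p`-element moving `T₀`, with `a ^ p` fixing `T₀`; the `p`-elements of `H` fix
`T₀` and preserve the rest of the `a`-orbit of `T₀`. Then `p` divides `|G : H|`. -/
theorem dvd_index_of_move {G Ω : Type*} [Group G] [Finite G] [MulAction G Ω] {p k : ℕ} (hp : p.Prime) {a : G}
    (hak : a ^ p ^ k = 1) {T₀ : Ω} (ha : a • T₀ ≠ T₀) (hap : a ^ p • T₀ = T₀) (H : Subgroup G)
    (hfix : ∀ h ∈ H, (∃ m : ℕ, h ^ p ^ m = 1) → h • T₀ = T₀)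
    (hO : ∀ h ∈ H, ∀ j : ℕ, a ^ j • T₀ ≠ T₀ → ∃ l : ℕ, h • a ^ j • T₀ = a ^ l • T₀) : p ∣ H.index := by
  classical
  by_contra hcon
  have : Fact p.Prime := ⟨hp⟩
  obtain ⟨R, hR⟩ := exists_sylow_le hcon
  -- the orbit
  have hcom : ∀ i j : ℕ, a ^ i • a ^ j • T₀ = a ^ j • a ^ i • T₀ := by
    intro i j
    rw [← mul_smul, ← mul_smul, ← pow_add, ← pow_add, add_comm]
  have happ : ∀ i : ℕ, a ^ (p * i) • T₀ = T₀ := by
    intro i
    induction i with
    | zero => rw [mul_zero, pow_zero, one_smul]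
    | succ i ih => rw [mul_add, mul_one, pow_add, mul_smul, hap, ih]
  have hmod : ∀ l : ℕ, a ^ l • T₀ = a ^ (l % p) • T₀ := by
    intro l
    have h1 : a ^ l = a ^ (l % p) * a ^ (p * (l / p)) := by
      rw [← pow_add, Nat.mod_add_div]
    rw [h1, mul_smul, happ]
  let Δ : Finset Ω := ((Finset.Ico 1 p).image fun k => a ^ k • T₀).filter fun T => T ≠ T₀
  have hred : ∀ l : ℕ, a ^ l • T₀ ≠ T₀ → a ^ l • T₀ ∈ Δ := by
    intro l hl
    rw [Finset.mem_filter, Finset.mem_image]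
    refine ⟨⟨l % p, ?_, (hmod l).symm⟩, hl⟩
    rw [Finset.mem_Ico]
    refine ⟨?_, Nat.mod_lt _ hp.pos⟩
    by_contra h2
    have h3 : l % p = 0 := by omega
    rw [hmod, h3, pow_zero, one_smul] at hl
    exact hl rfl
  have hcard : Δ.card < p := by
    have h1 : Δ.card ≤ (Finset.Ico 1 p).card := (Finset.card_filter_le _ _).trans Finset.card_image_le
    rw [Nat.card_Ico] at h1
    have := hp.one_lt
    omega
  -- the Sylow subgroup fixes the orbit pointwise
  have hRfix : ∀ h ∈ R, ∀ l : ℕ, h • a ^ l • T₀ = a ^ l • T₀ := by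
    intro h hh l
    obtain ⟨m, hm⟩ := R.isPGroup' ⟨h, hh⟩
    have hm' : h ^ p ^ m = 1 := congrArg Subtype.val hm
    have h0 : h • T₀ = T₀ := hfix h (hR hh) ⟨m, hm'⟩
    by_cases hl : a ^ l • T₀ = T₀
    · rw [hl, h0]
    · refine fix_of_small hp hm' Δ ?_ hcard (hred l hl)
      intro T hT
      rw [Finset.mem_filter, Finset.mem_image] at hT
      obtain ⟨⟨j, -, rfl⟩, hj⟩ := hT
      obtain ⟨l', hl'⟩ := hO h (hR hh) j hj
      rw [hl']
      apply hred
      rw [← hl']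
      intro h1
      exact hj (smul_left_cancel h (h1.trans h0.symm))
  -- the pointwise and the setwise stabiliser
  let S : Subgroup G :=
    { carrier := {g | (∀ l : ℕ, ∃ l' : ℕ, g • a ^ l • T₀ = a ^ l' • T₀) ∧ (∀ l : ℕ, ∃ l' : ℕ, g⁻¹ • a ^ l • T₀ = a ^ l' • T₀)}
      mul_mem' := by
        rintro x y ⟨hx1, hx2⟩ ⟨hy1, hy2⟩
        refine ⟨fun l => ?_, fun l => ?_⟩
        · obtain ⟨l1, h1⟩ := hy1 l
          obtain ⟨l2, h2⟩ := hx1 l1
          exact ⟨l2, by rw [mul_smul, h1, h2]⟩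
        · obtain ⟨l1, h1⟩ := hx2 l
          obtain ⟨l2, h2⟩ := hy2 l1
          exact ⟨l2, by rw [mul_inv_rev, mul_smul, h1, h2]⟩
      one_mem' := ⟨fun l => ⟨l, by rw [one_smul]⟩, fun l => ⟨l, by rw [inv_one, one_smul]⟩⟩
      inv_mem' := by
        rintro x ⟨hx1, hx2⟩
        exact ⟨hx2, fun l => by rw [inv_inv]; exact hx1 l⟩ }
  let F : Subgroup G := ⨅ l : ℕ, MulAction.stabilizer G (a ^ l • T₀)
  have hF : ∀ g : G, g ∈ F ↔ ∀ l : ℕ, g • a ^ l • T₀ = a ^ l • T₀ := by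
    intro g
    simp only [F, Subgroup.mem_iInf, MulAction.mem_stabilizer_iff]
  have hFS : F ≤ S := by
    intro g hg
    rw [hF] at hg
    refine ⟨fun l => ⟨l, hg l⟩, fun l => ⟨l, ?_⟩⟩
    rw [inv_smul_eq_iff, hg l]
  have hRF : (R : Subgroup G) ≤ F := fun h hh => (hF h).2 (hRfix h hh)
  have haS : a ∈ S := by
    refine ⟨fun l => ⟨l + 1, ?_⟩, fun l => ?_⟩
    · rw [pow_succ', mul_smul]
    · refine ⟨l + (p ^ k - 1), ?_⟩
      rw [inv_smul_eq_iff, ← mul_smul, ← pow_succ']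
      have h1 : l + (p ^ k - 1) + 1 = l + p ^ k := by
        have : 0 < p ^ k := pow_pos hp.pos k
        omega
      rw [h1, pow_add, hak, mul_one]
  have hn : (F.subgroupOf S).Normal := by
    constructor
    rintro ⟨f, hfS⟩ hf ⟨g, hg⟩
    rw [Subgroup.mem_subgroupOf] at hf ⊢
    have hf' : ∀ l : ℕ, f • a ^ l • T₀ = a ^ l • T₀ := (hF f).1 hf
    show g * f * g⁻¹ ∈ F
    rw [hF]
    intro l
    obtain ⟨l', hl'⟩ := hg.2 l
    rw [mul_smul, mul_smul, hl', hf', ← hl', smul_inv_smul]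
  have hidx : ¬ p ∣ F.relIndex S := by
    intro h
    have h1 : ¬ p ∣ F.index := fun h2 => R.not_dvd_index (h2.trans (Subgroup.index_dvd_of_le hRF))
    exact h1 (h.trans (Subgroup.relIndex_dvd_index_of_le hFS))
  have h3 := Subgroup.pow_index_mem (F.subgroupOf S) (⟨a, haS⟩ : S)
  rw [Subgroup.mem_subgroupOf] at h3
  have h4 : a ^ F.relIndex S ∈ F := h3
  have h5 : a ∈ F := by
    refine mem_of_pow_coprime F (m := F.relIndex S) (n := p ^ k) ?_ h4 (by rw [hak]; exact one_mem _)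
    apply Nat.Coprime.pow_right
    rw [Nat.coprime_comm, Nat.Prime.coprime_iff_not_dvd hp]
    exact hidx
  apply ha
  have := (hF a).1 h5 0
  rwa [pow_zero, one_smul] at this

end Cfsg.Agent.H683.Cpq
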