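import Cfsg.Agent.H683.CpqLem
import Cfsg.Agent.H531.RedAb
import Cfsg.Agent.Lib.PSolvable
import Cfsg.Agent.Lib.CoprimeAbelian

/-!
# The reduction of S4307: definitions and the case `O_{q'}(G) = 1`

`Hyp p q G` : `G` has abelian Sylow `p`-subgroups and a normal `p`-complement (`TC`), `p` divides a class size, and no
class size is divisible by `p` and by `q`.

`Con q G` : `G` is `q`-solvable and its Sylow `q`-subgroups are abelian.
-/

set_option autoImplicit false

namespace Cfsg.Agent.H683.Cpq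

open Subgroup Cfsg.Agent.H531 Cfsg.Agent.H531.TwoPrimes Cfsg.Agent.H531.LemX Cfsg.Agent.H531.Sizes
  Cfsg.Agent.H531.ClassIndex Cfsg.Agent.H531.Red Cfsg.Agent.Lib.MinNormal Cfsg.Agent.Lib.MinNormalNonabelian
open scoped Pointwise

universe u

/-- a normal `p`-complement with abelian quotient -/
def TC (p : ℕ) (G : Type u) [Group G] : Prop :=
  ∃ K : Subgroup G, K.Normal ∧ ¬ p ∣ Nat.card K ∧ (∀ g h : G, g * h * g⁻¹ * h⁻¹ ∈ K) ∧ ∃ n : ℕ, K.index = p ^ n

/-- the hypothesis -/
structure Hyp (p q : ℕ) (G : Type u) [Group G] : Prop where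
  tc : TC p G
  no : ∀ x : G, ¬ p ∣ cs x ∨ ¬ q ∣ cs x
  vtx : ∃ x : G, p ∣ cs x

/-- the conclusion -/
def Con (q : ℕ) (G : Type u) [Group G] : Prop :=
  Cfsg.IsPSolvable q G ∧ ∀ Q : Sylow q G, ∀ x ∈ Q, ∀ y ∈ Q, x * y = y * x

section

variable {G : Type u} [Group G]

theorem cs_one : cs (1 : G) = 1 := by
  have : centralizer ({(1 : G)} : Set G) = ⊤ := by
    rw [eq_top_iff]
    intro y _
    rw [mem_centralizer_singleton_iff, mul_one, one_mul]
  rw [cs, this, Subgroup.index_top]

theorem eq_one_of_pgroup {p : ℕ} [hp : Fact p.Prime] {K : Subgroup G} (hK : ¬ p ∣ Nat.card K) {x : G} (hx : x ∈ K)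
    {k : ℕ} (hk : x ^ p ^ k = 1) : x = 1 := by
  have h1 : orderOf x ∣ p ^ k := orderOf_dvd_of_pow_eq_one hk
  have h2 : orderOf x ∣ Nat.card K := by
    have := orderOf_dvd_natCard (⟨x, hx⟩ : K)
    rwa [Subgroup.orderOf_mk] at this
  have h3 : (p ^ k).Coprime (Nat.card K) := Nat.Coprime.pow_left k ((Nat.Prime.coprime_iff_not_dvd hp.out).2 hK)
  have h4 : orderOf x ∣ Nat.gcd (p ^ k) (Nat.card K) := Nat.dvd_gcd h1 h2
  rw [h3] at h4
  exact orderOf_eq_one_iff.1 (Nat.dvd_one.1 h4)

theorem eq_one_of_mem_sylow {p : ℕ} [hp : Fact p.Prime] {K : Subgroup G} (hK : ¬ p ∣ Nat.card K) (P : Sylow p G) {x : G}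
    (hx : x ∈ K) (hxP : x ∈ P) : x = 1 := by
  obtain ⟨k, hk⟩ := P.isPGroup' ⟨x, hxP⟩
  exact eq_one_of_pgroup hK hx (congrArg Subtype.val hk)

/-- conjugates of Sylow subgroups: elements -/
theorem mem_smul_sylow {p : ℕ} {P : Sylow p G} {g x : G} : x ∈ (g • P : Sylow p G) ↔ g⁻¹ * x * g ∈ P := by
  show x ∈ MulAut.conj g • (P : Subgroup G) ↔ _
  rw [Subgroup.mem_pointwise_smul_iff_inv_smul_mem]
  have : (MulAut.conj g)⁻¹ • x = g⁻¹ * x * g := by
    simp [MulAut.smul_def, mul_assoc]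
  rw [this]
  rfl

theorem commutator_eq_one {x y : G} (h : x * y * x⁻¹ * y⁻¹ = 1) : x * y = y * x := by
  have : x * y = (x * y * x⁻¹ * y⁻¹) * (y * x) := by group
  rw [this, h, one_mul]

end

section

variable {G : Type u} [Group G] [Finite G] {p q : ℕ} [hpf : Fact p.Prime] [hqf : Fact q.Prime]

omit [Finite G] hqf in
theorem TC.norm_le (h : TC p G) (P : Sylow p G) :
    normalizer ((P : Subgroup G) : Set G) ≤ centralizer ((P : Subgroup G) : Set G) := by
  obtain ⟨K, hK, hp, hc, -⟩ := h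
  intro n hn
  rw [mem_centralizer_iff]
  intro y hy
  have h1 : n * y * n⁻¹ ∈ (P : Subgroup G) := (Subgroup.mem_normalizer_iff.1 hn y).1 hy
  have h2 : n * y * n⁻¹ * y⁻¹ = 1 := eq_one_of_mem_sylow hp P (hc n y) (mul_mem h1 (inv_mem hy))
  exact (commutator_eq_one h2).symm

omit [Finite G] hpf hqf in
theorem TC.quot [Finite G] (h : TC p G) (N : Subgroup G) [N.Normal] (hp : p.Prime) : TC p (G ⧸ N) := by
  obtain ⟨K, hK, hpK, hc, n, hn⟩ := h
  refine ⟨K.map (QuotientGroup.mk' N), hK.map _ (QuotientGroup.mk'_surjective N), ?_, ?_, ?_⟩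
  · exact fun h => hpK (h.trans (Subgroup.card_map_dvd _ _))
  · intro g h
    obtain ⟨g, rfl⟩ := QuotientGroup.mk'_surjective N g
    obtain ⟨h, rfl⟩ := QuotientGroup.mk'_surjective N h
    exact ⟨_, hc g h, by simp only [map_mul, map_inv]⟩
  · have h1 : (K.map (QuotientGroup.mk' N)).index ∣ K.index :=
      Subgroup.index_map_dvd _ (QuotientGroup.mk'_surjective N)
    rw [hn] at h1
    obtain ⟨m, -, hm⟩ := (Nat.dvd_prime_pow hp).1 h1
    exact ⟨m, hm⟩

omit hqf in
/-- If all class sizes of `G ⧸ N` are prime to `p`, then `[G, P] ≤ N`. -/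
theorem comm_mem_of (P : Sylow p G) (N : Subgroup G) [N.Normal] (h1 : ∀ x : G ⧸ N, ¬ p ∣ cs x) (g : G) {y : G}
    (hy : y ∈ P) : g * y * g⁻¹ * y⁻¹ ∈ N := by
  have h2 : IsPGroup p ((P : Subgroup G).map (QuotientGroup.mk' N)) := P.isPGroup'.map _
  obtain ⟨R, hR⟩ := h2.exists_le_sylow
  have h3 : (QuotientGroup.mk' N) y ∈ Subgroup.center (G ⧸ N) :=
    le_center h1 R (hR ⟨y, hy, rfl⟩)
  have h4 := Subgroup.mem_center_iff.1 h3 (QuotientGroup.mk' N g)
  rw [← QuotientGroup.ker_mk' N, MonoidHom.mem_ker]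
  simp only [map_mul, map_inv]
  rw [h4]
  group

variable (B : Hyp p q G)

include B

omit [Finite G] hqf in
theorem Hyp.comm (P : Sylow p G) {x y : G} (hx : x ∈ P) (hy : y ∈ P) : x * y = y * x := by
  have h1 : x ∈ centralizer ((P : Subgroup G) : Set G) := B.tc.norm_le P (Subgroup.le_normalizer hx)
  exact (Subgroup.mem_centralizer_iff.1 h1 y hy).symm

omit hqf in
theorem Hyp.not_le_center (P : Sylow p G) : ¬ (P : Subgroup G) ≤ center G := by
  intro h
  obtain ⟨x, hx⟩ := B.vtx
  exact not_dvd_of_le_center P h x hx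

omit hqf in
/-- In a quotient not satisfying the hypothesis, `P` is central. -/
theorem Hyp.comm_mem (P : Sylow p G) (N : Subgroup G) [N.Normal] (hN : ¬ Hyp p q (G ⧸ N)) (g : G) {y : G}
    (hy : y ∈ P) : g * y * g⁻¹ * y⁻¹ ∈ N := by
  refine comm_mem_of P N ?_ g hy
  intro x hx
  apply hN
  refine ⟨B.tc.quot N hpf.out, ?_, ⟨x, hx⟩⟩
  intro z
  obtain ⟨z, rfl⟩ := QuotientGroup.mk'_surjective N z
  have h4 := cs_dvd_of_surjective (QuotientGroup.mk'_surjective N) z
  exact (B.no z).imp (fun h h5 => h (h5.trans h4)) (fun h h5 => h (h5.trans h4))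

end

section

variable {G : Type u} [Group G] [Finite G] {p q : ℕ} [hpf : Fact p.Prime] [hqf : Fact q.Prime]

omit hpf in
theorem isPSolvable_of_not_dvd (h : ¬ q ∣ Nat.card G) : Cfsg.IsPSolvable q G := by
  refine Cfsg.Agent.Lib.PSolvable.IsPSolvable_of_quotient q (⊤ : Subgroup G) (Or.inr ?_) ?_
  · rw [Subgroup.card_top, Nat.coprime_comm, Nat.Prime.coprime_iff_not_dvd hqf.out]
    exact h
  · have : Subsingleton (G ⧸ (⊤ : Subgroup G)) := QuotientGroup.subsingleton_quotient_top
    exact Cfsg.Agent.Lib.PSolvable.IsPSolvable_of_solvable q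

omit hpf in
theorem Con.of_quot (N : Subgroup G) [N.Normal] (hN : ¬ q ∣ Nat.card N) (h : Con q (G ⧸ N)) : Con q G := by
  refine ⟨Cfsg.Agent.Lib.PSolvable.IsPSolvable_of_quotient q N (Or.inr ?_) h.1, ?_⟩
  · rw [Nat.coprime_comm, Nat.Prime.coprime_iff_not_dvd hqf.out]
    exact hN
  · intro Q x hx y hy
    have h2 : IsPGroup q ((Q : Subgroup G).map (QuotientGroup.mk' N)) := Q.isPGroup'.map _
    obtain ⟨R, hR⟩ := h2.exists_le_sylow
    have h3 := h.2 R _ (hR ⟨x, hx, rfl⟩) _ (hR ⟨y, hy, rfl⟩)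
    apply commutator_eq_one
    refine eq_one_of_mem_sylow hN Q ?_ (mul_mem (mul_mem (mul_mem hx hy) (inv_mem hx)) (inv_mem hy))
    rw [← QuotientGroup.ker_mk' N, MonoidHom.mem_ker]
    simp only [map_mul, map_inv]
    rw [h3]
    group

omit hpf in
/-- If the normal subgroup `L` contains the Sylow `q`-subgroups and its elements are `q`-central, then `Con`. -/
theorem Con.of_central (L : Subgroup G) [hL : L.Normal] (R : Sylow q G) (hR : (R : Subgroup G) ≤ L)
    (h : ∀ l ∈ L, ¬ q ∣ cs l) : Con q G := by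
  have h0 : ∀ x : L, ¬ q ∣ cs x := fun x hx => h x x.2 (hx.trans (cs_dvd_of_normal L x))
  have h1 := le_center h0 (R.subtype hR)
  have hcomm : ∀ r ∈ R, ∀ l ∈ L, l * r = r * l := by
    intro r hr l hl
    have h2 : (⟨r, hR hr⟩ : L) ∈ R.subtype hR := hr
    exact congrArg Subtype.val (Subgroup.mem_center_iff.1 (h1 h2) ⟨l, hl⟩)
  have hall : ∀ g : G, ((g • R : Sylow q G) : Subgroup G) ≤ L := by
    intro g x hx
    have h2 : g⁻¹ * x * g ∈ R := mem_smul_sylow.1 hx
    have h3 := hL.conj_mem _ (hR h2) g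
    have e : g * (g⁻¹ * x * g) * g⁻¹ = x := by group
    rwa [e] at h3
  have hn : ((R.subtype hR : Sylow q L) : Subgroup L).Normal := by
    constructor
    intro n hn g
    have := Subgroup.mem_center_iff.1 (h1 hn) g
    rwa [this, mul_inv_cancel_right]
  have hss : Subsingleton (Sylow q L) := Sylow.unique_of_normal _ hn |>.instSubsingleton
  have heq : ∀ g : G, g • R = R := by
    intro g
    have h2 : (g • R : Sylow q G).subtype (hall g) = R.subtype hR := Subsingleton.elim _ _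
    exact Sylow.subtype_injective h2
  have hRn : (R : Subgroup G).Normal := by
    constructor
    intro n hn g
    have : g * n * g⁻¹ ∈ (g • R : Sylow q G) := by
      rw [mem_smul_sylow]
      have e : g⁻¹ * (g * n * g⁻¹) * g = n := by group
      rw [e]
      exact hn
    rwa [heq] at this
  refine ⟨Cfsg.Agent.Lib.PSolvable.IsPSolvable_of_quotient q (R : Subgroup G) (Or.inl ?_) ?_, ?_⟩
  · exact IsPGroup.iff_card.1 R.isPGroup'
  · exact isPSolvable_of_not_dvd R.not_dvd_index
  · intro Q x hx y hy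
    obtain ⟨g, rfl⟩ := MulAction.exists_smul_eq G R Q
    rw [heq] at hx hy
    exact (hcomm y hy x (hR hx))

variable (B : Hyp p q G)

include B

/-- `[G, P] ≤ C(V)` for a normal `q`-subgroup `V` -/
theorem Hyp.comm_mem_centralizer (P : Sylow p G) (V : Subgroup G) [hV : V.Normal] (hVq : IsPGroup q V) (g : G) {y : G}
    (hy : y ∈ P) : g * y * g⁻¹ * y⁻¹ ∈ centralizer (V : Set G) := by
  have hCn : (centralizer (V : Set G)).Normal := inferInstance
  refine comm_mem_of P (centralizer (V : Set G)) ?_ g hy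
  intro z
  obtain ⟨z, rfl⟩ := QuotientGroup.mk'_surjective (centralizer (V : Set G)) z
  by_cases hz : z ∈ centralizer (V : Set G)
  · have : QuotientGroup.mk' (centralizer (V : Set G)) z = 1 := (QuotientGroup.eq_one_iff z).2 hz
    rw [this, cs_one]
    exact fun h => hpf.out.one_lt.ne' (Nat.dvd_one.1 h)
  · have h4 := cs_dvd_of_surjective (QuotientGroup.mk'_surjective (centralizer (V : Set G))) z
    intro h5
    rcases B.no z with h6 | h6
    · exact h6 (h5.trans h4)
    · obtain ⟨R, hR⟩ := (not_dvd_iff z).1 h6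
      apply hz
      rw [mem_centralizer_iff]
      intro v hv
      have hvR : v ∈ R := by
        obtain ⟨R', hR'⟩ := hVq.exists_le_sylow
        obtain ⟨g, hg⟩ := MulAction.exists_smul_eq G R' R
        rw [← hg, mem_smul_sylow]
        apply hR'
        have := hV.conj_mem v hv g⁻¹
        rwa [inv_inv] at this
      exact (hR v hvR).eq

/-- the final part of the case `O_{q'}(G) = 1` -/
theorem Hyp.con_of_qgroup (P : Sylow p G) (D : Subgroup G) [hDn : D.Normal] (hDq : IsPGroup q D)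
    (hab : ∀ x ∈ D, ∀ y ∈ D, Commute x y) (hc : ∀ g : G, ∀ y ∈ P, g * y * g⁻¹ * y⁻¹ ∈ D)
    (hCD0 : ∀ x ∈ centralizer ((P : Subgroup G) : Set G), x ∈ D → x = 1) : Con q G := by
  set C : Subgroup G := centralizer ((P : Subgroup G) : Set G) with hC
  have hCD : C ⊔ D = ⊤ := sup_eq_top P (B.tc.norm_le P) D hc
  have hdec : ∀ g : G, ∃ c ∈ C, ∃ n ∈ D, c * n = g := by
    intro g
    have : g ∈ C ⊔ D := by rw [hCD]; trivial
    rwa [Subgroup.mem_sup_of_normal_right] at this
  have hD1 : ∃ w ∈ D, w ≠ 1 := by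
    by_contra hcon
    push Not at hcon
    apply B.not_le_center P
    intro y hy
    rw [Subgroup.mem_center_iff]
    intro g
    exact commutator_eq_one (hcon _ (hc g y hy))
  -- normal `q`-subgroups are contained in all Sylow `q`-subgroups
  have hDR : ∀ R : Sylow q G, ∀ v ∈ D, v ∈ R := by
    intro R v hv
    obtain ⟨R', hR'⟩ := hDq.exists_le_sylow
    obtain ⟨g, hg⟩ := MulAction.exists_smul_eq G R' R
    rw [← hg, mem_smul_sylow]
    apply hR'
    have := hDn.conj_mem v hv g⁻¹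
    rwa [inv_inv] at this
  -- elements with class size prime to `p`
  have hconj : ∀ z : G, ¬ p ∣ cs z → ∃ n ∈ D, n * z * n⁻¹ ∈ C := by
    intro z hz
    obtain ⟨g, hg⟩ := conj_mem_centralizer P hz
    obtain ⟨c, hcC, n, hn, rfl⟩ := hdec g
    refine ⟨n, hn, ?_⟩
    have h1 : n * z * n⁻¹ = c⁻¹ * (c * n * z * (c * n)⁻¹) * c := by group
    rw [h1]
    exact mul_mem (mul_mem (inv_mem hcC) hg) hcC
  -- uniqueness of the decomposition
  have huniq : ∀ v ∈ D, ∀ c ∈ C, ∀ x ∈ C, x * (v * c) = (v * c) * x → x * v = v * x ∧ x * c = c * x := by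
    intro v hv c hcC x hx h
    have h1 : v⁻¹ * (x * v * x⁻¹) = 1 := by
      apply hCD0
      · have e : v⁻¹ * (x * v * x⁻¹) = c * (x * c * x⁻¹)⁻¹ := by
          have h2 : x * v * x⁻¹ * (x * c * x⁻¹) = v * c := by
            calc x * v * x⁻¹ * (x * c * x⁻¹) = (x * (v * c)) * x⁻¹ := by group
              _ = (v * c) * x * x⁻¹ := by rw [h]
              _ = v * c := by group
          calc v⁻¹ * (x * v * x⁻¹) = v⁻¹ * (x * v * x⁻¹ * (x * c * x⁻¹)) * (x * c * x⁻¹)⁻¹ := by group
            _ = v⁻¹ * (v * c) * (x * c * x⁻¹)⁻¹ := by rw [h2]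
            _ = c * (x * c * x⁻¹)⁻¹ := by group
        rw [e]
        exact mul_mem hcC (inv_mem (mul_mem (mul_mem hx hcC) (inv_mem hx)))
      · exact mul_mem (inv_mem hv) (hDn.conj_mem v hv x)
    have h2 : x * v = v * x := by
      have h3 : x * v * x⁻¹ = v := (inv_mul_eq_one.1 h1).symm
      calc x * v = (x * v * x⁻¹) * x := by group
        _ = v * x := by rw [h3]
    refine ⟨h2, ?_⟩
    have h3 : v * (x * c) = v * (c * x) := by
      calc v * (x * c) = (v * x) * c := by group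
        _ = (x * v) * c := by rw [h2]
        _ = x * (v * c) := by group
        _ = (v * c) * x := h
        _ = v * (c * x) := by group
    exact mul_left_cancel h3
  -- (iii)
  have hthree : ∀ v ∈ D, v ≠ 1 → ∀ c ∈ C, (∀ w ∈ D, Commute c w) →
      ∃ R : Sylow q G, ∀ x ∈ R, Commute x v ∧ Commute x c := by
    intro v hv hv1 c hcC hcD
    have h1 : p ∣ cs (v * c) := by
      by_contra hcon
      obtain ⟨u, hu, huC⟩ := hconj _ hcon
      have h2 : u * (v * c) * u⁻¹ = v * c := by
        have h3 : u * v = v * u := (hab u hu v hv).eq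
        have h4 : u * c = c * u := (hcD u hu).eq.symm
        calc u * (v * c) * u⁻¹ = (u * v) * c * u⁻¹ := by group
          _ = (v * u) * c * u⁻¹ := by rw [h3]
          _ = v * (u * c) * u⁻¹ := by group
          _ = v * (c * u) * u⁻¹ := by rw [h4]
          _ = v * c := by group
      rw [h2] at huC
      apply hv1
      apply hCD0 v _ hv
      have h3 := mul_mem huC (inv_mem hcC)
      rwa [mul_inv_cancel_right] at h3
    have h2 : ¬ q ∣ cs (v * c) := (B.no _).resolve_left (fun h => h h1)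
    obtain ⟨R, hR⟩ := (not_dvd_iff _).1 h2
    refine ⟨R, fun x hx => ?_⟩
    obtain ⟨c', hc'C, d, hd, rfl⟩ := hdec x
    have hdR : d ∈ R := hDR R d hd
    have hc'R : c' ∈ R := by
      have := mul_mem hx (inv_mem hdR)
      rwa [mul_inv_cancel_right] at this
    obtain ⟨h3, h4⟩ := huniq v hv c hcC c' hc'C (hR c' hc'R).eq
    have h5 : Commute c' v := h3
    have h6 : Commute c' c := h4
    exact ⟨h5.mul_left (hab d hd v hv), h6.mul_left (hcD d hd).symm⟩
  -- (iv)
  have hfour : ∀ R : Sylow q G, (R : Subgroup G) ≤ centralizer (D : Set G) := by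
    intro R x hx
    obtain ⟨c, hcC, d, hd, rfl⟩ := hdec x
    have hdR : d ∈ R := hDR R d hd
    have hcR : c ∈ R := by
      have := mul_mem hx (inv_mem hdR)
      rwa [mul_inv_cancel_right] at this
    have hkey : ∀ w ∈ D, Commute c w := by
      by_contra hcon
      push Not at hcon
      obtain ⟨w, hw, hcw⟩ := hcon
      -- the map `u ↦ u c u⁻¹ c⁻¹` is not surjective on `D`
      have hfD : ∀ u ∈ D, u * c * u⁻¹ * c⁻¹ ∈ D := by
        intro u hu
        have e : u * c * u⁻¹ * c⁻¹ = u * (c * u⁻¹ * c⁻¹) := by group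
        rw [e]
        exact mul_mem hu (hDn.conj_mem _ (inv_mem hu) c)
      let f : D → D := fun u => ⟨(u : G) * c * (u : G)⁻¹ * c⁻¹, hfD u u.2⟩
      -- a fixed point
      obtain ⟨w₀, hw₀, hw₀1, hw₀c⟩ : ∃ w₀ ∈ D, w₀ ≠ 1 ∧ c * w₀ = w₀ * c := by
        let _ : MulAction R D := MulAction.compHom D ((MulAut.conjNormal (H := D)).comp (R : Subgroup G).subtype)
        have hact : ∀ (r : R) (w : D), ((r • w : D) : G) = (r : G) * w * (r : G)⁻¹ := fun r w => rfl
        have hqD : q ∣ Nat.card D := by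
          obtain ⟨n, hn⟩ := IsPGroup.iff_card.1 hDq
          rw [hn]
          apply dvd_pow_self
          rintro rfl
          rw [pow_zero] at hn
          obtain ⟨w₁, hw₁, hw₁1⟩ := hD1
          have hs := (Nat.card_eq_one_iff_unique.1 hn).1
          exact hw₁1 (congrArg Subtype.val (Subsingleton.elim (⟨w₁, hw₁⟩ : D) 1))
        have h1 : (1 : D) ∈ MulAction.fixedPoints R D := by
          intro r
          apply Subtype.ext
          rw [hact, Subgroup.coe_one, mul_one, mul_inv_cancel]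
        obtain ⟨w₀, h2, h3⟩ := R.isPGroup'.exists_fixed_point_of_prime_dvd_card_of_fixed_point D hqD h1
        refine ⟨w₀, w₀.2, fun h => h3 (Subtype.ext h.symm), ?_⟩
        have h4 := congrArg Subtype.val (h2 ⟨c, hcR⟩)
        rw [hact] at h4
        exact mul_inv_eq_iff_eq_mul.1 h4
      have hfni : ¬ Function.Injective f := by
        intro hinj
        apply hw₀1
        have : f ⟨w₀, hw₀⟩ = f 1 := by
          apply Subtype.ext
          show w₀ * c * w₀⁻¹ * c⁻¹ = 1 * c * 1⁻¹ * c⁻¹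
          rw [← hw₀c]
          group
        exact congrArg Subtype.val (hinj this)
      have hfns : ¬ Function.Surjective f := fun h => hfni (Finite.injective_iff_surjective.2 h)
      obtain ⟨⟨y, hy⟩, hyf⟩ : ∃ y : D, ∀ n : D, f n ≠ y := by
        by_contra hcon
        push Not at hcon
        exact hfns hcon
      rcases B.no (y⁻¹ * c) with h | h
      · obtain ⟨u, hu, huC⟩ := hconj _ h
        apply hyf ⟨u, hu⟩
        apply Subtype.ext
        show u * c * u⁻¹ * c⁻¹ = y
        have h1 : u * (y⁻¹ * c) * u⁻¹ * c⁻¹ ∈ C := mul_mem huC (inv_mem hcC)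
        have h2 : u * (y⁻¹ * c) * u⁻¹ * c⁻¹ = y⁻¹ * (u * c * u⁻¹ * c⁻¹) := by
          have h3 : u * y⁻¹ = y⁻¹ * u := (hab u hu _ (inv_mem hy)).eq
          calc u * (y⁻¹ * c) * u⁻¹ * c⁻¹ = (u * y⁻¹) * c * u⁻¹ * c⁻¹ := by group
            _ = (y⁻¹ * u) * c * u⁻¹ * c⁻¹ := by rw [h3]
            _ = _ := by group
        rw [h2] at h1
        have h3 := hCD0 _ h1 (mul_mem (inv_mem hy) (hfD u hu))
        exact (inv_mul_eq_one.1 h3).symm
      · obtain ⟨R', hR'⟩ := (not_dvd_iff _).1 h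
        apply hcw
        have h1 := hR' w (hDR R' w hw)
        have h2 : Commute w y⁻¹ := hab w hw _ (inv_mem hy)
        have h3 := (h2.inv_right).mul_right h1
        rw [inv_mul_cancel_left] at h3
        exact h3.symm
    rw [mem_centralizer_iff]
    intro w hw
    exact ((hkey w hw).mul_left (hab d hd w hw)).eq.symm
  -- (v)
  obtain ⟨R⟩ : Nonempty (Sylow q G) := inferInstance
  refine Con.of_central (centralizer (D : Set G)) R (hfour R) ?_
  intro l hl
  obtain ⟨c, hcC, d, hd, rfl⟩ := hdec l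
  have hcD : ∀ w ∈ D, Commute c w := by
    intro w hw
    have h1 : Commute (c * d) w := (mem_centralizer_iff.1 hl w hw).symm
    have h2 := h1.mul_left (hab d hd w hw).inv_left
    rwa [mul_inv_cancel_right] at h2
  by_cases hd1 : d = 1
  · obtain ⟨w, hw, hw1⟩ := hD1
    obtain ⟨R', hR'⟩ := hthree w hw hw1 c hcC hcD
    rw [hd1, mul_one, not_dvd_iff]
    exact ⟨R', fun x hx => (hR' x hx).2⟩
  · obtain ⟨R', hR'⟩ := hthree d hd hd1 c hcC hcD
    rw [not_dvd_iff]
    exact ⟨R', fun x hx => (hR' x hx).2.mul_right (hR' x hx).1⟩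

end

end Cfsg.Agent.H683.Cpq
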