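import Cfsg.Agent.H683.CpqRedB

/-!
# The reduction of S4307: an abelian minimal normal `q'`-subgroup

* `sc_of` : the condition `SC` on the dual of `N`;
* `Hyp.caseAb`;
* `main` : `Hyp p q G → Con q G`.
-/

set_option autoImplicit false

namespace Cfsg.Agent.H683.Cpq

open Subgroup Cfsg.Agent.H531 Cfsg.Agent.H531.TwoPrimes Cfsg.Agent.H531.LemX Cfsg.Agent.H531.Sizes
  Cfsg.Agent.H531.ClassIndex Cfsg.Agent.H531.Red Cfsg.Agent.Lib.MinNormal Cfsg.Agent.Lib.MinNormalNonabelian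
open scoped Pointwise commutatorElement

theorem finite_dual (N : Type*) [CommGroup N] [Finite N] : Finite (N →* ℂˣ) :=
  Nat.finite_of_card_ne_zero (by
    rw [CommGroup.card_monoidHom_of_hasEnoughRootsOfUnity N ℂ]
    exact Nat.card_pos.ne')

section sc

variable {C N : Type*} [Group C] [Finite C] [CommGroup N] [Finite N] {q : ℕ} [hq : Fact q.Prime]

/-- the map `n ↦ [g, n]` -/
def dif (φ : C →* MulAut N) (g : C) : N →* N where
  toFun n := φ g n * n⁻¹
  map_one' := by rw [map_one, inv_one, one_mul]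
  map_mul' x y := by rw [map_mul, mul_inv, mul_mul_mul_comm]

/-- the main step of `sc_of` -/
theorem sc_step (hqN : ¬ q ∣ Nat.card N) (φ : C →* MulAut N)
    (h : ∀ (g : C) (u : N), (∀ n : N, φ g n * n⁻¹ ≠ u) → ∃ Q : Sylow q C, (∀ x ∈ Q, x * g = g * x) ∧
      ∃ n : N, ∀ x ∈ Q, φ x (u * (φ g n * n⁻¹)) = u * (φ g n * n⁻¹))
    (l : N →* ℂˣ) (hl : l ≠ 1) (g : C) (hg : ∀ n, l (φ g n) = l n) :
    ∃ R : Sylow q C, (∀ x ∈ R, ∀ n, l (φ x n) = l n) ∧ ∀ x ∈ R, x * g = g * x := by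
  classical
  let D : Subgroup N := (dif φ g).range
  have hlD : ∀ d ∈ D, l d = 1 := by
    rintro _ ⟨n, rfl⟩
    show l (φ g n * n⁻¹) = 1
    rw [map_mul, map_inv, hg, mul_inv_cancel]
  let A : Subgroup C := centralizer {g}
  have hA : ∀ a : C, a ∈ A ↔ a * g = g * a := fun a => by
    rw [mem_centralizer_singleton_iff]
  have hmapD : ∀ a ∈ A, D.map (φ a).toMonoidHom = D := by
    have h1 : ∀ a ∈ A, D.map (φ a).toMonoidHom ≤ D := by
      rintro a ha _ ⟨_, ⟨n, rfl⟩, rfl⟩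
      refine ⟨φ a n, ?_⟩
      show φ g (φ a n) * (φ a n)⁻¹ = φ a (φ g n * n⁻¹)
      rw [map_mul, map_inv, ← MulAut.mul_apply, ← MulAut.mul_apply, ← map_mul, ← map_mul, (hA a).1 ha]
    intro a ha
    exact Subgroup.eq_of_le_of_card_ge (h1 a ha) (by rw [Subgroup.card_map_of_injective (φ a).injective])
  -- the action of `A` on `X = N / D`
  let ψ : A →* MulAut (N ⧸ D) :=
    { toFun := fun a => QuotientGroup.congr D D (φ a) (hmapD a a.2)
      map_one' := by
        ext x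
        obtain ⟨x, rfl⟩ := QuotientGroup.mk_surjective x
        show ((φ ((1 : A) : C) x : N) : N ⧸ D) = x
        rw [Subgroup.coe_one, map_one]
        rfl
      map_mul' := fun a b => by
        ext x
        obtain ⟨x, rfl⟩ := QuotientGroup.mk_surjective x
        show ((φ ((a * b : A) : C) x : N) : N ⧸ D) = ((φ (a : C) (φ (b : C) x) : N) : N ⧸ D)
        rw [Subgroup.coe_mul, map_mul]
        rfl }
  have hψ : ∀ (a : A) (x : N), ψ a (x : N ⧸ D) = ((φ (a : C) x : N) : N ⧸ D) := fun a x => rfl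
  let lX : (N ⧸ D) →* ℂˣ := QuotientGroup.lift D l hlD
  have hlX : ∀ x : N, lX (x : N ⧸ D) = l x := fun x => rfl
  -- an element outside `D`
  obtain ⟨u₀, hu₀⟩ : ∃ u, l u ≠ 1 := by
    by_contra hcon
    push Not at hcon
    exact hl (MonoidHom.ext hcon)
  have hu₀D : ∀ n : N, φ g n * n⁻¹ ≠ u₀ := by
    rintro n rfl
    exact hu₀ (hlD _ ⟨n, rfl⟩)
  obtain ⟨Q, hQg, -⟩ := h g u₀ hu₀D
  have hQA : (Q : Subgroup C) ≤ A := fun x hx => (hA x).2 (hQg x hx)
  have hX : ∀ x : N ⧸ D, ∃ R : Sylow q A, ∀ a ∈ R, ψ a x = x := by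
    intro x
    obtain ⟨u, rfl⟩ := QuotientGroup.mk_surjective x
    by_cases hu : ∀ n : N, φ g n * n⁻¹ ≠ u
    · obtain ⟨R, hRg, n, hn⟩ := h g u hu
      have hRA : (R : Subgroup C) ≤ A := fun x hx => (hA x).2 (hRg x hx)
      refine ⟨R.subtype hRA, fun a ha => ?_⟩
      have h1 : ((u * (φ g n * n⁻¹) : N) : N ⧸ D) = (u : N ⧸ D) := by
        have h0 : ((φ g n * n⁻¹ : N) : N ⧸ D) = 1 := (QuotientGroup.eq_one_iff (φ g n * n⁻¹)).2 ⟨n, rfl⟩
        rw [QuotientGroup.mk_mul, h0, mul_one]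
      rw [← h1, hψ, hn a ha]
    · push Not at hu
      obtain ⟨n, hn⟩ := hu
      obtain ⟨R⟩ : Nonempty (Sylow q A) := inferInstance
      refine ⟨R, fun a _ => ?_⟩
      have h1 : (u : N ⧸ D) = 1 := (QuotientGroup.eq_one_iff u).2 ⟨n, hn⟩
      rw [h1, map_one]
  have hqX : ¬ q ∣ Nat.card (N ⧸ D) := fun h => hqN (h.trans (Subgroup.card_quotient_dvd_card D))
  obtain ⟨R, hR⟩ := dual_fixed ψ hqX hX lX
  obtain ⟨a, ha⟩ := MulAction.exists_smul_eq A (Q.subtype hQA) R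
  have hmem : ∀ x ∈ ((a : C) • Q : Sylow q C), ∃ hx : x ∈ A, (⟨x, hx⟩ : A) ∈ R := by
    intro x hx
    have h1 : (a : C)⁻¹ * x * a ∈ Q := mem_smul_sylow.1 hx
    have hxA : x ∈ A := by
      have h2 := mul_mem (mul_mem a.2 (hQA h1)) (inv_mem a.2)
      have e : (a : C) * ((a : C)⁻¹ * x * a) * (a : C)⁻¹ = x := by group
      rwa [e] at h2
    refine ⟨hxA, ?_⟩
    rw [← ha, mem_smul_sylow]
    exact h1
  refine ⟨(a : C) • Q, fun x hx n => ?_, fun x hx => ?_⟩
  · obtain ⟨hxA, hxR⟩ := hmem x hx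
    have := hR _ hxR (n : N ⧸ D)
    exact this
  · obtain ⟨hxA, -⟩ := hmem x hx
    exact (hA x).1 hxA

/-- **the condition `SC` on the dual group** -/
theorem sc_of (hqN : ¬ q ∣ Nat.card N) (φ : C →* MulAut N)
    (h : ∀ (g : C) (u : N), (∀ n : N, φ g n * n⁻¹ ≠ u) → ∃ Q : Sylow q C, (∀ x ∈ Q, x * g = g * x) ∧
      ∃ n : N, ∀ x ∈ Q, φ x (u * (φ g n * n⁻¹)) = u * (φ g n * n⁻¹)) :
    Cfsg.Agent.H506.SC.SC (W := N →* ℂˣ) q ((dual N).comp φ) := by
  classical
  intro l hl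
  have hfix : ∀ g : C, (dual N).comp φ g l = l ↔ ∀ n, l (φ g n) = l n := fun g => dual_eq_iff (φ g) l
  have hstep := sc_step hqN φ h l hl
  let S : Subgroup C :=
    { carrier := {g | ∀ n, l (φ g n) = l n}
      mul_mem' := fun {a b} (ha : ∀ n, l (φ a n) = l n) (hb : ∀ n, l (φ b n) = l n) n => by
        rw [map_mul, MulAut.mul_apply, ha, hb]
      one_mem' := fun n => by rw [map_one]; rfl
      inv_mem' := fun {a} (ha : ∀ n, l (φ a n) = l n) n => by
        rw [map_inv, ← ha ((φ a)⁻¹ n), MulAut.apply_inv_self] }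
  have hS : ∀ g, g ∈ S ↔ ∀ n, l (φ g n) = l n := fun g => Iff.rfl
  obtain ⟨R₀, hR₀, -⟩ := hstep 1 (fun n => by rw [map_one]; rfl)
  have hR₀S : (R₀ : Subgroup C) ≤ S := fun x hx => (hS x).2 (hR₀ x hx)
  have h1 : ∀ x : S, ¬ q ∣ cs x := by
    rintro ⟨g, hg⟩
    obtain ⟨R, hR1, hR2⟩ := hstep g ((hS g).1 hg)
    have hRS : (R : Subgroup C) ≤ S := fun x hx => (hS x).2 (hR1 x hx)
    rw [not_dvd_iff]
    exact ⟨R.subtype hRS, fun y hy => Subtype.ext (hR2 y hy)⟩
  have h2 := le_center h1 (R₀.subtype hR₀S)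
  refine ⟨R₀, fun x hx => (hfix x).2 (hR₀ x hx), fun g hg x hx => ?_⟩
  have hgS : g ∈ S := (hS g).2 ((hfix g).1 hg)
  have h3 : (⟨x, hR₀S hx⟩ : S) ∈ R₀.subtype hR₀S := hx
  exact congrArg Subtype.val (Subgroup.mem_center_iff.1 (h2 h3) ⟨g, hgS⟩)

end sc

section

variable {G : Type} [Group G] [Finite G] {p q : ℕ} [hpf : Fact p.Prime] [hqf : Fact q.Prime] (B : Hyp p q G)

include B

/-- **the abelian case** -/
theorem Hyp.caseAb (hThm : Cfsg.Agent.H506.SC.ThmN) (P : Sylow p G) (N : Subgroup G) [hN : N.Normal] (hN1 : N ≠ ⊥)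
    (hmin : ∀ M : Subgroup G, M.Normal → M ≤ N → M = ⊥ ∨ M = N) (hqN : ¬ q ∣ Nat.card N)
    (hab : ∀ x ∈ N, ∀ y ∈ N, Commute x y) (hc : ∀ g : G, ∀ y ∈ P, g * y * g⁻¹ * y⁻¹ ∈ N) : Con q G := by
  classical
  set C : Subgroup G := centralizer ((P : Subgroup G) : Set G) with hC
  have hCN : C ⊔ N = ⊤ := sup_eq_top P (B.tc.norm_le P) N hc
  have hdec : ∀ g : G, ∃ c ∈ C, ∃ n ∈ N, c * n = g := by
    intro g
    have : g ∈ C ⊔ N := by rw [hCN]; trivial
    rwa [Subgroup.mem_sup_of_normal_right] at this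
  -- `C ∩ N = 1`
  have hCN0 : ∀ x ∈ C, x ∈ N → x = 1 := by
    have hn : (C ⊓ N).Normal := by
      constructor
      rintro x ⟨hxC, hxN⟩ g
      obtain ⟨c, hc, n, hn, rfl⟩ := hdec g
      have h1 : c * n * x * (c * n)⁻¹ = c * x * c⁻¹ := by
        have := (hab n hn x hxN).eq
        calc c * n * x * (c * n)⁻¹ = c * (n * x) * n⁻¹ * c⁻¹ := by group
          _ = c * (x * n) * n⁻¹ * c⁻¹ := by rw [this]
          _ = c * x * c⁻¹ := by group
      rw [h1]
      exact ⟨C.mul_mem (C.mul_mem hc hxC) (C.inv_mem hc), hN.conj_mem x hxN c⟩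
    rcases hmin _ hn inf_le_right with h | h
    · intro x h1 h2
      have : x ∈ C ⊓ N := ⟨h1, h2⟩
      rwa [h, Subgroup.mem_bot] at this
    · exfalso
      apply B.not_le_center P
      have h1 : C = ⊤ := by
        rw [eq_top_iff, ← hCN]
        exact sup_le le_rfl (inf_eq_right.1 h)
      intro y hy
      rw [Subgroup.mem_center_iff]
      intro g
      have hg : g ∈ C := by rw [h1]; trivial
      exact (Subgroup.mem_centralizer_iff.1 hg y hy).symm
  -- elements with class size prime to `p`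
  have hconj : ∀ z : G, ¬ p ∣ cs z → ∃ n ∈ N, n * z * n⁻¹ ∈ C := by
    intro z hz
    obtain ⟨g, hg⟩ := conj_mem_centralizer P hz
    obtain ⟨c, hcC, n, hn, rfl⟩ := hdec g
    refine ⟨n, hn, ?_⟩
    have h1 : n * z * n⁻¹ = c⁻¹ * (c * n * z * (c * n)⁻¹) * c := by group
    rw [h1]
    exact mul_mem (mul_mem (inv_mem hcC) hg) hcC
  -- uniqueness of the decomposition
  have huniq : ∀ v ∈ N, ∀ c ∈ C, ∀ x ∈ C, x * (v * c) = (v * c) * x → x * v = v * x ∧ x * c = c * x := by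
    intro v hv c hcC x hx h
    have h1 : v⁻¹ * (x * v * x⁻¹) = 1 := by
      apply hCN0
      · have e : v⁻¹ * (x * v * x⁻¹) = c * (x * c * x⁻¹)⁻¹ := by
          have h2 : x * v * x⁻¹ * (x * c * x⁻¹) = v * c := by
            calc x * v * x⁻¹ * (x * c * x⁻¹) = (x * (v * c)) * x⁻¹ := by group
              _ = (v * c) * x * x⁻¹ := by rw [h]
              _ = v * c := by group
          calc v⁻¹ * (x * v * x⁻¹) = v⁻¹ * (x * v * x⁻¹ * (x * c * x⁻¹)) * (x * c * x⁻¹)⁻¹ := by group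
            _ = v⁻¹ * (v * c) * (x * c * x⁻¹)⁻¹ := by rw [h2]
            _ = c * (x * c * x⁻¹)⁻¹ := by group
        rw [e]
        exact mul_mem hcC (inv_mem (mul_mem (mul_mem hx hcC) (inv_mem hx)))
      · exact mul_mem (inv_mem hv) (hN.conj_mem v hv x)
    have h2 : x * v = v * x := by
      have h3 : x * v * x⁻¹ = v := (inv_mul_eq_one.1 h1).symm
      calc x * v = (x * v * x⁻¹) * x := by group
        _ = v * x := by rw [h3]
    refine ⟨h2, ?_⟩
    have h3 : v * (x * c) = v * (c * x) := by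
      calc v * (x * c) = (v * x) * c := by group
        _ = (x * v) * c := by rw [h2]
        _ = x * (v * c) := by group
        _ = (v * c) * x := h
        _ = v * (c * x) := by group
    exact mul_left_cancel h3
  -- a Sylow `q`-subgroup in `C`
  have hqC : ¬ q ∣ C.index := fun h => hqN (h.trans (index_dvd_card hCN))
  obtain ⟨S, hS⟩ := exists_sylow_le hqC
  -- every Sylow `q`-subgroup is conjugate into `C` under `N`
  have hintoC : ∀ R : Sylow q G, ∃ n ∈ N, ((n • R : Sylow q G) : Subgroup G) ≤ C := by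
    intro R
    obtain ⟨g, hg⟩ := MulAction.exists_smul_eq G R S
    obtain ⟨c, hcC, n, hn, rfl⟩ := hdec g
    refine ⟨n, hn, fun x hx => ?_⟩
    have h1 : c * x * c⁻¹ ∈ S := by
      rw [← hg, mul_smul, mem_smul_sylow]
      have e : c⁻¹ * (c * x * c⁻¹) * c = x := by group
      rw [e]
      exact hx
    have h2 := mul_mem (mul_mem (inv_mem hcC) (hS h1)) hcC
    have e : c⁻¹ * (c * x * c⁻¹) * c = x := by group
    rwa [e] at h2
  let _ : CommGroup N := { (inferInstance : Group N) with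
    mul_comm := fun x y => Subtype.ext (hab x x.2 y y.2).eq }
  let φ : C →* MulAut N := (MulAut.conjNormal (H := N)).comp C.subtype
  have hφ : ∀ (c : C) (n : N), ((φ c n : N) : G) = (c : G) * n * (c : G)⁻¹ := fun c n => rfl
  have hSC : Cfsg.Agent.H506.SC.SC (W := N →* ℂˣ) q ((dual N).comp φ) := by
    refine sc_of hqN φ ?_
    rintro ⟨g, hgC⟩ ⟨u, huN⟩ hu
    -- `u g` is not `p`-central
    have h1 : p ∣ cs (u * g) := by
      by_contra hcon
      obtain ⟨n, hn, hnC⟩ := hconj _ hcon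
      apply hu ⟨n, hn⟩
      apply Subtype.ext
      show g * n * g⁻¹ * n⁻¹ = u
      have h2 : n * (u * g) * n⁻¹ * g⁻¹ ∈ C := mul_mem hnC (inv_mem hgC)
      have h3 : n * (u * g) * n⁻¹ * g⁻¹ = u * (g * n * g⁻¹ * n⁻¹)⁻¹ := by
        have h4 : n * u = u * n := (hab n hn u huN).eq
        calc n * (u * g) * n⁻¹ * g⁻¹ = (n * u) * g * n⁻¹ * g⁻¹ := by group
          _ = (u * n) * g * n⁻¹ * g⁻¹ := by rw [h4]
          _ = _ := by group
      rw [h3] at h2
      have h5 := hCN0 _ h2 (mul_mem huN (inv_mem (mul_mem (hN.conj_mem n hn g) (inv_mem hn))))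
      exact (mul_inv_eq_one.1 h5).symm
    obtain ⟨R, hR⟩ := (not_dvd_iff _).1 ((B.no (u * g)).resolve_left (fun h => h h1))
    obtain ⟨n, hn, hnC⟩ := hintoC R
    -- the element `n (u g) n⁻¹ = u' g`
    have hu' : n * (u * g) * n⁻¹ = (u * (g * n⁻¹ * g⁻¹ * n)) * g := by
      have h4 : n * u = u * n := (hab n hn u huN).eq
      have h5 : n * (g * n⁻¹ * g⁻¹) = (g * n⁻¹ * g⁻¹) * n := (hab n hn _ (hN.conj_mem _ (inv_mem hn) g)).eq
      calc n * (u * g) * n⁻¹ = (n * u) * g * n⁻¹ := by group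
        _ = (u * n) * g * n⁻¹ := by rw [h4]
        _ = u * (n * (g * n⁻¹ * g⁻¹)) * g := by group
        _ = u * ((g * n⁻¹ * g⁻¹) * n) * g := by rw [h5]
        _ = _ := by group
    have hu'N : u * (g * n⁻¹ * g⁻¹ * n) ∈ N := mul_mem huN (mul_mem (hN.conj_mem _ (inv_mem hn) g) hn)
    have hfin : ∀ x ∈ (n • R : Sylow q G), x * (u * (g * n⁻¹ * g⁻¹ * n)) = (u * (g * n⁻¹ * g⁻¹ * n)) * x ∧
        x * g = g * x := by
      intro x hx
      apply huniq _ hu'N g hgC x (hnC hx)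
      rw [← hu']
      have h2 : (n⁻¹ * x * n) * (u * g) = (u * g) * (n⁻¹ * x * n) := (hR _ (mem_smul_sylow.1 hx)).eq
      calc x * (n * (u * g) * n⁻¹) = n * ((n⁻¹ * x * n) * (u * g)) * n⁻¹ := by group
        _ = n * ((u * g) * (n⁻¹ * x * n)) * n⁻¹ := by rw [h2]
        _ = n * (u * g) * n⁻¹ * x := by group
    refine ⟨(n • R : Sylow q G).subtype hnC, fun x hx => Subtype.ext (hfin x hx).2, ⟨n⁻¹, inv_mem hn⟩, fun x hx => ?_⟩
    apply Subtype.ext
    have h3 := (hfin x hx).1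
    show (x : G) * (u * (g * n⁻¹ * g⁻¹ * n⁻¹⁻¹)) * (x : G)⁻¹ = u * (g * n⁻¹ * g⁻¹ * n⁻¹⁻¹)
    rw [inv_inv, h3, mul_inv_cancel_right]
  have hfinW := finite_dual N
  obtain ⟨r, hr, hrN, hrpow⟩ := abelian_structure N hN1 hmin hab
  have hrf : Fact r.Prime := ⟨hr⟩
  obtain ⟨⟨v, hv⟩, hv1⟩ := Subgroup.ne_bot_iff_exists_ne_one.1 hN1
  have hqr : q ≠ r := by
    rintro rfl
    apply hv1
    apply Subtype.ext
    exact eq_one_of_pgroup hqN hv (k := 1) (by rw [pow_one]; exact hrpow v hv)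
  obtain ⟨w, hw⟩ := CommGroup.exists_apply_ne_one_of_hasEnoughRootsOfUnity N ℂ hv1
  have hw1 : w ≠ 1 := by
    rintro rfl
    exact hw rfl
  have hCs : Cfsg.IsPSolvable q C := hThm C (N →* ℂˣ) q r hqf.out hr hqr (fun l => by
      refine MonoidHom.ext fun n => ?_
      show (l n) ^ r = 1
      rw [← map_pow]
      have : n ^ r = 1 := Subtype.ext (hrpow n n.2)
      rw [this, map_one]) ⟨w, hw1⟩ ((dual N).comp φ) hSC
  refine ⟨?_, ?_⟩
  · refine Cfsg.Agent.Lib.PSolvable.IsPSolvable_of_quotient q N (Or.inr ?_) ?_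
    · rw [Nat.coprime_comm, Nat.Prime.coprime_iff_not_dvd hqf.out]
      exact hqN
    · refine Cfsg.Agent.Lib.PSolvable.IsPSolvable_of_surjective q hCs ((QuotientGroup.mk' N).comp C.subtype) ?_
      intro x
      obtain ⟨g, rfl⟩ := QuotientGroup.mk'_surjective N x
      obtain ⟨c, hcC, n, hn, rfl⟩ := hdec g
      refine ⟨⟨c, hcC⟩, ?_⟩
      show QuotientGroup.mk' N c = QuotientGroup.mk' N (c * n)
      rw [map_mul, (QuotientGroup.eq_one_iff n).2 hn |> fun h => (h : QuotientGroup.mk' N n = 1), mul_one]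
  · -- abelian Sylow subgroups
    obtain ⟨Q', hQ'1, hQ'2⟩ := hSC w hw1
    have hQ'ab : ∀ x ∈ Q', ∀ y ∈ Q', x * y = y * x := fun x hx y hy => hQ'2 x (hQ'1 x hx) y hy
    intro Q x hx y hy
    obtain ⟨n, hn, hnC⟩ := hintoC Q
    obtain ⟨c, hc'⟩ := MulAction.exists_smul_eq C ((n • Q : Sylow q G).subtype hnC) Q'
    -- move `x`, `y` into `Q'`
    have hmv : ∀ z ∈ Q, ∃ hz : n * z * n⁻¹ ∈ C, c * (⟨n * z * n⁻¹, hz⟩ : C) * c⁻¹ ∈ Q' := by
      intro z hz
      have h1 : n * z * n⁻¹ ∈ (n • Q : Sylow q G) := by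
        rw [mem_smul_sylow]
        have e : n⁻¹ * (n * z * n⁻¹) * n = z := by group
        rw [e]
        exact hz
      refine ⟨hnC h1, ?_⟩
      rw [← hc', mem_smul_sylow]
      have e : c⁻¹ * (c * (⟨n * z * n⁻¹, hnC h1⟩ : C) * c⁻¹) * c = ⟨n * z * n⁻¹, hnC h1⟩ := by group
      rw [e]
      exact h1
    obtain ⟨hxC, hxQ⟩ := hmv x hx
    obtain ⟨hyC, hyQ⟩ := hmv y hy
    have h1 := hQ'ab _ hxQ _ hyQ
    have h2 : (⟨n * x * n⁻¹, hxC⟩ : C) * ⟨n * y * n⁻¹, hyC⟩ = ⟨n * y * n⁻¹, hyC⟩ * ⟨n * x * n⁻¹, hxC⟩ := by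
      generalize (⟨n * x * n⁻¹, hxC⟩ : C) = x' at h1 ⊢
      generalize (⟨n * y * n⁻¹, hyC⟩ : C) = y' at h1 ⊢
      calc x' * y' = c⁻¹ * ((c * x' * c⁻¹) * (c * y' * c⁻¹)) * c := by group
        _ = c⁻¹ * ((c * y' * c⁻¹) * (c * x' * c⁻¹)) * c := by rw [h1]
        _ = y' * x' := by group
    have h3 : n * x * n⁻¹ * (n * y * n⁻¹) = n * y * n⁻¹ * (n * x * n⁻¹) := congrArg Subtype.val h2
    calc x * y = n⁻¹ * (n * x * n⁻¹ * (n * y * n⁻¹)) * n := by group
      _ = n⁻¹ * (n * y * n⁻¹ * (n * x * n⁻¹)) * n := by rw [h3]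
      _ = y * x := by group

end

/-- **The main theorem of the reduction.** -/
theorem main {p q : ℕ} [hpf : Fact p.Prime] [hqf : Fact q.Prime] (hpq : p ≠ q) (hThm : Cfsg.Agent.H506.SC.ThmN)
    (hTQ : ∀ (S : Type) [Group S] [Finite S] [IsSimpleGroup S], ¬ IsMulCommutative S → TQ S)
    (hFM : ∀ (S : Type) [Group S] [Finite S] [IsSimpleGroup S], ¬ IsMulCommutative S → FM S) (n : ℕ) :
    ∀ (G : Type) [Group G] [Finite G], Nat.card G = n → Hyp p q G → Con q G := by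
  induction n using Nat.strong_induction_on with
  | _ n ih =>
    intro G _ _ hn B
    have ih' : ∀ (N : Subgroup G) [N.Normal], N ≠ ⊥ → Hyp p q (G ⧸ N) → Con q (G ⧸ N) := by
      intro N hN hN1 hH
      refine ih _ ?_ (G ⧸ N) rfl hH
      rw [← hn]
      have h1 := Subgroup.card_mul_index N
      have h2 : 1 < Nat.card N := by
        have h3 : Nat.card N ≠ 1 := fun h => hN1 (Subgroup.card_eq_one.1 h)
        have h4 : 0 < Nat.card N := Nat.card_pos
        omega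
      have h3 : 0 < N.index := Nat.pos_of_ne_zero Subgroup.index_ne_zero_of_finite
      rw [← h1]
      show N.index < _
      nlinarith
    by_cases hO : ∀ N : Subgroup G, N.Normal → ¬ q ∣ Nat.card N → N = ⊥
    · exact B.caseI hO hTQ ih'
    · push Not at hO
      obtain ⟨M, hM, hqM, hM1⟩ := hO
      obtain ⟨N, hN, hN1, hNM, hmin⟩ := exists_minimal hM hM1
      have hqN : ¬ q ∣ Nat.card N := fun h => hqM (h.trans (Subgroup.card_dvd_of_le hNM))
      by_cases hH : Hyp p q (G ⧸ N)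
      · exact Con.of_quot N hqN (ih' N hN1 hH)
      · obtain ⟨P⟩ : Nonempty (Sylow p G) := inferInstance
        have hc : ∀ g : G, ∀ y ∈ P, g * y * g⁻¹ * y⁻¹ ∈ N := fun g y hy => B.comm_mem P N hH g hy
        by_cases hab : ∀ x ∈ N, ∀ y ∈ N, Commute x y
        · exact B.caseAb hThm P N hN1 hmin hqN hab hc
        · obtain ⟨K, hK, hpK, hKc, -⟩ := B.tc
          have hpN : ¬ p ∣ Nat.card N := by
            rcases hmin (K ⊓ N) inferInstance inf_le_right with h | h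
            · exfalso
              apply B.not_le_center P
              intro y hy
              rw [Subgroup.mem_center_iff]
              intro g
              have h1 : g * y * g⁻¹ * y⁻¹ ∈ K ⊓ N := ⟨hKc g y, hc g y hy⟩
              rw [h, Subgroup.mem_bot] at h1
              exact commutator_eq_one h1
            · exact fun hd => hpK (hd.trans (Subgroup.card_dvd_of_le (inf_eq_right.1 h)))
          exact B.caseNon hpq P N hmin hpN hqN hab hc hFM

end Cfsg.Agent.H683.Cpq
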