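import Cfsg.Agent.H683.CpqRedC

/-!
# The condition `SC` for the dual of an abelian minimal normal `q'`-subgroup containing `[G, P]`

`Hyp.sc_aux` : every nontrivial linear character of `N` is fixed by a Sylow `q`-subgroup `Q ≤ C(P)` of `G` which is
central in its stabiliser in `C(P)`.
-/

set_option autoImplicit false

namespace Cfsg.Agent.H683.Cpq

open Subgroup Cfsg.Agent.H531 Cfsg.Agent.H531.TwoPrimes Cfsg.Agent.H531.LemX Cfsg.Agent.H531.Sizes
  Cfsg.Agent.H531.ClassIndex Cfsg.Agent.H531.Red Cfsg.Agent.Lib.MinNormal Cfsg.Agent.Lib.MinNormalNonabelian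
open scoped Pointwise commutatorElement

universe u

section

variable {G : Type u} [Group G] [Finite G] {p q : ℕ} [hpf : Fact p.Prime] [hqf : Fact q.Prime] (B : Hyp p q G)

include B

theorem Hyp.sc_aux (P : Sylow p G) (N : Subgroup G) [hN : N.Normal]
    (hmin : ∀ M : Subgroup G, M.Normal → M ≤ N → M = ⊥ ∨ M = N) (hqN : ¬ q ∣ Nat.card N)
    (hab : ∀ x ∈ N, ∀ y ∈ N, Commute x y) (hc : ∀ g : G, ∀ y ∈ P, g * y * g⁻¹ * y⁻¹ ∈ N)
    (l : N →* ℂˣ) (hl : l ≠ 1) :
    ∃ Q : Sylow q G, (Q : Subgroup G) ≤ centralizer ((P : Subgroup G) : Set G) ∧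
      (∀ x ∈ Q, ∀ n : N, l (MulAut.conjNormal x n) = l n) ∧
      ∀ g ∈ centralizer ((P : Subgroup G) : Set G), (∀ n : N, l (MulAut.conjNormal g n) = l n) →
        ∀ x ∈ Q, g * x = x * g := by
  classical
  set C : Subgroup G := centralizer ((P : Subgroup G) : Set G) with hC
  have hCN : C ⊔ N = ⊤ := sup_eq_top P (B.tc.norm_le P) N hc
  have hdec : ∀ g : G, ∃ c ∈ C, ∃ n ∈ N, c * n = g := by
    intro g
    have : g ∈ C ⊔ N := by rw [hCN]; trivial
    rwa [Subgroup.mem_sup_of_normal_right] at this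
  -- `C ∩ N = 1`
  have hCN0 : ∀ x ∈ C, x ∈ N → x = 1 := by
    have hn : (C ⊓ N).Normal := by
      constructor
      rintro x ⟨hxC, hxN⟩ g
      obtain ⟨c, hc, n, hn, rfl⟩ := hdec g
      have h1 : c * n * x * (c * n)⁻¹ = c * x * c⁻¹ := by
        have := (hab n hn x hxN).eq
        calc c * n * x * (c * n)⁻¹ = c * (n * x) * n⁻¹ * c⁻¹ := by group
          _ = c * (x * n) * n⁻¹ * c⁻¹ := by rw [this]
          _ = c * x * c⁻¹ := by group
      rw [h1]
      exact ⟨C.mul_mem (C.mul_mem hc hxC) (C.inv_mem hc), hN.conj_mem x hxN c⟩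
    rcases hmin _ hn inf_le_right with h | h
    · intro x h1 h2
      have : x ∈ C ⊓ N := ⟨h1, h2⟩
      rwa [h, Subgroup.mem_bot] at this
    · exfalso
      apply B.not_le_center P
      have h1 : C = ⊤ := by
        rw [eq_top_iff, ← hCN]
        exact sup_le le_rfl (inf_eq_right.1 h)
      intro y hy
      rw [Subgroup.mem_center_iff]
      intro g
      have hg : g ∈ C := by rw [h1]; trivial
      exact (Subgroup.mem_centralizer_iff.1 hg y hy).symm
  -- elements with class size prime to `p`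
  have hconj : ∀ z : G, ¬ p ∣ cs z → ∃ n ∈ N, n * z * n⁻¹ ∈ C := by
    intro z hz
    obtain ⟨g, hg⟩ := conj_mem_centralizer P hz
    obtain ⟨c, hcC, n, hn, rfl⟩ := hdec g
    refine ⟨n, hn, ?_⟩
    have h1 : n * z * n⁻¹ = c⁻¹ * (c * n * z * (c * n)⁻¹) * c := by group
    rw [h1]
    exact mul_mem (mul_mem (inv_mem hcC) hg) hcC
  -- uniqueness of the decomposition
  have huniq : ∀ v ∈ N, ∀ c ∈ C, ∀ x ∈ C, x * (v * c) = (v * c) * x → x * v = v * x ∧ x * c = c * x := by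
    intro v hv c hcC x hx h
    have h1 : v⁻¹ * (x * v * x⁻¹) = 1 := by
      apply hCN0
      · have e : v⁻¹ * (x * v * x⁻¹) = c * (x * c * x⁻¹)⁻¹ := by
          have h2 : x * v * x⁻¹ * (x * c * x⁻¹) = v * c := by
            calc x * v * x⁻¹ * (x * c * x⁻¹) = (x * (v * c)) * x⁻¹ := by group
              _ = (v * c) * x * x⁻¹ := by rw [h]
              _ = v * c := by group
          calc v⁻¹ * (x * v * x⁻¹) = v⁻¹ * (x * v * x⁻¹ * (x * c * x⁻¹)) * (x * c * x⁻¹)⁻¹ := by group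
            _ = v⁻¹ * (v * c) * (x * c * x⁻¹)⁻¹ := by rw [h2]
            _ = c * (x * c * x⁻¹)⁻¹ := by group
        rw [e]
        exact mul_mem hcC (inv_mem (mul_mem (mul_mem hx hcC) (inv_mem hx)))
      · exact mul_mem (inv_mem hv) (hN.conj_mem v hv x)
    have h2 : x * v = v * x := by
      have h3 : x * v * x⁻¹ = v := (inv_mul_eq_one.1 h1).symm
      calc x * v = (x * v * x⁻¹) * x := by group
        _ = v * x := by rw [h3]
    refine ⟨h2, ?_⟩
    have h3 : v * (x * c) = v * (c * x) := by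
      calc v * (x * c) = (v * x) * c := by group
        _ = (x * v) * c := by rw [h2]
        _ = x * (v * c) := by group
        _ = (v * c) * x := h
        _ = v * (c * x) := by group
    exact mul_left_cancel h3
  -- a Sylow `q`-subgroup in `C`
  have hqC : ¬ q ∣ C.index := fun h => hqN (h.trans (index_dvd_card hCN))
  obtain ⟨S, hS⟩ := exists_sylow_le hqC
  -- every Sylow `q`-subgroup is conjugate into `C` under `N`
  have hintoC : ∀ R : Sylow q G, ∃ n ∈ N, ((n • R : Sylow q G) : Subgroup G) ≤ C := by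
    intro R
    obtain ⟨g, hg⟩ := MulAction.exists_smul_eq G R S
    obtain ⟨c, hcC, n, hn, rfl⟩ := hdec g
    refine ⟨n, hn, fun x hx => ?_⟩
    have h1 : c * x * c⁻¹ ∈ S := by
      rw [← hg, mul_smul, mem_smul_sylow]
      have e : c⁻¹ * (c * x * c⁻¹) * c = x := by group
      rw [e]
      exact hx
    have h2 := mul_mem (mul_mem (inv_mem hcC) (hS h1)) hcC
    have e : c⁻¹ * (c * x * c⁻¹) * c = x := by group
    rwa [e] at h2
  let _ : CommGroup N := { (inferInstance : Group N) with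
    mul_comm := fun x y => Subtype.ext (hab x x.2 y y.2).eq }
  let φ : C →* MulAut N := (MulAut.conjNormal (H := N)).comp C.subtype
  have hφ : ∀ (c : C) (n : N), ((φ c n : N) : G) = (c : G) * n * (c : G)⁻¹ := fun c n => rfl
  have hSC : Cfsg.Agent.H506.SC.SC (W := N →* ℂˣ) q ((dual N).comp φ) := by
    refine sc_of hqN φ ?_
    rintro ⟨g, hgC⟩ ⟨u, huN⟩ hu
    -- `u g` is not `p`-central
    have h1 : p ∣ cs (u * g) := by
      by_contra hcon
      obtain ⟨n, hn, hnC⟩ := hconj _ hcon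
      apply hu ⟨n, hn⟩
      apply Subtype.ext
      show g * n * g⁻¹ * n⁻¹ = u
      have h2 : n * (u * g) * n⁻¹ * g⁻¹ ∈ C := mul_mem hnC (inv_mem hgC)
      have h3 : n * (u * g) * n⁻¹ * g⁻¹ = u * (g * n * g⁻¹ * n⁻¹)⁻¹ := by
        have h4 : n * u = u * n := (hab n hn u huN).eq
        calc n * (u * g) * n⁻¹ * g⁻¹ = (n * u) * g * n⁻¹ * g⁻¹ := by group
          _ = (u * n) * g * n⁻¹ * g⁻¹ := by rw [h4]
          _ = _ := by group
      rw [h3] at h2
      have h5 := hCN0 _ h2 (mul_mem huN (inv_mem (mul_mem (hN.conj_mem n hn g) (inv_mem hn))))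
      exact (mul_inv_eq_one.1 h5).symm
    obtain ⟨R, hR⟩ := (not_dvd_iff _).1 ((B.no (u * g)).resolve_left (fun h => h h1))
    obtain ⟨n, hn, hnC⟩ := hintoC R
    -- the element `n (u g) n⁻¹ = u' g`
    have hu' : n * (u * g) * n⁻¹ = (u * (g * n⁻¹ * g⁻¹ * n)) * g := by
      have h4 : n * u = u * n := (hab n hn u huN).eq
      have h5 : n * (g * n⁻¹ * g⁻¹) = (g * n⁻¹ * g⁻¹) * n := (hab n hn _ (hN.conj_mem _ (inv_mem hn) g)).eq
      calc n * (u * g) * n⁻¹ = (n * u) * g * n⁻¹ := by group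
        _ = (u * n) * g * n⁻¹ := by rw [h4]
        _ = u * (n * (g * n⁻¹ * g⁻¹)) * g := by group
        _ = u * ((g * n⁻¹ * g⁻¹) * n) * g := by rw [h5]
        _ = _ := by group
    have hu'N : u * (g * n⁻¹ * g⁻¹ * n) ∈ N := mul_mem huN (mul_mem (hN.conj_mem _ (inv_mem hn) g) hn)
    have hfin : ∀ x ∈ (n • R : Sylow q G), x * (u * (g * n⁻¹ * g⁻¹ * n)) = (u * (g * n⁻¹ * g⁻¹ * n)) * x ∧
        x * g = g * x := by
      intro x hx
      apply huniq _ hu'N g hgC x (hnC hx)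
      rw [← hu']
      have h2 : (n⁻¹ * x * n) * (u * g) = (u * g) * (n⁻¹ * x * n) := (hR _ (mem_smul_sylow.1 hx)).eq
      calc x * (n * (u * g) * n⁻¹) = n * ((n⁻¹ * x * n) * (u * g)) * n⁻¹ := by group
        _ = n * ((u * g) * (n⁻¹ * x * n)) * n⁻¹ := by rw [h2]
        _ = n * (u * g) * n⁻¹ * x := by group
    refine ⟨(n • R : Sylow q G).subtype hnC, fun x hx => Subtype.ext (hfin x hx).2, ⟨n⁻¹, inv_mem hn⟩, fun x hx => ?_⟩
    apply Subtype.ext
    have h3 := (hfin x hx).1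
    show (x : G) * (u * (g * n⁻¹ * g⁻¹ * n⁻¹⁻¹)) * (x : G)⁻¹ = u * (g * n⁻¹ * g⁻¹ * n⁻¹⁻¹)
    rw [inv_inv, h3, mul_inv_cancel_right]
  obtain ⟨Q', hQ1, hQ2⟩ := hSC l hl
  obtain ⟨c, hc'⟩ := MulAction.exists_smul_eq C (S.subtype hS) Q'
  have hmem : ∀ x ∈ ((c : G) • S : Sylow q G), ∃ hx : x ∈ C, (⟨x, hx⟩ : C) ∈ Q' := by
    intro x hx
    have h1 : (c : G)⁻¹ * x * c ∈ S := mem_smul_sylow.1 hx
    have hxC : x ∈ C := by
      have h2 := mul_mem (mul_mem c.2 (hS h1)) (inv_mem c.2)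
      have e : (c : G) * ((c : G)⁻¹ * x * c) * (c : G)⁻¹ = x := by group
      rwa [e] at h2
    refine ⟨hxC, ?_⟩
    rw [← hc', mem_smul_sylow]
    exact h1
  have hfix : ∀ g : C, (dual N).comp φ g l = l ↔ ∀ n : N, l (MulAut.conjNormal (g : G) n) = l n :=
    fun g => dual_eq_iff (φ g) l
  refine ⟨(c : G) • S, fun x hx => (hmem x hx).1, fun x hx => ?_, fun g hg hgl x hx => ?_⟩
  · obtain ⟨hxC, hxQ⟩ := hmem x hx
    exact (hfix ⟨x, hxC⟩).1 (hQ1 _ hxQ)
  · obtain ⟨hxC, hxQ⟩ := hmem x hx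
    exact congrArg Subtype.val (hQ2 ⟨g, hg⟩ ((hfix ⟨g, hg⟩).2 hgl) _ hxQ)

end

end Cfsg.Agent.H683.Cpq
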