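import Cfsg.Agent.H524.SqfFinal
import Cfsg.Agent.H524.SqfKnoche
import Cfsg.Agent.H683.ClassCount
import Cfsg.Agent.Lib.Cores
import Cfsg.Agent.Lib.GenFitting

/-!
# Groups in which the class sizes of the elements of prime power order are square-free

* `SFP G`; inherited by quotients (`SFP.of_surjective`) and normal subgroups (`SFP.normal`);
* `SFP.isSupersolvable`: a solvable group with `SFP` is supersolvable.
-/

set_option autoImplicit false

namespace Cfsg.Agent.H683.SqfP

open Subgroup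
open scoped commutatorElement
open Cfsg.Agent.H524.Sqf (delta delta_apply delta_ker I card_I mem_I comm_mem_I I_le conj_mem_I
  conj_self_mem_I eq_of_common relIndex_dvd)

/-- Elements of prime power order. -/
def Prim {G : Type*} [Group G] (x : G) : Prop := ∃ r k : ℕ, r.Prime ∧ orderOf x = r ^ k

/-- Class sizes of elements of prime power order are square-free. -/
def SFP (G : Type*) [Group G] : Prop :=
  ∀ x : G, Prim x → Squarefree (centralizer ({x} : Set G)).index

/-- Elements of prime power order lift along surjections. -/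
theorem exists_lift {G H : Type*} [Group G] [Finite G] [Group H] (f : G →* H)
    (hf : Function.Surjective f) {y : H} {r k : ℕ} (hr : r.Prime) (hy : orderOf y = r ^ k) :
    ∃ x : G, f x = y ∧ ∃ j, orderOf x = r ^ j := by
  have : Fact r.Prime := ⟨hr⟩
  obtain ⟨x, rfl⟩ := hf y
  obtain ⟨a, b, hab, hc, ha, hb, haz, hbz⟩ := Cfsg.Agent.H524.ClassSize.exists_decomp r x
  refine ⟨a, ?_, ha⟩
  have h1 : orderOf (f b) ∣ r ^ k := by
    rw [← hy]
    obtain ⟨n, rfl⟩ := hbz
    simp only [map_zpow]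
    exact orderOf_dvd_of_mem_zpowers ⟨n, rfl⟩
  have h2 : orderOf (f b) ∣ orderOf b := orderOf_map_dvd f b
  have h3 : orderOf (f b) = 1 := by
    have h4 : (orderOf (f b)).Coprime (r ^ k) :=
      (Nat.Coprime.coprime_dvd_left h2 hb).pow_right k
    exact Nat.eq_one_of_dvd_coprimes h4 dvd_rfl h1
  rw [orderOf_eq_one_iff] at h3
  rw [← hab, map_mul, h3, mul_one]

theorem SFP.of_surjective {G H : Type*} [Group G] [Finite G] [Group H] (f : G →* H)
    (hf : Function.Surjective f) (h : SFP G) : SFP H := by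
  rintro x ⟨r, k, hr, hx⟩
  obtain ⟨y, rfl, j, hj⟩ := exists_lift f hf hr hx
  have h1 : centralizer ({y} : Set G) ≤ (centralizer ({f y} : Set H)).comap f := by
    intro z hz
    rw [mem_centralizer_singleton_iff] at hz
    rw [mem_comap, mem_centralizer_singleton_iff, ← map_mul, hz, map_mul]
  have h2 := Subgroup.index_dvd_of_le h1
  rw [Subgroup.index_comap_of_surjective _ hf] at h2
  exact (h y ⟨r, j, hr, hj⟩).squarefree_of_dvd h2

variable {G : Type*} [Group G]

theorem SFP.normal [Finite G] (h : SFP G) (N : Subgroup G) [N.Normal] : SFP N := by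
  rintro x ⟨r, k, hr, hx⟩
  have h1 : (centralizer ({x} : Set N)) = (centralizer ({(x : G)} : Set G)).subgroupOf N := by
    ext y
    rw [mem_centralizer_singleton_iff, mem_subgroupOf, mem_centralizer_singleton_iff,
      Subtype.ext_iff]
    rfl
  rw [h1]
  refine (h (x : G) ⟨r, k, hr, ?_⟩).squarefree_of_dvd (relIndex_dvd N _)
  rw [Subgroup.orderOf_coe, hx]

/-- A square-free number dividing a power of `p` divides `p`. -/
theorem dvd_prime_of_squarefree {p n m : ℕ} (hp : p.Prime) (hm : Squarefree m) (h : m ∣ p ^ n) :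
    m ∣ p := by
  obtain ⟨k, -, rfl⟩ := (Nat.dvd_prime_pow hp).mp h
  rcases Nat.lt_or_ge k 2 with hk2 | hk2
  · interval_cases k
    · simp
    · simp
  · exfalso
    have h3 : p * p ∣ p ^ k := by
      rw [← pow_two]; exact pow_dvd_pow p hk2
    exact hp.one_lt.ne' (Nat.isUnit_iff.mp (hm p h3))

theorem SFP.relIndex_dvd_prime [Finite G] (h : SFP G) {p : ℕ} [hp : Fact p.Prime] {N : Subgroup G}
    [N.Normal] (hN : IsPGroup p N) {y : G} (hy : Prim y) :
    (centralizer ({y} : Set G)).relIndex N ∣ p := by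
  obtain ⟨n, hn⟩ := IsPGroup.iff_card.mp hN
  refine dvd_prime_of_squarefree (n := n) hp.out
    ((h y hy).squarefree_of_dvd (relIndex_dvd N _)) ?_
  rw [← hn]; exact Subgroup.relIndex_dvd_card _ _

section Dichotomy

variable {N : Subgroup G} [hN : N.Normal] {hc : ∀ a ∈ N, ∀ b ∈ N, a * b = b * a}

/-- The two element argument. -/
theorem two_elem {p : ℕ} (hp : p.Prime) {A : Subgroup G}
    (hI : ∀ y ∈ A, Nat.card (I N hc y) ∣ p) {y z n m : G} (hy : y ∈ A) (hz : z ∈ A)
    (hn : n ∈ N) (hm : m ∈ N) (hyn : ⁅y, n⁆ = 1) (hzn : ⁅z, n⁆ ≠ 1) (hzm : ⁅z, m⁆ = 1)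
    (hym : ⁅y, m⁆ ≠ 1) : I N hc y = I N hc z := by
  have e : ∀ k : G, ⁅y * z, k⁆ = y * ⁅z, k⁆ * y⁻¹ * ⁅y, k⁆ := by
    intro k; simp only [commutatorElement_def]; group
  have h1 : ⁅y, m⁆ ∈ I N hc (y * z) := by
    have := comm_mem_I hc (y * z) hm
    rwa [e, hzm, mul_one, mul_inv_cancel, one_mul] at this
  have h2 : I N hc y = I N hc (y * z) :=
    eq_of_common hp (hI y hy) (hI _ (mul_mem hy hz)) hym (comm_mem_I hc y hm) h1
  have h3 : y * ⁅z, n⁆ * y⁻¹ ∈ I N hc (y * z) := by
    have := comm_mem_I hc (y * z) hn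
    rwa [e, hyn, mul_one] at this
  rw [← h2] at h3
  have h4 := conj_self_mem_I h3
  have h5 : y⁻¹ * (y * ⁅z, n⁆ * y⁻¹) * y = ⁅z, n⁆ := by group
  rw [h5] at h4
  exact eq_of_common hp (hI y hy) (hI z hz) hzn h4 (comm_mem_I hc z hn)

/-- If `C_N(y) ≤ C_N(z)` and both are proper then they are equal. -/
theorem ker_eq_of_le [Finite G] {p : ℕ} (hp : p.Prime) {y z : G}
    (hIy : Nat.card (I N hc y) ∣ p) (hIz : Nat.card (I N hc z) ∣ p)
    (hz : ∃ n ∈ N, ⁅z, n⁆ ≠ 1) (h : ∀ n ∈ N, ⁅y, n⁆ = 1 → ⁅z, n⁆ = 1) :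
    ∀ n ∈ N, ⁅z, n⁆ = 1 → ⁅y, n⁆ = 1 := by
  have hle : (delta N hc y).ker ≤ (delta N hc z).ker := by
    intro n hn
    rw [MonoidHom.mem_ker, delta_apply] at hn ⊢
    exact h n n.2 hn
  have hiy : (delta N hc y).ker.index ∣ p := by rw [Subgroup.index_ker]; exact hIy
  have hiz : (delta N hc z).ker.index = p := by
    have h1 : (delta N hc z).ker.index ∣ p := by rw [Subgroup.index_ker]; exact hIz
    refine ((Nat.dvd_prime hp).mp h1).resolve_left ?_
    intro h2
    obtain ⟨n, hn, hne⟩ := hz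
    rw [Subgroup.index_eq_one] at h2
    apply hne
    have : (⟨n, hn⟩ : N) ∈ (delta N hc z).ker := by rw [h2]; trivial
    exact this
  have heq : (delta N hc y).ker = (delta N hc z).ker := by
    have h3 := Subgroup.relIndex_mul_index hle
    have h5 : (delta N hc y).ker.relIndex (delta N hc z).ker * p ∣ p := by
      rw [← hiz, h3, hiz]; exact hiy
    have h6 : (delta N hc y).ker.relIndex (delta N hc z).ker = 1 := by
      have h7 : (delta N hc y).ker.relIndex (delta N hc z).ker * p ∣ 1 * p := by rwa [one_mul]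
      exact Nat.dvd_one.mp (Nat.dvd_of_mul_dvd_mul_right hp.pos h7)
    rw [Subgroup.relIndex_eq_one] at h6
    exact le_antisymm hle h6
  intro n hn hzn
  have h7 : (⟨n, hn⟩ : N) ∈ (delta N hc y).ker := by
    rw [heq]; exact hzn
  exact h7

/-- The dichotomy. -/
theorem dichotomy [Finite G] {p : ℕ} (hp : p.Prime) {A : Subgroup G}
    (hI : ∀ y ∈ A, Nat.card (I N hc y) ∣ p) :
    (∃ L : Subgroup G, Nat.card L ∣ p ∧ ∀ y ∈ A, I N hc y ≤ L) ∨
      (∃ y ∈ A, (∃ n ∈ N, ⁅y, n⁆ ≠ 1) ∧ ∀ z ∈ A, ∀ n ∈ N, ⁅y, n⁆ = 1 → ⁅z, n⁆ = 1) := by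
  by_cases htriv : ∀ y ∈ A, ∀ n ∈ N, ⁅y, n⁆ = 1
  · left
    refine ⟨⊥, by simp, fun y hy c hcI => ?_⟩
    obtain ⟨n, hn, rfl⟩ := mem_I.mp hcI
    rw [htriv y hy n hn]; exact Subgroup.one_mem _
  push Not at htriv
  obtain ⟨y, hyA, hy⟩ := htriv
  by_cases hall : ∀ z ∈ A, ∀ n ∈ N, ⁅y, n⁆ = 1 → ⁅z, n⁆ = 1
  · exact Or.inr ⟨y, hyA, hy, hall⟩
  left
  have key : ∀ u ∈ A, ∀ v ∈ A, (∃ n ∈ N, ⁅u, n⁆ ≠ 1) → (∃ n ∈ N, ⁅v, n⁆ ≠ 1) →
      (∃ n ∈ N, ⁅u, n⁆ = 1 ∧ ⁅v, n⁆ ≠ 1) → I N hc u = I N hc v := by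
    intro u huA v hvA hu hv huv
    obtain ⟨n, hn, h1, h2⟩ := huv
    by_cases hvu : ∀ m ∈ N, ⁅v, m⁆ = 1 → ⁅u, m⁆ = 1
    · exact absurd (ker_eq_of_le hp (hI v hvA) (hI u huA) hu hvu n hn h1) h2
    · push Not at hvu
      obtain ⟨m, hm, h3, h4⟩ := hvu
      exact two_elem hp hI huA hvA hn hm h1 h2 h3 h4
  push Not at hall
  obtain ⟨z, hzA, n, hn, hyn, hzn⟩ := hall
  have hz : ∃ n ∈ N, ⁅z, n⁆ ≠ 1 := ⟨n, hn, hzn⟩
  have hyz : I N hc y = I N hc z := key y hyA z hzA hy hz ⟨n, hn, hyn, hzn⟩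
  refine ⟨I N hc y, hI y hyA, fun w hwA => ?_⟩
  by_cases hw : ∃ n ∈ N, ⁅w, n⁆ ≠ 1
  · by_cases hwn : ⁅w, n⁆ = 1
    · rw [hyz, ← key w hwA z hzA hw hz ⟨n, hn, hwn, hzn⟩]
    · rw [key y hyA w hwA hy hw ⟨n, hn, hyn, hwn⟩]
  · push Not at hw
    intro c hcI
    obtain ⟨n, hn, rfl⟩ := mem_I.mp hcI
    rw [hw n hn]; exact Subgroup.one_mem _

end Dichotomy

/-- A central subgroup which is minimal normal has prime order. -/
theorem card_of_central [Finite G] {p : ℕ} [hp : Fact p.Prime] {V : Subgroup G} (hVp : IsPGroup p V)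
    (hV : V ≠ ⊥) (hmin : ∀ K : Subgroup G, K.Normal → K ≤ V → K = ⊥ ∨ K = V)
    (hcen : ∀ k ∈ V, ∀ g : G, g * k * g⁻¹ = k) : Nat.card V = p := by
  obtain ⟨n, hn⟩ := IsPGroup.iff_card.mp hVp
  have hn0 : n ≠ 0 := by
    rintro rfl
    rw [pow_zero] at hn
    exact hV (Subgroup.card_eq_one.mp hn)
  have hdvd : p ∣ Nat.card V := by rw [hn]; exact dvd_pow_self p hn0
  obtain ⟨x, hx⟩ := exists_prime_orderOf_dvd_card' p hdvd
  have hnorm : (zpowers (x : G)).Normal := by
    refine ⟨fun a ha g => ?_⟩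
    obtain ⟨k, rfl⟩ := Subgroup.mem_zpowers_iff.mp ha
    have : g * (x : G) ^ k * g⁻¹ = (x : G) ^ k := by
      rw [← conj_zpow, hcen x x.2 g]
    rw [this]; exact ⟨k, rfl⟩
  rcases hmin _ hnorm ((zpowers_le).2 x.2) with h | h
  · exfalso
    rw [zpowers_eq_bot] at h
    rw [← Subgroup.orderOf_coe, h, orderOf_one] at hx
    exact hp.out.one_lt.ne hx
  · rw [← h, Nat.card_zpowers, Subgroup.orderOf_coe, hx]

/-- A minimal normal subgroup of a solvable group with `SFP` has prime order. -/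
theorem SFP.card_minimal [Finite G] [Group.IsSolvable G] (h : SFP G) {V : Subgroup G}
    [hVn : V.Normal] (hV : V ≠ ⊥) (hmin : ∀ K : Subgroup G, K.Normal → K ≤ V → K = ⊥ ∨ K = V) :
    (Nat.card V).Prime := by
  have hcomm := Cfsg.Agent.SolvableStructure.MinimalNormal.comm_of_minimal_normal V hV hmin
  obtain ⟨p, d, hp, hd, hcard, -⟩ :=
    Cfsg.Agent.SolvableStructure.MinimalNormal.exists_prime_of_minimal_normal V hV hmin
  have : Fact p.Prime := ⟨hp⟩
  have hVp : IsPGroup p V := IsPGroup.of_card hcard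
  set C := centralizer (V : Set G) with hC
  have hCn : C.Normal := Subgroup.normal_centralizer
  by_cases hCtop : C = ⊤
  · rw [card_of_central hVp hV hmin (fun k hk g => ?_)]
    · exact hp
    · have hg : g ∈ C := by rw [hCtop]; trivial
      rw [hC, mem_centralizer_iff] at hg
      rw [← hg k hk, mul_inv_cancel_right]
  have hnt : Nontrivial (G ⧸ C) := QuotientGroup.nontrivial_iff.2 hCtop
  obtain ⟨M, hMn, hM, hMmin⟩ := Cfsg.Agent.Lib.SubnormalJoin.exists_minimal_normal (G ⧸ C)
  obtain ⟨t, e, ht, he, hMcard, hMt⟩ :=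
    Cfsg.Agent.SolvableStructure.MinimalNormal.exists_prime_of_minimal_normal M hM hMmin
  set A := M.comap (QuotientGroup.mk' C) with hA
  have hAn : A.Normal := hMn.comap _
  have hI : ∀ y ∈ A, Nat.card (I V hcomm y) ∣ p := by
    intro y hy
    rw [card_I]
    have hyM : (y : G ⧸ C) ∈ M := hy
    have hord : ∃ k, orderOf (y : G ⧸ C) = t ^ k := by
      have := orderOf_dvd_of_pow_eq_one (hMt _ hyM)
      rcases (Nat.dvd_prime ht).1 this with h1 | h1
      · exact ⟨0, by rw [h1, pow_zero]⟩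
      · exact ⟨1, by rw [h1, pow_one]⟩
    obtain ⟨k, hk⟩ := hord
    obtain ⟨c, hcy, j, hj⟩ := exists_lift (QuotientGroup.mk' C) (QuotientGroup.mk'_surjective C) ht hk
    have hrel : (centralizer ({y} : Set G)).relIndex V = (centralizer ({c} : Set G)).relIndex V := by
      rw [Subgroup.relIndex, Subgroup.relIndex]
      congr 1
      ext v
      rw [mem_subgroupOf, mem_subgroupOf, mem_centralizer_singleton_iff,
        mem_centralizer_singleton_iff]
      have h1 : c⁻¹ * y ∈ C := QuotientGroup.eq.1 hcy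
      rw [hC, mem_centralizer_iff] at h1
      have h2 := h1 v v.2
      have h3 : y = c * (c⁻¹ * y) := by group
      constructor
      · intro h4
        have h5 : (v : G) * c * (c⁻¹ * y) = c * v * (c⁻¹ * y) := by
          rw [mul_assoc, ← h3, h4, mul_assoc c, h2, ← mul_assoc, ← h3]
        exact mul_right_cancel h5
      · intro h4
        rw [h3, ← mul_assoc, h4, mul_assoc, h2, ← mul_assoc]
    rw [hrel]
    exact h.relIndex_dvd_prime hVp ⟨t, j, ht, hj⟩
  -- `A` does not centralize `V`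
  have hAC : ∃ y ∈ A, ∃ n ∈ V, ⁅y, n⁆ ≠ 1 := by
    by_contra hcon
    push Not at hcon
    apply hM
    rw [eq_bot_iff]
    intro m hm
    obtain ⟨y, rfl⟩ := QuotientGroup.mk_surjective m
    rw [mem_bot, QuotientGroup.eq_one_iff, hC, mem_centralizer_iff]
    intro v hv
    have := hcon y hm v hv
    rw [commutatorElement_eq_one_iff_mul_comm] at this
    exact this.symm
  have hcardV : Nat.card V = p := by
    rcases dichotomy (hc := hcomm) hp hI with ⟨L, hL, hIL⟩ | ⟨y, hyA, hy, hall⟩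
    · obtain ⟨y, hyA, n, hn, hyn⟩ := hAC
      have h1 : I V hcomm y = L :=
        eq_of_common hp (hI y hyA) hL hyn (comm_mem_I hcomm y hn) (hIL y hyA (comm_mem_I hcomm y hn))
      have hnorm : (I V hcomm y).Normal := by
        refine ⟨fun c hcI g => ?_⟩
        rw [h1]
        exact hIL _ (hAn.conj_mem y hyA g) (conj_mem_I hcI g)
      rcases hmin _ hnorm I_le with h2 | h2
      · exfalso
        have h3 := comm_mem_I hcomm y hn
        rw [h2, mem_bot] at h3
        exact hyn h3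
      · rw [← h2]
        refine ((Nat.dvd_prime hp).mp (hI y hyA)).resolve_left (fun h4 => ?_)
        rw [h2] at h4
        exact hV (Subgroup.card_eq_one.mp h4)
    · have hKn : (V ⊓ centralizer (A : Set G)).Normal := by
        have : (centralizer (A : Set G)).Normal := Subgroup.normal_centralizer
        infer_instance
      have hK : V ⊓ centralizer ({y} : Set G) = V ⊓ centralizer (A : Set G) := by
        apply le_antisymm
        · intro k hk
          refine ⟨hk.1, mem_centralizer_iff.2 ?_⟩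
          intro z hz
          have h1 : ⁅y, k⁆ = 1 := by
            rw [commutatorElement_eq_one_iff_mul_comm]
            exact (mem_centralizer_singleton_iff.mp hk.2).symm
          have := hall z hz k hk.1 h1
          rwa [commutatorElement_eq_one_iff_mul_comm] at this
        · intro k hk
          exact ⟨hk.1, mem_centralizer_singleton_iff.2 ((mem_centralizer_iff.1 hk.2) y hyA).symm⟩
      rcases hmin _ hKn inf_le_left with h1 | h1
      · rw [← hK] at h1
        have h2 : (centralizer ({y} : Set G)).relIndex V = Nat.card V := by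
          rw [← Subgroup.inf_relIndex_right, inf_comm, h1, Subgroup.relIndex_bot_left]
        have h3 := hI y hyA
        rw [card_I, h2] at h3
        exact ((Nat.dvd_prime hp).mp h3).resolve_left (fun h => hV (Subgroup.card_eq_one.mp h))
      · exfalso
        obtain ⟨n, hn, hyn⟩ := hy
        have hn' : n ∈ V ⊓ centralizer ({y} : Set G) := by rw [hK, h1]; exact hn
        apply hyn
        rw [commutatorElement_eq_one_iff_mul_comm]
        exact (mem_centralizer_singleton_iff.mp hn'.2).symm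
  rw [hcardV]
  exact hp

theorem isSupersolvable_aux : ∀ (n : ℕ) (G : Type*) [Group G] [Finite G] [Group.IsSolvable G],
    Nat.card G = n → SFP G → IsSupersolvable G := by
  intro n
  induction n using Nat.strong_induction_on with
  | _ n ih =>
    intro G _ _ _ hn h
    rcases subsingleton_or_nontrivial G with hs | hnt
    · exact Cfsg.Agent.SolvableStructure.Supersolvable.isSupersolvable_of_subsingleton
    obtain ⟨M, hMn, hM, hmin⟩ := Cfsg.Agent.Lib.SubnormalJoin.exists_minimal_normal G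
    have hp := h.card_minimal hM hmin
    have : Fact (Nat.card M).Prime := ⟨hp⟩
    have hcyc : IsCyclic M := isCyclic_of_prime_card (p := Nat.card M) rfl
    have hlt : Nat.card (G ⧸ M) < n := by
      have h1 := Subgroup.card_eq_card_quotient_mul_card_subgroup M
      rw [hn] at h1
      have h2 : 0 < Nat.card (G ⧸ M) := Nat.card_pos
      have h3 := hp.two_le
      nlinarith
    exact Cfsg.Agent.SolvableStructure.Supersolvable.isSupersolvable_of_isCyclic_normal M
      (ih _ hlt (G ⧸ M) rfl (h.of_surjective (QuotientGroup.mk' M) (QuotientGroup.mk'_surjective M)))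

theorem SFP.isSupersolvable [Finite G] [Group.IsSolvable G] (h : SFP G) : IsSupersolvable G :=
  isSupersolvable_aux _ G rfl h

end Cfsg.Agent.H683.SqfP
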