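import Cfsg.Agent.H683.SqfP

/-!
# Structure of solvable groups with `SFP`
-/

set_option autoImplicit false

namespace Cfsg.Agent.H683.SqfP

open Subgroup
open scoped commutatorElement Pointwise

/-- If `q²` does not divide `|M : D|`, some Sylow `q`-subgroup of `M` has all its `q`-th powers
in `D`. -/
theorem exists_sylow_pow_mem {M : Type*} [Group M] [Finite M] {q : ℕ} [hq : Fact q.Prime]
    (D : Subgroup M) (hD : ¬ q ^ 2 ∣ D.index) :
    ∃ S : Sylow q M, ∀ s ∈ (S : Subgroup M), s ^ q ∈ D := by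
  let S₀ : Sylow q D := default
  have hS₀ : IsPGroup q ((S₀ : Subgroup D).map D.subtype) := S₀.isPGroup'.map _
  obtain ⟨S, hS⟩ := hS₀.exists_le_sylow
  refine ⟨S, ?_⟩
  set T := (S₀ : Subgroup D).map D.subtype with hT
  have hTD : T ≤ D := Subgroup.map_subtype_le _
  -- the index of `T` in `S` divides `q`
  obtain ⟨a, ha⟩ := IsPGroup.iff_card.1 S.isPGroup'
  have hrel : T.relIndex (S : Subgroup M) ∣ q ^ a := by
    rw [← ha]; exact Subgroup.relIndex_dvd_card _ _
  have hrel2 : T.relIndex (S : Subgroup M) ∣ T.index := Subgroup.relIndex_dvd_index_of_le hS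
  have hidx : T.index = T.relIndex D * D.index := (Subgroup.relIndex_mul_index hTD).symm
  have hTrel : ¬ q ∣ T.relIndex D := by
    have : T.relIndex D = (S₀ : Subgroup D).index := by
      rw [Subgroup.relIndex]
      congr 1
      ext x
      rw [mem_subgroupOf, hT]
      constructor
      · rintro ⟨y, hy, hxy⟩
        rwa [← Subtype.ext hxy]
      · intro hx
        exact ⟨x, hx, rfl⟩
    rw [this]
    exact S₀.not_dvd_index
  have hcop : (T.relIndex (S : Subgroup M)).Coprime (T.relIndex D) := by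
    refine Nat.Coprime.coprime_dvd_left hrel (Nat.Coprime.pow_left a ?_)
    exact (Nat.Prime.coprime_iff_not_dvd hq.out).2 hTrel
  have h1 : T.relIndex (S : Subgroup M) ∣ D.index := by
    rw [hidx] at hrel2
    exact hcop.dvd_of_dvd_mul_left hrel2
  have h2 : T.relIndex (S : Subgroup M) ∣ q := by
    obtain ⟨k, -, hk⟩ := (Nat.dvd_prime_pow hq.out).mp hrel
    rw [hk] at h1 ⊢
    rcases Nat.lt_or_ge k 2 with hk2 | hk2
    · interval_cases k
      · simp
      · simp
    · exact absurd ((pow_dvd_pow q hk2).trans h1) hD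
  intro s hs
  apply hTD
  set W := T.subgroupOf (S : Subgroup M) with hW
  have hWidx : W.index ∣ q := h2
  have hWn : W.Normal := by
    rcases (Nat.dvd_prime hq.out).mp hWidx with h3 | h3
    · rw [Subgroup.index_eq_one] at h3
      rw [h3]; infer_instance
    · refine Subgroup.normal_of_index_eq_minFac_card ?_
      rw [h3]
      have ha0 : a ≠ 0 := by
        rintro rfl
        have h4 := Subgroup.index_dvd_card W
        rw [h3, ha, pow_zero, Nat.dvd_one] at h4
        exact hq.out.ne_one h4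
      rw [show Nat.card (S : Subgroup M) = q ^ a from ha, hq.out.pow_minFac ha0]
  have h5 : ((⟨s, hs⟩ : (S : Subgroup M)) : (S : Subgroup M) ⧸ W) ^ q = 1 := by
    have h6 : orderOf ((⟨s, hs⟩ : (S : Subgroup M)) : (S : Subgroup M) ⧸ W) ∣ q :=
      (_root_.orderOf_dvd_natCard _).trans hWidx
    exact orderOf_dvd_iff_pow_eq_one.1 h6
  rw [← QuotientGroup.mk_pow, QuotientGroup.eq_one_iff, hW, mem_subgroupOf] at h5
  exact h5

/-- In a finite `p`-group a subgroup of index dividing `p` contains the commutators. -/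
theorem commutator_mem_of_index {P : Type*} [Group P] [Finite P] {p : ℕ} [hp : Fact p.Prime]
    (hP : IsPGroup p P) (W : Subgroup P) (hW : W.index ∣ p) (a b : P) : ⁅a, b⁆ ∈ W := by
  have hWn : W.Normal := by
    rcases (Nat.dvd_prime hp.out).mp hW with h3 | h3
    · rw [Subgroup.index_eq_one] at h3
      rw [h3]; infer_instance
    · refine Subgroup.normal_of_index_eq_minFac_card ?_
      rw [h3]
      obtain ⟨n, hn⟩ := IsPGroup.iff_card.mp hP
      rw [hn]
      have hn0 : n ≠ 0 := by
        rintro rfl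
        have h2 := Subgroup.index_dvd_card W
        rw [h3, hn, pow_zero, Nat.dvd_one] at h2
        exact hp.out.ne_one h2
      rw [hp.out.pow_minFac hn0]
  rw [← QuotientGroup.eq_one_iff]
  have hcyc : IsCyclic (P ⧸ W) := by
    rcases (Nat.dvd_prime hp.out).mp hW with h1 | h1
    · have hs : Subsingleton (P ⧸ W) := (Nat.card_eq_one_iff_unique.mp h1).1
      infer_instance
    · exact isCyclic_of_prime_card (p := p) h1
  have : ((⁅a, b⁆ : P) : P ⧸ W) = ⁅(a : P ⧸ W), (b : P ⧸ W)⁆ :=
    map_commutatorElement (QuotientGroup.mk' _) a b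
  rw [this, commutatorElement_eq_one_iff_mul_comm]
  have hcm := IsCyclic.isMulCommutative (α := P ⧸ W)
  exact hcm.is_comm.comm _ _

variable {G : Type*} [Group G]

/-- If `x` is a `q`-element, then `x^q` centralizes `O_p(G)`. -/
theorem SFP.pow_commute [Finite G] (h : SFP G) (hF : commutator G ≤ fittingSubgroup G)
    {p q : ℕ} [hp : Fact p.Prime] [hq : Fact q.Prime] {x : G} {k : ℕ}
    (hx : orderOf x = q ^ k) {u : G} (hu : u ∈ pCore p G) : x ^ q * u = u * x ^ q := by
  have hVn : (pCore p G).Normal := Cfsg.Agent.Lib.Cores.pCore_normal p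
  have hVp : IsPGroup p (pCore p G) := Cfsg.Agent.Lib.Cores.pCore_isPGroup p
  have hFn : (fittingSubgroup G).Normal := Cfsg.Agent.Lib.Cores.fittingSubgroup_normal
  have hFnil : Group.IsNilpotent (fittingSubgroup G) :=
    Cfsg.Agent.Lib.Cores.fittingSubgroup_isNilpotent
  -- a Sylow `q`-subgroup containing `x`
  have hzp : IsPGroup q (zpowers x) := by
    apply IsPGroup.of_card (n := k)
    rw [Nat.card_zpowers, hx]
  obtain ⟨Q, hQ⟩ := hzp.exists_le_sylow
  set M := fittingSubgroup G ⊔ (Q : Subgroup G) with hM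
  have hMn : M.Normal := by
    refine ⟨fun m hm g => ?_⟩
    have h1 : g * m * g⁻¹ = ⁅g, m⁆ * m := by rw [commutatorElement_def]; group
    rw [h1]
    exact mul_mem ((hF.trans le_sup_left) (commutator_mem_commutator trivial trivial)) hm
  have hQM : (Q : Subgroup G) ≤ M := le_sup_right
  -- the class size of `u`
  obtain ⟨j, hj⟩ := IsPGroup.iff_orderOf.1 hVp ⟨u, hu⟩
  rw [Subgroup.orderOf_mk] at hj
  have hsq : Squarefree ((centralizer ({u} : Set G)).subgroupOf M).index :=
    (h u ⟨p, j, hp.out, hj⟩).squarefree_of_dvd (Cfsg.Agent.H524.Sqf.relIndex_dvd M _)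
  obtain ⟨S, hS⟩ := exists_sylow_pow_mem ((centralizer ({u} : Set G)).subgroupOf M) (q := q) (by
    intro hd
    rw [pow_two] at hd
    exact hq.out.one_lt.ne' (Nat.isUnit_iff.1 (hsq q hd)))
  -- `S` is conjugate to `Q` in `M`
  obtain ⟨m, hm⟩ := MulAction.exists_smul_eq M (Q.subtype hQM) S
  obtain ⟨f, hf, t, ht, hft⟩ := Subgroup.mem_sup_of_normal_left.1 m.2
  have hxQ : x ∈ (Q : Subgroup G) := hQ (mem_zpowers x)
  -- `f x f⁻¹ ∈ S`
  have hfx : (f * x * f⁻¹) ^ q * u = u * (f * x * f⁻¹) ^ q := by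
    have h1 : t⁻¹ * x * t ∈ (Q : Subgroup G) := mul_mem (mul_mem (inv_mem ht) hxQ) ht
    have h2 : m * ⟨t⁻¹ * x * t, hQM h1⟩ * m⁻¹ ∈ (S : Subgroup M) := by
      rw [← hm]
      change m * _ * m⁻¹ ∈ MulAut.conj m • ((Q.subtype hQM : Sylow q M) : Subgroup M)
      rw [Subgroup.mem_pointwise_smul_iff_inv_smul_mem, ← map_inv, MulAut.smul_def,
        MulAut.conj_apply]
      have h3 : m⁻¹ * (m * ⟨t⁻¹ * x * t, hQM h1⟩ * m⁻¹) * m⁻¹⁻¹ = ⟨t⁻¹ * x * t, hQM h1⟩ := by group
      rw [h3]
      exact h1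
    have h4 := hS _ h2
    rw [mem_subgroupOf, mem_centralizer_singleton_iff] at h4
    have h5 : ((m * ⟨t⁻¹ * x * t, hQM h1⟩ * m⁻¹ : M) : G) = f * x * f⁻¹ := by
      change (m : G) * (t⁻¹ * x * t) * (m : G)⁻¹ = _
      rw [← hft]; group
    rw [SubmonoidClass.coe_pow, h5] at h4
    exact h4
  -- decompose `f`
  obtain ⟨a, b, hab, hcab, ⟨ja, ha⟩, hb, haf, hbf⟩ := Cfsg.Agent.H524.ClassSize.exists_decomp p f
  have haF : a ∈ fittingSubgroup G := (zpowers_le.2 hf) haf
  have hbF : b ∈ fittingSubgroup G := (zpowers_le.2 hf) hbf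
  have haV : a ∈ pCore p G := Cfsg.Agent.Lib.GenFitting.mem_pCore_of_mem_fitting haF (k := ja)
    (by rw [← ha, pow_orderOf_eq_one])
  have hVF : pCore p G ≤ fittingSubgroup G := Cfsg.Agent.Lib.Cores.pCore_le_fittingSubgroup p
  have hbu : b * u = u * b := by
    have h1 : Commute (⟨b, hbF⟩ : fittingSubgroup G) ⟨u, hVF hu⟩ := by
      refine Cfsg.Agent.Lib.NilpotentCoprime.commute_of_coprime_orderOf ?_
      rw [Subgroup.orderOf_mk, Subgroup.orderOf_mk, hj]
      exact hb.pow_right j
    exact congrArg Subtype.val h1.eq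
  -- `x ^ q` commutes with `a⁻¹ u a`
  have h6 : x ^ q * (a⁻¹ * u * a) = (a⁻¹ * u * a) * x ^ q := by
    have h7 : f⁻¹ * u * f = a⁻¹ * u * a := by
      have h8 : b⁻¹ * u * b = u := by rw [mul_assoc, ← hbu]; group
      rw [← hab, show a * b = b * a from hcab]
      calc (b * a)⁻¹ * u * (b * a) = a⁻¹ * (b⁻¹ * u * b) * a := by group
        _ = _ := by rw [h8]
    rw [conj_pow] at hfx
    calc x ^ q * (a⁻¹ * u * a) = f⁻¹ * ((f * x ^ q * f⁻¹) * u) * f := by rw [← h7]; group
      _ = f⁻¹ * (u * (f * x ^ q * f⁻¹)) * f := by rw [hfx]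
      _ = (a⁻¹ * u * a) * x ^ q := by rw [← h7]; group
  -- commutators of `O_p(G)` centralize `x`
  have h9 : (centralizer ({x} : Set G)).relIndex (pCore p G) ∣ p :=
    h.relIndex_dvd_prime hVp ⟨q, k, hq.out, hx⟩
  have h10 := commutator_mem_of_index hVp ((centralizer ({x} : Set G)).subgroupOf (pCore p G)) h9
    (⟨u, hu⟩⁻¹) (⟨a, haV⟩⁻¹)
  rw [mem_subgroupOf, mem_centralizer_singleton_iff] at h10
  have h11 : ((⁅(⟨u, hu⟩ : pCore p G)⁻¹, (⟨a, haV⟩ : pCore p G)⁻¹⁆ : pCore p G) : G) =
      u⁻¹ * (a⁻¹ * u * a) := by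
    rw [commutatorElement_def]
    change u⁻¹ * a⁻¹ * u⁻¹⁻¹ * a⁻¹⁻¹ = _
    group
  rw [h11] at h10
  have h12 : Commute (u⁻¹ * (a⁻¹ * u * a)) (x ^ q) := (show Commute _ x from h10).pow_right q
  have h13 : Commute (x ^ q) (a⁻¹ * u * a) := h6
  have h14 : Commute (x ^ q) ((a⁻¹ * u * a) * (u⁻¹ * (a⁻¹ * u * a))⁻¹) :=
    h13.mul_right h12.symm.inv_right
  have h15 : (a⁻¹ * u * a) * (u⁻¹ * (a⁻¹ * u * a))⁻¹ = u := by group
  rw [h15] at h14
  exact h14.eq

/-- A `q`-element which centralizes `O_p(G)` for all `p ≠ q` lies in the Fitting subgroup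
if `G/F(G)` is abelian. -/
theorem mem_fitting_of_commute [Finite G] (hF : commutator G ≤ fittingSubgroup G)
    {q : ℕ} [hq : Fact q.Prime] {y : G} {k : ℕ} (hy : orderOf y = q ^ k)
    (hc : ∀ p : ℕ, p.Prime → p ≠ q → ∀ u ∈ pCore p G, y * u = u * y) :
    y ∈ fittingSubgroup G := by
  have hVn : (pCore q G).Normal := Cfsg.Agent.Lib.Cores.pCore_normal q
  have hVp : IsPGroup q (pCore q G) := Cfsg.Agent.Lib.Cores.pCore_isPGroup q
  have hzp : IsPGroup q (zpowers y) := by
    apply IsPGroup.of_card (n := k)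
    rw [Nat.card_zpowers, hy]
  set R := pCore q G ⊔ zpowers y with hR
  set X := fittingSubgroup G ⊔ zpowers y with hX
  have hRp : IsPGroup q R := hVp.to_sup_of_normal_left hzp
  have hXn : X.Normal := by
    refine ⟨fun m hm g => ?_⟩
    have h1 : g * m * g⁻¹ = ⁅g, m⁆ * m := by rw [commutatorElement_def]; group
    rw [h1]
    exact mul_mem ((hF.trans le_sup_left) (commutator_mem_commutator trivial trivial)) hm
  have hRX : R ≤ X := sup_le_sup (Cfsg.Agent.Lib.Cores.pCore_le_fittingSubgroup q) le_rfl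
  have hXN : X ≤ normalizer (R : Set G) := by
    rw [hX, Cfsg.Agent.Lib.Cores.fittingSubgroup_eq_iSup_pCore]
    refine sup_le (iSup_le fun p => ?_) (le_sup_right.trans Subgroup.le_normalizer)
    by_cases hpq : (p : ℕ) = q
    · rw [hpq]
      exact le_sup_left.trans Subgroup.le_normalizer
    · intro u hu
      have h1 := hc p p.2 hpq u hu
      rw [Subgroup.mem_normalizer_iff_map_conj_eq]
      rw [hR, Subgroup.map_sup]
      congr 1
      · exact Subgroup.Normal.map_conj_eq _ _
      · rw [MonoidHom.map_zpowers]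
        congr 1
        change u * y * u⁻¹ = y
        rw [← h1, mul_inv_cancel_right]
  have h1 := Cfsg.Agent.Lib.GenFitting.le_pCore_of_normal_in_normal hXn hRX hXN hRp
  exact (h1.trans (Cfsg.Agent.Lib.Cores.pCore_le_fittingSubgroup q))
    ((le_sup_right : zpowers y ≤ R) (mem_zpowers y))

/-- `G / F(G)` has square-free exponent. -/
theorem SFP.squarefree_exponent [Finite G] (h : SFP G) (hF : commutator G ≤ fittingSubgroup G)
    [(fittingSubgroup G).Normal] : Squarefree (Monoid.exponent (G ⧸ fittingSubgroup G)) := by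
  have hexp0 : Monoid.exponent (G ⧸ fittingSubgroup G) ≠ 0 := Monoid.exponent_ne_zero_of_finite
  rw [Nat.squarefree_iff_prime_squarefree]
  intro q hq hd
  have : Fact q.Prime := ⟨hq⟩
  obtain ⟨g, hg⟩ := hq.exists_orderOf_eq_pow_factorization_exponent (G ⧸ fittingSubgroup G)
  obtain ⟨x, hx, j, hj⟩ := exists_lift (QuotientGroup.mk' (fittingSubgroup G))
    (QuotientGroup.mk'_surjective _) hq hg
  have hxq : orderOf (x ^ q) ∣ q ^ j := by
    rw [← hj]; exact orderOf_pow_dvd q
  obtain ⟨i, -, hi⟩ := (Nat.dvd_prime_pow hq).1 hxq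
  have h1 : x ^ q ∈ fittingSubgroup G := by
    refine mem_fitting_of_commute hF hi fun p hp _ u hu => ?_
    have : Fact p.Prime := ⟨hp⟩
    exact h.pow_commute hF hj hu
  have h2 : g ^ q = 1 := by
    rw [← hx, ← map_pow]
    exact (QuotientGroup.eq_one_iff _).2 h1
  have h3 : orderOf g ∣ q := orderOf_dvd_of_pow_eq_one h2
  have h4 : 2 ≤ (Monoid.exponent (G ⧸ fittingSubgroup G)).factorization q := by
    rw [← pow_two] at hd
    exact (hq.pow_dvd_iff_le_factorization hexp0).1 hd
  have h5 : q ^ 2 ∣ q ^ 1 := by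
    rw [pow_one]
    exact (pow_dvd_pow q h4).trans (hg ▸ h3)
  have h6 := (Nat.pow_dvd_pow_iff_le_right hq.one_lt).1 h5
  omega

theorem commutator_prod_card {A B : Type*} [Group A] [Group B] :
    Nat.card (commutator (A × B)) = Nat.card (commutator A) * Nat.card (commutator B) := by
  have h : commutator (A × B) = (commutator A).prod (commutator B) := by
    rw [commutator_def, commutator_def, commutator_def, ← Subgroup.top_prod_top,
      Subgroup.commutator_prod_prod]
  rw [h, ← Nat.card_prod]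
  exact Nat.card_congr (Subgroup.prodEquiv _ _).toEquiv

/-- In a nilpotent group with `SFP` the derived subgroup has square-free order. -/
theorem SFP.squarefree_commutator_of_nilpotent {F : Type*} [Group F] [Finite F] (h : SFP F)
    (hnil : Group.IsNilpotent F) : Squarefree (Nat.card (commutator F)) := by
  rw [Nat.squarefree_iff_prime_squarefree]
  intro p hp hd
  have : Fact p.Prime := ⟨hp⟩
  obtain ⟨P, K, hP, hK, ⟨e⟩⟩ := ClassCount.exists_prod hnil p
  have hcard : Nat.card (commutator F) = Nat.card (commutator P) * Nat.card (commutator K) := by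
    rw [← commutator_prod_card]
    have h1 : (commutator F).map e.toMonoidHom = commutator (P × K) := by
      rw [commutator_def, Subgroup.map_commutator, commutator_def]
      have : (⊤ : Subgroup F).map e.toMonoidHom = ⊤ :=
        Subgroup.map_top_of_surjective _ e.surjective
      rw [this]
    rw [← h1, Subgroup.card_map_of_injective e.injective]
  -- the factor `P`
  let f : F →* P := (MonoidHom.fst P K).comp e.toMonoidHom
  have hf : Function.Surjective f := fun x => ⟨e.symm (x, 1), by simp [f]⟩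
  have hSP : SFP P := h.of_surjective f hf
  have h2 : Nat.card (commutator P) ∣ p := by
    refine Cfsg.Agent.H524.Sqf.card_commutator_dvd hP fun y => ?_
    obtain ⟨n, hn⟩ := IsPGroup.iff_card.1 hP
    obtain ⟨j, hj⟩ := IsPGroup.iff_orderOf.1 hP y
    refine dvd_prime_of_squarefree (n := n) hp (hSP y ⟨p, j, hp, hj⟩) ?_
    rw [← hn]
    exact Subgroup.index_dvd_card _
  have h3 : (Nat.card (commutator K)).Coprime p :=
    Nat.Coprime.coprime_dvd_left (Subgroup.card_subgroup_dvd_card _) hK
  rw [hcard] at hd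
  have h4 : p * p ∣ Nat.card (commutator P) :=
    (Nat.Coprime.mul_left h3.symm h3.symm).dvd_of_dvd_mul_right hd
  have h5 : p * p ∣ p * 1 := by rw [mul_one]; exact h4.trans h2
  have h6 := Nat.dvd_of_mul_dvd_mul_left hp.pos h5
  exact hp.one_lt.ne' (Nat.dvd_one.1 h6)

/-- The structure theorem in the solvable case. -/
theorem SFP.structure_theorem [Finite G] [Group.IsSolvable G] (h : SFP G) :
    Cfsg.IsSupersolvable G ∧ derivedSeries G 3 = ⊥ ∧
    (∀ _h : (Cfsg.fittingSubgroup G).Normal, IsMulCommutative (G ⧸ Cfsg.fittingSubgroup G) ∧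
      Squarefree (Monoid.exponent (G ⧸ Cfsg.fittingSubgroup G))) ∧
    Squarefree (Nat.card (commutator ↥(Cfsg.fittingSubgroup G))) := by
  have hss := h.isSupersolvable
  have hFn : (fittingSubgroup G).Normal := Cfsg.Agent.Lib.Cores.fittingSubgroup_normal
  have hFnil : Group.IsNilpotent (fittingSubgroup G) :=
    Cfsg.Agent.Lib.Cores.fittingSubgroup_isNilpotent
  have hF : commutator G ≤ fittingSubgroup G :=
    Cfsg.Agent.Lib.Cores.le_fittingSubgroup inferInstance
      (Cfsg.Agent.SolvableStructure.Supersolvable.isNilpotent_commutator hss)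
  have hsq := (h.normal (fittingSubgroup G)).squarefree_commutator_of_nilpotent hFnil
  refine ⟨hss, ?_, fun _h => ⟨Subgroup.Normal.quotient_commutative_iff_commutator_le.2 hF,
    h.squarefree_exponent hF⟩, hsq⟩
  -- the derived subgroup of `F` is abelian
  have hnil' : Group.IsNilpotent (commutator (fittingSubgroup G)) := inferInstance
  have hcomm : ∀ a b : commutator (fittingSubgroup G), a * b = b * a := by
    have h1 : IsCyclic (commutator (fittingSubgroup G)) := by
      have := IsZGroup.of_squarefree hsq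
      infer_instance
    intro a b
    exact (IsCyclic.isMulCommutative (α := commutator (fittingSubgroup G))).is_comm.comm a b
  have h2 : derivedSeries G 2 ≤ (commutator (fittingSubgroup G)).map (fittingSubgroup G).subtype := by
    rw [derivedSeries_succ, derivedSeries_one, _root_.commutator_def (fittingSubgroup G),
      Subgroup.map_commutator]
    have h3 : commutator G ≤ (⊤ : Subgroup (fittingSubgroup G)).map (fittingSubgroup G).subtype := by
      rw [← MonoidHom.range_eq_map, Subgroup.range_subtype]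
      exact hF
    exact Subgroup.commutator_mono h3 h3
  rw [derivedSeries_succ, eq_bot_iff, Subgroup.commutator_le]
  intro a ha b hb
  obtain ⟨a', ha', rfl⟩ := h2 ha
  obtain ⟨b', hb', rfl⟩ := h2 hb
  rw [mem_bot, commutatorElement_eq_one_iff_mul_comm]
  have := hcomm ⟨a', ha'⟩ ⟨b', hb'⟩
  have h3 := congrArg (fun z : commutator (fittingSubgroup G) => (z.1 : G)) this
  exact h3

end Cfsg.Agent.H683.SqfP
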