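import Mathlib
import Cfsg.Agent.H683.TwoSizeCase

/-!
# Normal subgroups with two `G`-class sizes, containing a Sylow subgroup
-/

set_option autoImplicit false
set_option linter.unusedSectionVars false

namespace Cfsg.Agent.H683.TwoNormal

open Subgroup Cfsg.Agent.H683.TwoSize
open scoped commutatorElement Pointwise

variable {G : Type*} [Group G] [Finite G] {r : ℕ} [hr : Fact r.Prime]

theorem le_cz_mul {a b : G} {C : Subgroup G} (ha : C ≤ cz a) (hb : C ≤ cz b) : C ≤ cz (a * b) := by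
  intro g hg
  have h1 : g * a = a * g := mem_cz.1 (ha hg)
  have h2 : g * b = b * g := mem_cz.1 (hb hg)
  rw [mem_cz]
  calc g * (a * b) = (g * a) * b := by group
    _ = a * (g * b) := by rw [h1]; group
    _ = a * b * g := by rw [h2]; group

theorem exists_smul {K : Subgroup G} {P Q : Sylow r G} (hP : (P : Subgroup G) ≤ K)
    (hQ : (Q : Subgroup G) ≤ K) : ∃ k ∈ K, k • P = Q := by
  obtain ⟨k, hk⟩ := MulAction.exists_smul_eq (↥K) (P.subtype hP) (Q.subtype hQ)
  rw [Sylow.smul_subtype] at hk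
  exact ⟨k, k.2, Sylow.subtype_injective hk⟩

theorem mem_smul {P : Sylow r G} {g x : G} :
    x ∈ ((g • P : Sylow r G) : Subgroup G) ↔ g⁻¹ * x * g ∈ (P : Subgroup G) := by
  rw [Sylow.coe_subgroup_smul, Subgroup.mem_pointwise_smul_iff_inv_smul_mem, ← map_inv,
    MulAut.smul_def, MulAut.conj_apply, inv_inv]

/-- `C(g x g⁻¹)`. -/
theorem mem_cz_conj {g x c : G} : c ∈ cz (g * x * g⁻¹) ↔ g⁻¹ * c * g ∈ cz x := by
  rw [mem_cz, mem_cz]
  constructor
  · intro h
    calc g⁻¹ * c * g * x = g⁻¹ * (c * (g * x * g⁻¹)) * g := by group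
      _ = g⁻¹ * (g * x * g⁻¹ * c) * g := by rw [h]
      _ = _ := by group
  · intro h
    calc c * (g * x * g⁻¹) = g * (g⁻¹ * c * g * x) * g⁻¹ := by group
      _ = g * (x * (g⁻¹ * c * g)) * g⁻¹ := by rw [h]
      _ = _ := by group

theorem cz_conj (g x : G) : cz (g * x * g⁻¹) = MulAut.conj g • cz x := by
  ext c
  rw [mem_cz_conj, Subgroup.mem_pointwise_smul_iff_inv_smul_mem, ← map_inv, MulAut.smul_def,
    MulAut.conj_apply, inv_inv]

theorem conj_normal (g : G) (N : Subgroup G) [hN : N.Normal] : MulAut.conj g • N = N :=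
  hN.conjAct g

theorem relIndex_ne_zero (A B : Subgroup G) : A.relIndex B ≠ 0 := Subgroup.index_ne_zero_of_finite

theorem conj_mem_center {g z : G} (hz : z ∈ center G) : g * z * g⁻¹ ∈ center G := by
  rw [mem_center_iff.1 hz g, mul_inv_cancel_right]; exact hz

/-- The elements of `r`-power order. -/
def REl (r : ℕ) (x : G) : Prop := ∃ k, orderOf x = r ^ k

theorem REl.coprime {x w : G} (hx : REl r x) (hw : (orderOf w).Coprime r) :
    (orderOf x).Coprime (orderOf w) := by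
  obtain ⟨k, hk⟩ := hx
  rw [hk]
  exact (Nat.Coprime.pow_right k hw).symm

theorem REl.of_mem {P : Subgroup G} (hP : IsPGroup r P) {x : G} (hx : x ∈ P) : REl r x := by
  obtain ⟨k, hk⟩ := IsPGroup.iff_orderOf.1 hP ⟨x, hx⟩
  exact ⟨k, by rw [← hk, Subgroup.orderOf_mk]⟩

theorem REl.zpowers {x : G} (hx : REl r x) : IsPGroup r (Subgroup.zpowers x) := by
  obtain ⟨k, hk⟩ := hx
  exact IsPGroup.of_card (n := k) (by rw [Nat.card_zpowers, hk])

theorem REl.conj {x : G} (hx : REl r x) (g : G) : REl r (g * x * g⁻¹) := by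
  obtain ⟨k, hk⟩ := hx
  exact ⟨k, by rw [← hk]; exact (MulAut.conj g).orderOf_eq x⟩

/-- `x` commutes with a non-central `r'`-element of `N`. -/
def Good (N : Subgroup G) (r : ℕ) (x : G) : Prop :=
  ∃ w ∈ N, w ∉ center G ∧ (orderOf w).Coprime r ∧ Commute x w

theorem Good.of_le {N : Subgroup G} {x y : G} (hx : Good N r x) (h : cz x ≤ cz y) : Good N r y := by
  obtain ⟨w, h1, h2, h3, h4⟩ := hx
  refine ⟨w, h1, h2, h3, ?_⟩
  have h5 : w ∈ cz y := h (mem_cz.2 h4.symm.eq)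
  exact (show Commute w y from mem_cz.1 h5).symm

theorem Good.conj {N : Subgroup G} [hN : N.Normal] {x : G} (hx : Good N r x) (g : G) :
    Good N r (g * x * g⁻¹) := by
  obtain ⟨w, h1, h2, h3, h4⟩ := hx
  refine ⟨g * w * g⁻¹, hN.conj_mem w h1 g, fun h => h2 ?_, ?_, ?_⟩
  · have := conj_mem_center (g := g⁻¹) h
    have e : g⁻¹ * (g * w * g⁻¹) * g⁻¹⁻¹ = w := by group
    rwa [e] at this
  · have : orderOf (g * w * g⁻¹) = orderOf w := (MulAut.conj g).orderOf_eq w
    rw [this]; exact h3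
  · change g * x * g⁻¹ * (g * w * g⁻¹) = g * w * g⁻¹ * (g * x * g⁻¹)
    calc g * x * g⁻¹ * (g * w * g⁻¹) = g * (x * w) * g⁻¹ := by group
      _ = g * (w * x) * g⁻¹ := by rw [h4.eq]
      _ = _ := by group

variable {N : Subgroup G} {m : ℕ}

/-- The basic consequence of a good pair. -/
theorem good_pair (h : TwoG N m) {x : G} (hx : x ∈ N) (hxZ : x ∉ center G) (hxr : REl r x)
    {w : G} (hw : w ∈ N) (hwZ : w ∉ center G) (hwr : (orderOf w).Coprime r) (hc : Commute x w) :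
    cz x = cz w ∧ ∀ u ∈ N, u ∈ cz x → cz x ≤ cz u := by
  have hcop := hxr.coprime hwr
  have h1 : cz x = cz w := h.eq_of_le hx hxZ hw hwZ (h.le_of_coprime hx hxZ hw hc hcop)
  refine ⟨h1, fun u hu hux => ?_⟩
  obtain ⟨a, b, hab, -, ha, hb, haz, hbz⟩ := Cfsg.Agent.H524.ClassSize.exists_decomp r u
  have haN : a ∈ N := (zpowers_le.2 hu) haz
  have hbN : b ∈ N := (zpowers_le.2 hu) hbz
  have hax : a ∈ cz x := (zpowers_le.2 hux) haz
  have hbx : b ∈ cz x := (zpowers_le.2 hux) hbz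
  rw [← hab]
  refine le_cz_mul ?_ ?_
  · rw [h1] at hax ⊢
    exact h.le_of_coprime hw hwZ haN (mem_cz.1 hax).symm (REl.coprime ha hwr).symm
  · exact h.le_of_coprime hx hxZ hbN (mem_cz.1 hbx).symm (hxr.coprime hb)

theorem good_le (h : TwoG N m) {x : G} (hx : x ∈ N) (hxZ : x ∉ center G) (hxr : REl r x)
    (hxg : Good N r x) {u : G} (hu : u ∈ N) (hux : u ∈ cz x) : cz x ≤ cz u := by
  obtain ⟨w, h1, h2, h3, h4⟩ := hxg
  exact (good_pair h hx hxZ hxr h1 h2 h3 h4).2 u hu hux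

theorem good_eq (h : TwoG N m) {x : G} (hx : x ∈ N) (hxZ : x ∉ center G) (hxr : REl r x)
    (hxg : Good N r x) {u : G} (hu : u ∈ N) (huZ : u ∉ center G) (hux : u ∈ cz x) :
    cz u = cz x :=
  (h.eq_of_le hx hxZ hu huZ (good_le h hx hxZ hxr hxg hu hux)).symm

/-- No noncyclic action. -/
theorem exists_mem_good [hN : N.Normal] (h : TwoG N m) {x : G} (hx : x ∈ N) (hxZ : x ∉ center G)
    (hxr : REl r x) (hxg : Good N r x) {a b : G} (ha : a ∈ normalizer (cz x : Set G))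
    (hb : b ∈ normalizer (cz x : Set G)) (hap : a ^ r ∈ cz x) (hbp : b ^ r ∈ cz x)
    (hab : ⁅a, b⁆ ∈ cz x) (hbC : b ∉ cz x) : ∃ j : ℕ, a * b ^ j ∈ cz x := by
  by_contra hcon
  push Not at hcon
  obtain ⟨w, hwN, hwZ, hwr, hxw⟩ := hxg
  have hgp := (good_pair h hx hxZ hxr hwN hwZ hwr hxw).2
  have hC : ∀ u ∈ cz x ⊓ N, ∀ v ∈ cz x ⊓ N, u * v = v * u := fun u hu v hv =>
    mem_cz.1 (hgp v (mem_inf.1 hv).2 (mem_inf.1 hv).1 (mem_inf.1 hu).1)
  have hCle : ∀ g ∈ cz x, g ∈ centralizer (cz x ⊓ N : Subgroup G).carrier := fun g hg => by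
    rw [mem_centralizer_iff]
    intro u hu
    have hu' : u ∈ cz x ⊓ N := hu
    exact (mem_cz.1 (hgp u (mem_inf.1 hu').2 (mem_inf.1 hu').1 hg)).symm
  have hnorm : ∀ g ∈ normalizer (cz x : Set G), g ∈ normalizer ((cz x ⊓ N : Subgroup G) : Set G) := by
    intro g hg
    refine mem_normalizer_of (fun u hu => ?_) (fun u hu => ?_)
    · exact mem_inf.2 ⟨((mem_normalizer_iff.1 hg) u).1 (mem_inf.1 hu).1,
        hN.conj_mem u (mem_inf.1 hu).2 g⟩
    · have h1 := ((mem_normalizer_iff.1 (inv_mem hg)) u).1 (mem_inf.1 hu).1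
      have h2 := hN.conj_mem u (mem_inf.1 hu).2 g⁻¹
      rw [inv_inv] at h1 h2
      exact mem_inf.2 ⟨h1, h2⟩
  have hordconj : ∀ g w : G, orderOf (g * w * g⁻¹) = orderOf w := fun g w =>
    (MulAut.conj g).orderOf_eq w
  have hcent : ∀ v ∈ primeTo (cz x ⊓ N) hC r, v ∉ center G → cz v = cz x := by
    intro v hv hvZ
    have hv1 := mem_inf.1 hv.1
    exact (h.eq_of_le hx hxZ hv1.2 hvZ (hgp v hv1.2 hv1.1)).symm
  have key := ident (p := r) (cz x ⊓ N) hC (hnorm a ha) (hnorm b hb) (hCle _ hap) (hCle _ hbp)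
    (hCle _ hab) (primeTo (cz x ⊓ N) hC r) (center G) (fun w hw => hw.1)
    (fun w hw => by
      rw [mem_primeTo] at hw ⊢
      refine ⟨((mem_normalizer_iff.1 (hnorm a ha)) w).1 hw.1, ?_⟩
      rw [hordconj]; exact hw.2)
    (fun w hw => by
      rw [mem_primeTo] at hw ⊢
      refine ⟨((mem_normalizer_iff.1 (hnorm b hb)) w).1 hw.1, ?_⟩
      rw [hordconj]; exact hw.2)
    (fun w hw hbw => by
      by_contra hwZ
      apply hbC
      rw [← hcent w hw hwZ, mem_cz]
      exact hbw)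
    (fun j w hw hjw => by
      by_contra hwZ
      apply hcon j
      rw [← hcent w hw hwZ, mem_cz]
      exact hjw)
  have hwx : w ∈ cz x := mem_cz.2 hxw.symm.eq
  obtain ⟨k, hk⟩ := exists_pow_eq_self_of_coprime hwr.symm
  apply hwZ
  rw [← hk]
  exact pow_mem (key w ⟨mem_inf.2 ⟨hwx, hwN⟩, hwr⟩) k

/-- If `r ∣ m`, only central elements of `N` centralize a Sylow `r`-subgroup. -/
theorem mem_center_of_le (h : TwoG N m) (hrm : r ∣ m) (R : Sylow r G) {v : G} (hv : v ∈ N)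
    (hR : (R : Subgroup G) ≤ cz v) : v ∈ center G := by
  by_contra hvZ
  have h1 : (cz v).index ∣ (R : Subgroup G).index := Subgroup.index_dvd_of_le hR
  rw [h.index_eq hv hvZ] at h1
  exact R.not_dvd_index (hrm.trans h1)

theorem relIndex_cz_eq (h : TwoG N m) {x y : G} (hx : x ∈ N) (hxZ : x ∉ center G) (hy : y ∈ N)
    (hyZ : y ∉ center G) : (center G).relIndex (cz x) = (center G).relIndex (cz y) := by
  have h1 := h.card_eq hx hxZ hy hyZ
  have e1 := Subgroup.card_mul_index ((center G).subgroupOf (cz x))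
  have e2 := Subgroup.card_mul_index ((center G).subgroupOf (cz y))
  have e3 : ∀ z : G, Nat.card ((center G).subgroupOf (cz z)) = Nat.card (center G) :=
    fun z => Nat.card_congr (Subgroup.subgroupOfEquivOfLe (center_le_cz z)).toEquiv
  rw [e3] at e1 e2
  rw [h1, ← e2] at e1
  exact Nat.eq_of_mul_eq_mul_left Nat.card_pos e1

/-- `r`-elements lie in `N`. -/
theorem mem_of_rEl (hS : ∀ R : Sylow r G, (R : Subgroup G) ≤ N) {x : G} (hx : REl r x) : x ∈ N := by
  obtain ⟨R, hR⟩ := hx.zpowers.exists_le_sylow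
  exact hS R (hR (mem_zpowers x))

/-- If there is no good pair, the `r'`-elements of `N` are central. -/
theorem central_of_no_good (h : TwoG N m) (hS : ∀ R : Sylow r G, (R : Subgroup G) ≤ N)
    {z : G} (hz : REl r z) (hzZ : z ∉ center G)
    (hno : ∀ x ∈ N, x ∉ center G → REl r x → ¬ Good N r x) {w : G} (hw : w ∈ N)
    (hwr : (orderOf w).Coprime r) : w ∈ center G := by
  by_contra hwZ
  have hzN := mem_of_rEl hS hz
  have h1 : r ∣ (center G).relIndex (cz w) := by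
    rw [relIndex_cz_eq h hw hwZ hzN hzZ]
    obtain ⟨k, hk⟩ := hz
    exact dvd_relIndex_center hr.out (self_mem_cz z) hzZ hk
  obtain ⟨v, hv, hvZ, -, hvr⟩ := exists_of_dvd_relIndex_center hr.out h1
  exact hno v (mem_of_rEl hS hvr) hvZ hvr ⟨w, hw, hwZ, hwr, mem_cz.1 hv⟩

theorem isNilpotent_of_central [hN : N.Normal]
    (hc : ∀ w ∈ N, (orderOf w).Coprime r → w ∈ center G) : Group.IsNilpotent N := by
  have h1 : IsPGroup r (N ⧸ center N) := by
    intro q
    obtain ⟨v, rfl⟩ := QuotientGroup.mk_surjective q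
    obtain ⟨a, b, hab, -, ⟨k, hk⟩, hb, haz, hbz⟩ := Cfsg.Agent.H524.ClassSize.exists_decomp r v
    refine ⟨k, ?_⟩
    have hbZ : b ∈ center N := by
      rw [mem_center_iff]
      intro g
      apply Subtype.ext
      have h2 := hc b b.2 (by rw [Subgroup.orderOf_coe]; exact hb)
      exact mem_center_iff.1 h2 g
    have h2 : (v : N ⧸ center N) = a := by
      rw [← hab, QuotientGroup.mk_mul, (QuotientGroup.eq_one_iff b).2 hbZ, mul_one]
    rw [h2, ← QuotientGroup.mk_pow, ← hk, pow_orderOf_eq_one]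
    rfl
  have h2 : Group.IsNilpotent (N ⧸ center N) := h1.isNilpotent
  exact Group.of_quotient_center_nilpotent h2

/-- The case `r ∤ m`. -/
theorem comm_of_not_dvd [hN : N.Normal] (h : TwoG N m) (hrm : ¬ r ∣ m)
    (hS : ∀ R : Sylow r G, (R : Subgroup G) ≤ N) {x0 : G} (hx0 : x0 ∈ N) (hx0Z : x0 ∉ center G)
    (hx0r : REl r x0) (hx0g : Good N r x0) : ∀ u ∈ N, ∀ v ∈ N, u * v = v * u := by
  obtain ⟨R, hR0⟩ := hx0r.zpowers.exists_le_sylow
  have hx0R : x0 ∈ (R : Subgroup G) := hR0 (mem_zpowers x0)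
  -- `R` centralizes `N`
  have htop : (centralizer ((R : Subgroup G) : Set G)).subgroupOf N = ⊤ := by
    by_contra hne
    obtain ⟨v, hv⟩ := Cfsg.Agent.H395.Jordan.exists_not_conj_mem hne
    have hvZ : (v : G) ∉ center G := by
      intro hvZ
      apply hv 1
      rw [inv_one, one_mul, mul_one, mem_subgroupOf, mem_centralizer_iff]
      intro g _
      exact mem_center_iff.1 hvZ g
    have h1 : ¬ r ∣ (cz (v : G)).index := by
      rw [h.index_eq v.2 hvZ]; exact hrm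
    obtain ⟨P, -, hP⟩ := Cfsg.Agent.H524.ClassSize.exists_sylow_between (A := ⊥) h1
      IsPGroup.of_bot bot_le
    obtain ⟨n, hn, hnP⟩ := exists_smul (hS R) (hS P)
    apply hv ⟨n, hn⟩
    rw [mem_subgroupOf, mem_centralizer_iff]
    intro g hg
    have h2 : n * g * n⁻¹ ∈ (P : Subgroup G) := by
      rw [← hnP, mem_smul]
      have e : n⁻¹ * (n * g * n⁻¹) * n = g := by group
      rw [e]; exact hg
    have h3 := mem_cz.1 (hP h2)
    change g * (n⁻¹ * v * n) = (n⁻¹ * v * n) * g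
    calc g * (n⁻¹ * v * n) = n⁻¹ * (n * g * n⁻¹ * v) * n := by group
      _ = n⁻¹ * (v * (n * g * n⁻¹)) * n := by rw [h3]
      _ = _ := by group
  have hNR : ∀ v ∈ N, ∀ g ∈ (R : Subgroup G), g * v = v * g := by
    intro v hv g hg
    have h1 : (⟨v, hv⟩ : N) ∈ (centralizer ((R : Subgroup G) : Set G)).subgroupOf N := by
      rw [htop]; exact mem_top _
    rw [mem_subgroupOf, mem_centralizer_iff] at h1
    exact h1 g hg
  have hNx : N ≤ cz x0 := fun v hv => mem_cz.2 (hNR v hv x0 hx0R).symm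
  obtain ⟨w, hw, hwZ, hwr, hc⟩ := hx0g
  have hgp := good_pair h hx0 hx0Z hx0r hw hwZ hwr hc
  intro u hu v hv
  exact (mem_cz.1 ((hgp.2 v hv (hNx hv)) (hNx hu)))

end Cfsg.Agent.H683.TwoNormal
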