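import Mathlib
import Cfsg.Agent.H683.TwoNormal

/-!
# Normal subgroups with two `G`-class sizes, containing a Sylow subgroup: the square case
-/

set_option autoImplicit false
set_option linter.unusedSectionVars false

namespace Cfsg.Agent.H683.TwoNormal

open Subgroup Cfsg.Agent.H683.TwoSize
open scoped commutatorElement Pointwise

variable {G : Type*} [Group G] [Finite G] {r : ℕ} [hr : Fact r.Prime]

theorem relIndex_center_dvd {A B : Subgroup G} (h : A ≤ B) :
    (center G).relIndex A ∣ (center G).relIndex B := by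
  have h1 := relIndex_ker A (QuotientGroup.mk' (center G))
  have h2 := relIndex_ker B (QuotientGroup.mk' (center G))
  rw [QuotientGroup.ker_mk'] at h1 h2
  rw [h1, h2]
  exact card_dvd_of_le (map_mono h)

theorem relIndex_center_pow {A : Subgroup G} (h : IsPGroup r A) :
    ∃ k, (center G).relIndex A = r ^ k := by
  have h1 := relIndex_ker A (QuotientGroup.mk' (center G))
  rw [QuotientGroup.ker_mk'] at h1
  rw [h1]
  exact IsPGroup.iff_card.1 (h.map _)

theorem dvd_prime_of_pow {a k : ℕ} (h : a = r ^ k) (h2 : ¬ r * r ∣ a) : a ∣ r := by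
  rcases Nat.lt_or_ge k 2 with hk | hk
  · rw [h]
    calc r ^ k ∣ r ^ 1 := pow_dvd_pow r (by omega)
      _ = r := pow_one r
  · exfalso
    apply h2
    rw [h, ← pow_two]
    exact pow_dvd_pow r hk

/-- Fixed points modulo the center. -/
theorem exists_fixed {P K : Subgroup G} (hP : IsPGroup r P) (hK : IsPGroup r K)
    (hPK : P ≤ normalizer (K : Set G)) (hKZ : ¬ K ≤ center G) :
    ∃ u ∈ K, u ∉ center G ∧ ∀ t ∈ P, ⁅t, u⁆ ∈ center G := by
  let π := QuotientGroup.mk' (center G)
  have hmem : ∀ t ∈ P, π t ∈ normalizer ((K.map π : Subgroup (G ⧸ center G)) :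
      Set (G ⧸ center G)) := by
    have key : ∀ g ∈ P, ∀ x ∈ K.map π, π g * x * (π g)⁻¹ ∈ K.map π := by
      rintro g hg _ ⟨v, hv, rfl⟩
      refine ⟨g * v * g⁻¹, ((mem_normalizer_iff.1 (hPK hg)) v).1 hv, ?_⟩
      rw [map_mul, map_mul, map_inv]
    intro t ht
    refine mem_normalizer_of (key t ht) fun x hx => ?_
    have := key t⁻¹ (inv_mem ht) x hx
    rwa [map_inv, inv_inv] at this
  let ψ : P →* MulAut (K.map π) :=
    ((K.map π).normalizerMonoidHom).comp
      ((π.comp P.subtype).codRestrict _ (fun t => hmem t t.2))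
  have hψ : ∀ (t : P) (x : K.map π), ((ψ t x : K.map π) : G ⧸ center G) = π t * x * (π t)⁻¹ :=
    fun t x => rfl
  letI : MulAction P (K.map π) := MulAction.compHom _ ψ
  have hsmul : ∀ (t : P) (x : K.map π), t • x = ψ t x := fun t x => rfl
  have hcard : r ∣ Nat.card (K.map π) := by
    obtain ⟨j, hj⟩ := IsPGroup.iff_card.1 (hK.map π)
    have hj0 : j ≠ 0 := by
      rintro rfl
      apply hKZ
      rw [pow_zero] at hj
      intro v hv
      have h1 := (Subgroup.card_eq_one.1 hj) ▸ mem_map_of_mem π hv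
      rw [mem_bot] at h1
      exact (QuotientGroup.eq_one_iff v).1 h1
    rw [hj]
    exact dvd_pow_self r hj0
  obtain ⟨b, hb, hb1⟩ := hP.exists_fixed_point_of_prime_dvd_card_of_fixed_point (K.map π) hcard
    (a := 1) (by
      intro t
      rw [hsmul, map_one])
  obtain ⟨_, u, hu, rfl⟩ := b
  refine ⟨u, hu, ?_, ?_⟩
  · intro huZ
    apply hb1
    apply Subtype.ext
    exact ((QuotientGroup.eq_one_iff u).2 huZ).symm
  · intro t ht
    have h1 := congrArg Subtype.val (hb ⟨t, ht⟩)
    rw [hsmul, hψ] at h1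
    have h2 : π ⁅t, u⁆ = 1 := by
      rw [map_commutatorElement, commutatorElement_def]
      have h3 : π t * π u * (π t)⁻¹ = π u := h1
      rw [h3, mul_inv_cancel]
    exact (QuotientGroup.eq_one_iff _).1 h2

/-- A Sylow subgroup meeting `C` in a Sylow subgroup of `C`. -/
theorem exists_sylow_inf {C T0 : Subgroup G} (hT : IsPGroup r T0) (hTC : T0 ≤ C) :
    ∃ R : Sylow r G, T0 ≤ (R : Subgroup G) ∧ ¬ r ∣ (R : Subgroup G).relIndex C := by
  have hA' : IsPGroup r (T0.subgroupOf C) := hT.comap_of_injective C.subtype C.subtype_injective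
  obtain ⟨S, hS⟩ := hA'.exists_le_sylow
  obtain ⟨R, hR⟩ := (S.isPGroup'.map C.subtype).exists_le_sylow
  refine ⟨R, ?_, ?_⟩
  · intro t ht
    exact hR ⟨⟨t, hTC ht⟩, hS ht, rfl⟩
  · have h1 : ((R : Subgroup G).subgroupOf C) = S :=
      S.is_maximal' (R.isPGroup'.comap_of_injective C.subtype C.subtype_injective)
        (fun x hx => hR ⟨x, hx, rfl⟩)
    rw [relIndex, h1]
    exact S.not_dvd_index

theorem relIndex_mul_comm (A B : Subgroup G) :
    A.relIndex B * B.index = B.relIndex A * A.index := by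
  rw [← inf_relIndex_right A B, ← inf_relIndex_left A B, relIndex_mul_index inf_le_right,
    relIndex_mul_index inf_le_left]

theorem relIndex_sylow_pow (R : Sylow r G) (C : Subgroup G) :
    ∃ k, C.relIndex (R : Subgroup G) = r ^ k := by
  obtain ⟨j, hj⟩ := IsPGroup.iff_card.1 R.isPGroup'
  have h1 : C.relIndex (R : Subgroup G) ∣ r ^ j := by
    rw [← hj]; exact relIndex_dvd_card _ _
  obtain ⟨k, -, hk⟩ := (Nat.dvd_prime_pow hr.out).1 h1
  exact ⟨k, hk⟩

theorem relIndex_dvd_of_not_sq {C : Subgroup G} {R : Sylow r G}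
    (h1 : ¬ r ∣ (R : Subgroup G).relIndex C) (h2 : ¬ r * r ∣ C.index) :
    C.relIndex (R : Subgroup G) ∣ r := by
  obtain ⟨k, hk⟩ := relIndex_sylow_pow R C
  refine dvd_prime_of_pow hk fun h3 => h2 ?_
  have h4 : r * r ∣ (R : Subgroup G).relIndex C * C.index := by
    rw [relIndex_mul_comm]
    exact h3.mul_right _
  have h5 : Nat.Coprime (r * r) ((R : Subgroup G).relIndex C) := by
    have := (Nat.Prime.coprime_iff_not_dvd hr.out).2 h1
    exact Nat.Coprime.mul_left this this
  exact h5.dvd_of_dvd_mul_left h4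

theorem relIndex_center_inf {C : Subgroup G} (hC : center G ≤ C) (R : Subgroup G) :
    (center G).relIndex C ∣ (center G).relIndex (R ⊓ C) * R.relIndex C := by
  have h1 := relIndex_mul_relIndex (center G) ((R ⊓ C) ⊔ center G) C le_sup_right
    (sup_le inf_le_right hC)
  rw [relIndex_sup_right] at h1
  rw [← h1]
  refine mul_dvd_mul_left _ ?_
  rw [← inf_relIndex_right R C]
  exact relIndex_dvd_of_le_left _ le_sup_left

theorem sq_dvd_relIndex_center {C : Subgroup G} (hC : center G ≤ C) {R : Sylow r G}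
    (h1 : ¬ r ∣ (R : Subgroup G).relIndex C) (h2 : r * r ∣ (center G).relIndex C) :
    r * r ∣ (center G).relIndex ((R : Subgroup G) ⊓ C) := by
  have h5 : Nat.Coprime (r * r) ((R : Subgroup G).relIndex C) := by
    have := (Nat.Prime.coprime_iff_not_dvd hr.out).2 h1
    exact Nat.Coprime.mul_left this this
  exact h5.dvd_of_dvd_mul_right (h2.trans (relIndex_center_inf hC _))

variable {N : Subgroup G} {m : ℕ}

/-- A good element which is central modulo the center in a Sylow subgroup. -/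
theorem relIndex_cz_dvd [hN : N.Normal] (h : TwoG N m) (hrm : r ∣ m)
    (hS : ∀ R : Sylow r G, (R : Subgroup G) ≤ N) {R : Sylow r G} {y : G}
    (hyR : y ∈ (R : Subgroup G)) (hyZ : y ∉ center G) (hyr : y ^ r ∈ center G)
    (hyc : ∀ g ∈ (R : Subgroup G), ⁅g, y⁆ ∈ center G) (hyg : Good N r y) :
    (cz y).relIndex (R : Subgroup G) ∣ r := by
  have hyN := hS R hyR
  have hyo : REl r y := REl.of_mem R.isPGroup' hyR
  obtain ⟨g, hgR, hgC⟩ : ∃ g ∈ (R : Subgroup G), g ∉ cz y := by
    by_contra hcon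
    push Not at hcon
    exact hyZ (mem_center_of_le h hrm R hyN hcon)
  obtain ⟨θ, hθ⟩ := exists_theta hyc
  have hker : θ.ker = (cz y).subgroupOf (R : Subgroup G) := by
    ext u
    rw [MonoidHom.mem_ker, mem_subgroupOf, mem_cz, ← commutatorElement_eq_one_iff_mul_comm,
      ← hθ]
    exact Subtype.ext_iff
  have hkmem : ∀ u : (R : Subgroup G), θ u = 1 → (u : G) ∈ cz y := by
    intro u hu
    have h1 : u ∈ θ.ker := hu
    rw [hker, mem_subgroupOf] at h1
    exact h1
  have hpow : ∀ u ∈ (R : Subgroup G), u ^ r ∈ cz y := by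
    intro u hu
    refine hkmem ((⟨u, hu⟩ : (R : Subgroup G)) ^ r) ?_
    rw [map_pow]
    apply Subtype.ext
    rw [SubmonoidClass.coe_pow, hθ]
    exact theta_pow (hyc u hu) hyr
  have hcomm : ∀ u (hu : u ∈ (R : Subgroup G)), ⁅u, g⁆ ∈ cz y := by
    intro u hu
    refine hkmem ⁅(⟨u, hu⟩ : (R : Subgroup G)), (⟨g, hgR⟩ : (R : Subgroup G))⁆ ?_
    rw [map_commutatorElement, commutatorElement_eq_one_iff_mul_comm]
    exact Subtype.ext (mem_center_iff.1 (θ ⟨g, hgR⟩).2 _)
  have hrange : θ.range = zpowers (θ ⟨g, hgR⟩) := by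
    apply le_antisymm
    · rintro _ ⟨u, rfl⟩
      obtain ⟨j, hj⟩ := exists_mem_good h hyN hyZ hyo hyg (mem_normalizer_cz (hyc u u.2))
        (mem_normalizer_cz (hyc g hgR)) (hpow u u.2) (hpow g hgR) (hcomm u u.2) hgC
      have h1 : u * ⟨g, hgR⟩ ^ j ∈ θ.ker := by
        rw [hker, mem_subgroupOf]
        exact hj
      rw [MonoidHom.mem_ker, map_mul, map_pow] at h1
      rw [eq_inv_of_mul_eq_one_left h1]
      exact inv_mem (pow_mem (mem_zpowers _) j)
    · rw [zpowers_le]
      exact ⟨_, rfl⟩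
  have hcard : Nat.card θ.range ∣ r := by
    rw [hrange, Nat.card_zpowers]
    apply orderOf_dvd_of_pow_eq_one
    apply Subtype.ext
    rw [SubmonoidClass.coe_pow, hθ]
    exact theta_pow (hyc g hgR) hyr
  rw [← Subgroup.index_ker, hker] at hcard
  exact hcard

theorem not_dvd_of_relIndex (h : TwoG N m) {R : Sylow r G} {y : G} (hyN : y ∈ N)
    (hyZ : y ∉ center G) (h1 : (cz y).relIndex (R : Subgroup G) ∣ r) :
    ¬ r * r ∣ (R : Subgroup G).relIndex (cz y) * m := by
  intro h2
  rw [← h.index_eq hyN hyZ, relIndex_mul_comm] at h2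
  have h3 : r * r ∣ r * (R : Subgroup G).index := h2.trans (mul_dvd_mul_right h1 _)
  exact R.not_dvd_index (Nat.dvd_of_mul_dvd_mul_left hr.out.pos h3)

theorem exists_share {R : Sylow r G} {y v : G} (h1 : (cz y).relIndex (R : Subgroup G) ∣ r)
    (h2 : (cz v).relIndex (R : Subgroup G) ∣ r) (h3 : r * r < (center G).relIndex (R : Subgroup G)) :
    ∃ u ∈ (R : Subgroup G), u ∉ center G ∧ u ∈ cz y ∧ u ∈ cz v := by
  by_contra hcon
  push Not at hcon
  have h4 : (cz y ⊓ cz v) ⊓ (R : Subgroup G) ≤ center G := by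
    rintro u ⟨⟨hu1, hu2⟩, hu3⟩
    by_contra huZ
    exact hcon u hu3 huZ hu1 hu2
  have h5 := relIndex_dvd_of_le_left (R : Subgroup G) h4
  rw [inf_relIndex_right] at h5
  have h6 : (center G).relIndex (R : Subgroup G) ≤ (cz y ⊓ cz v).relIndex (R : Subgroup G) :=
    Nat.le_of_dvd (Nat.pos_of_ne_zero (relIndex_ne_zero _ _)) h5
  have h7 : (cz y ⊓ cz v).relIndex (R : Subgroup G) ≤
      (cz y).relIndex (R : Subgroup G) * (cz v).relIndex (R : Subgroup G) := relIndex_inf_le
  have h8 := Nat.le_of_dvd hr.out.pos h1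
  have h9 := Nat.le_of_dvd hr.out.pos h2
  have h10 := Nat.mul_le_mul h8 h9
  omega

theorem center_relIndex_mul {R C : Subgroup G} (hC : center G ≤ C) :
    (center G).relIndex (R ⊓ C) * C.relIndex R = (center G).relIndex R := by
  have := relIndex_inf_mul_relIndex (H := center G) (K := C) (L := R)
  rwa [inf_eq_left.2 hC, inf_comm] at this

/-- No good element which is central modulo the center. -/
theorem no_good_central [hN : N.Normal] (h : TwoG N m) (hrm : r ∣ m)
    (hS : ∀ R : Sylow r G, (R : Subgroup G) ≤ N)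
    (hc0 : ∀ v ∈ N, v ∉ center G → r * r ∣ (center G).relIndex (cz v)) {R : Sylow r G} {y : G}
    (hyR : y ∈ (R : Subgroup G)) (hyZ : y ∉ center G) (hyr : y ^ r ∈ center G)
    (hyc : ∀ g ∈ (R : Subgroup G), ⁅g, y⁆ ∈ center G) (hyg : Good N r y) : False := by
  have hyN := hS R hyR
  have hyo : REl r y := REl.of_mem R.isPGroup' hyR
  have h1 := relIndex_cz_dvd h hrm hS hyR hyZ hyr hyc hyg
  have hnd := not_dvd_of_relIndex h hyN hyZ h1
  have hm : ¬ r * r ∣ m := fun h2 => hnd (h2.mul_left _)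
  have hRy : ¬ r ∣ (R : Subgroup G).relIndex (cz y) := fun h2 => hnd (mul_dvd_mul h2 hrm)
  have h3 := sq_dvd_relIndex_center (center_le_cz y) hRy (hc0 y hyN hyZ)
  have h4 : r * r < (center G).relIndex (R : Subgroup G) := by
    have h5 : (cz y).relIndex (R : Subgroup G) = r := by
      rcases (Nat.dvd_prime hr.out).1 h1 with h5 | h5
      · exfalso
        exact hyZ (mem_center_of_le h hrm R hyN (relIndex_eq_one.1 h5))
      · exact h5
    have h6 := center_relIndex_mul (R := (R : Subgroup G)) (center_le_cz y)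
    rw [h5] at h6
    have h7 : r * r ≤ (center G).relIndex ((R : Subgroup G) ⊓ cz y) :=
      Nat.le_of_dvd (Nat.pos_of_ne_zero (relIndex_ne_zero _ _)) h3
    have h8 := hr.out.one_lt
    have h9 := hr.out.pos
    rw [← h6]
    nlinarith
  have hne : (cz y).subgroupOf N ≠ ⊤ := by
    intro h5
    exact hyZ (mem_center_of_le h hrm R hyN ((hS R).trans (subgroupOf_eq_top.1 h5)))
  obtain ⟨v, hv⟩ := Cfsg.Agent.H395.Jordan.exists_not_conj_mem hne
  have hvZ : (v : G) ∉ center G := by
    intro hvZ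
    apply hv 1
    rw [inv_one, one_mul, mul_one, mem_subgroupOf]
    exact center_le_cz y hvZ
  obtain ⟨R', -, hR'⟩ := exists_sylow_inf (C := cz (v : G)) (T0 := ⊥) (r := r) IsPGroup.of_bot bot_le
  have h5 := relIndex_dvd_of_not_sq hR' (by rw [h.index_eq v.2 hvZ]; exact hm)
  obtain ⟨n, hn, hnP⟩ := exists_smul (hS R) (hS R')
  have e : (v : G) = n * (n⁻¹ * v * n) * n⁻¹ := by group
  have h6 : (cz (n⁻¹ * v * n)).relIndex (R : Subgroup G) ∣ r := by
    rw [e, cz_conj, ← hnP, Sylow.coe_subgroup_smul, relIndex_pointwise_smul] at h5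
    exact h5
  obtain ⟨u, huR, huZ, huy, huv⟩ := exists_share h1 h6 h4
  have h7 := good_eq h hyN hyZ hyo hyg (hS R huR) huZ huy
  apply hv ⟨n, hn⟩
  rw [mem_subgroupOf, ← h7]
  exact mem_cz.2 (mem_cz.1 huv).symm

end Cfsg.Agent.H683.TwoNormal
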