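import Mathlib
import Cfsg.Agent.H683.TwoNormalC
import Cfsg.Agent.S4134

/-!
# Normal subgroups with two `G`-class sizes, containing a Sylow subgroup: conclusion
-/

set_option autoImplicit false
set_option linter.unusedSectionVars false

namespace Cfsg.Agent.H683.TwoNormal

open Subgroup Cfsg.Agent.H683.TwoSize
open scoped commutatorElement Pointwise

variable {G : Type*} [Group G] [Finite G] {r : ℕ} [hr : Fact r.Prime] {N : Subgroup G} {m : ℕ}

theorem card_map_mk (T : Subgroup G) :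
    Nat.card (T.map (QuotientGroup.mk' (center G))) = (center G).relIndex T := by
  have h1 := relIndex_ker T (QuotientGroup.mk' (center G))
  rw [QuotientGroup.ker_mk'] at h1
  exact h1.symm

theorem mem_sup_of_relIndex {T : Subgroup G} (hT : (center G).relIndex T ∣ r) {y : G}
    (hyT : y ∈ T) (hyZ : y ∉ center G) {c : G} (hc : c ∈ T) :
    ∃ (j : ℤ) (z : G), z ∈ center G ∧ c = y ^ j * z := by
  let π := QuotientGroup.mk' (center G)
  have h1 : Nat.card (T.map π) = r := by
    rw [card_map_mk]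
    rcases (Nat.dvd_prime hr.out).1 hT with h1 | h1
    · exact absurd (relIndex_eq_one.1 h1 hyT) hyZ
    · exact h1
  have hy1 : (⟨π y, mem_map_of_mem π hyT⟩ : T.map π) ≠ 1 := by
    intro h2
    exact hyZ ((QuotientGroup.eq_one_iff y).1 (congrArg Subtype.val h2))
  obtain ⟨j, hj⟩ := mem_zpowers_of_prime_card h1 hy1 (g' := ⟨π c, mem_map_of_mem π hc⟩)
  have hj' : π y ^ j = π c := congrArg Subtype.val hj
  refine ⟨j, (y ^ j)⁻¹ * c, ?_, by group⟩
  rw [← QuotientGroup.eq_one_iff]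
  change π ((y ^ j)⁻¹ * c) = 1
  rw [map_mul, map_inv, map_zpow, hj', inv_mul_cancel]

theorem cz_le_sup [hN : N.Normal] (hS : ∀ R : Sylow r G, (R : Subgroup G) ≤ N)
    {R : Sylow r G} {y : G} (hsq : (center G).relIndex ((R : Subgroup G) ⊓ cz y) ∣ r)
    (hyR : y ∈ (R : Subgroup G)) (hyZ : y ∉ center G) (hyr : y ^ r ∈ center G)
    (hyc : ∀ g ∈ (R : Subgroup G), ⁅g, y⁆ ∈ center G) {v : G} (hv : v ∈ (R : Subgroup G)) :
    cz y ≤ N ⊔ cz v := by
  intro g hg
  let π := QuotientGroup.mk' (center G)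
  let M : Subgroup G := (cz (π y)).comap π
  have hM : ∀ g, g ∈ M ↔ ⁅g, y⁆ ∈ center G := by
    intro g
    have h0 : π ⁅g, y⁆ = 1 ↔ ⁅g, y⁆ ∈ center G := QuotientGroup.eq_one_iff _
    rw [← h0]
    change π g ∈ cz (π y) ↔ π ⁅g, y⁆ = 1
    rw [mem_cz, map_commutatorElement, commutatorElement_eq_one_iff_mul_comm]
  have hgM : g ∈ M := by
    rw [hM, commutatorElement_eq_one_iff_mul_comm.2 (mem_cz.1 hg)]
    exact one_mem _
  have hRM : (R : Subgroup G) ≤ M := fun t ht => (hM t).2 (hyc t ht)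
  have h1 : ((g • R : Sylow r G) : Subgroup G) ≤ N ⊓ M := by
    refine le_inf (hS _) fun t ht => ?_
    rw [mem_smul] at ht
    have h2 := mul_mem (mul_mem hgM (hRM ht)) (inv_mem hgM)
    have e : g * (g⁻¹ * t * g) * g⁻¹ = t := by group
    rwa [e] at h2
  obtain ⟨k, hk, hkR⟩ := exists_smul h1 (le_inf (hS R) hRM)
  rw [← mul_smul, Sylow.smul_eq_iff_mem_normalizer] at hkR
  have hkM : k * g ∈ M := mul_mem (mem_inf.1 hk).2 hgM
  obtain ⟨a, b, hab, -, ha, hb, haz, hbz⟩ := Cfsg.Agent.H524.ClassSize.exists_decomp r (k * g)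
  have haN : a ∈ N := mem_of_rEl hS ha
  have hbR : b ∈ normalizer (R : Set G) := (zpowers_le.2 hkR) hbz
  have hbM : b ∈ M := (zpowers_le.2 hkM) hbz
  have hby : b * y = y * b := by
    have h2 := (hM b).1 hbM
    have h3 := theta_pow h2 hyr
    have h4 := theta_pow' (k := orderOf b) h2 (by rw [pow_orderOf_eq_one]; exact one_mem _)
    have h5 : ⁅b, y⁆ = 1 := by
      rw [← orderOf_eq_one_iff]
      exact Nat.eq_one_of_dvd_coprimes hb (orderOf_dvd_of_pow_eq_one h4)
        (orderOf_dvd_of_pow_eq_one h3)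
    exact commutatorElement_eq_one_iff_mul_comm.1 h5
  obtain ⟨θ, hθ⟩ := exists_theta (R := M) (fun g hg => (hM g).1 hg)
  have hcomm : ∀ t ∈ (R : Subgroup G), b * t = t * b := by
    intro t ht
    obtain ⟨c, hc⟩ : ∃ c, c = b * t * b⁻¹ * t⁻¹ := ⟨_, rfl⟩
    have hcR : c ∈ (R : Subgroup G) := by
      rw [hc]
      exact mul_mem (((mem_normalizer_iff.1 hbR) t).1 ht) (inv_mem ht)
    have hcy : c ∈ cz y := by
      have h2 : θ ⁅(⟨b, hbM⟩ : M), (⟨t, hRM ht⟩ : M)⁆ = 1 := by
        rw [map_commutatorElement, commutatorElement_eq_one_iff_mul_comm]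
        exact Subtype.ext (mem_center_iff.1 (θ ⟨t, hRM ht⟩).2 _)
      have h3 := hθ ⁅(⟨b, hbM⟩ : M), (⟨t, hRM ht⟩ : M)⁆
      rw [h2, OneMemClass.coe_one] at h3
      have h4 : ((⁅(⟨b, hbM⟩ : M), (⟨t, hRM ht⟩ : M)⁆ : M) : G) = c := by
        rw [hc]; rfl
      rw [h4] at h3
      rw [mem_cz]
      exact commutatorElement_eq_one_iff_mul_comm.1 h3.symm
    obtain ⟨j, z, hz, hcj⟩ := mem_sup_of_relIndex hsq (mem_inf.2 ⟨hyR, self_mem_cz y⟩) hyZ
      (mem_inf.2 ⟨hcR, hcy⟩)
    have hbc : Commute b c := by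
      rw [hcj]
      exact ((show Commute b y from hby).zpow_right j).mul_right (mem_center_iff.1 hz b)
    have hbt : b * t = c * t * b := by rw [hc]; group
    have key : ∀ i : ℕ, b ^ i * t = c ^ i * t * b ^ i := by
      intro i
      induction i with
      | zero => simp only [pow_zero, one_mul, mul_one]
      | succ i ih =>
        have h5 : b * c ^ i = c ^ i * b := (hbc.pow_right i).eq
        calc b ^ (i + 1) * t = b * (b ^ i * t) := by rw [pow_succ', mul_assoc]
          _ = b * c ^ i * (t * b ^ i) := by rw [ih]; simp only [mul_assoc]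
          _ = c ^ i * (b * t) * b ^ i := by rw [h5]; simp only [mul_assoc]
          _ = c ^ i * (c * t * b) * b ^ i := by rw [hbt]
          _ = (c ^ i * c) * t * (b * b ^ i) := by simp only [mul_assoc]
          _ = _ := by rw [← pow_succ, ← pow_succ']
    have h6 := key (orderOf b)
    rw [pow_orderOf_eq_one, one_mul, mul_one] at h6
    have h7 : c ^ orderOf b = 1 := (mul_eq_right.1 h6.symm)
    obtain ⟨l, hl⟩ := REl.of_mem R.isPGroup' hcR
    have h8 : c = 1 := by
      rw [← orderOf_eq_one_iff]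
      refine Nat.eq_one_of_dvd_coprimes (Nat.Coprime.pow_right l hb)
        (orderOf_dvd_of_pow_eq_one h7) (by rw [hl])
    rw [hbt, h8, one_mul]
  have e : g = (k⁻¹ * a) * b := by rw [mul_assoc, hab]; group
  rw [e]
  exact mul_mem (mem_sup_left (mul_mem (inv_mem (mem_inf.1 hk).1) haN))
    (mem_sup_right (mem_cz.2 (hcomm v hv)))

theorem relIndex_le [hN : N.Normal] (h : TwoG N m) {y v : G} (hyN : y ∈ N) (hyZ : y ∉ center G)
    (hvN : v ∈ N) (hvZ : v ∉ center G) (hle : cz y ≤ N ⊔ cz v) :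
    (cz y).relIndex N ≤ (cz v).relIndex N := by
  have h1 := relIndex_mul_comm (cz y) N
  have h2 := relIndex_mul_comm (cz v) N
  rw [h.index_eq hyN hyZ] at h1
  rw [h.index_eq hvN hvZ] at h2
  have h3 : N.relIndex (cz y) ≤ N.relIndex (cz v) := by
    rw [← relIndex_sup_left (cz v) N]
    exact relIndex_le_of_le_right hle (relIndex_ne_zero _ _)
  have h4 : (cz y).relIndex N * N.index ≤ (cz v).relIndex N * N.index := by
    rw [h1, h2]
    exact Nat.mul_le_mul_right m h3
  exact Nat.le_of_mul_le_mul_right h4 (Nat.pos_of_ne_zero index_ne_zero_of_finite)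

theorem relIndex_dvd_of_isPGroup {T : Subgroup G} (hT : IsPGroup r T) {x : G}
    (hsq : ¬ r * r ∣ (center G).relIndex (cz x)) (hTx : T ≤ cz x) :
    (center G).relIndex T ∣ r := by
  obtain ⟨k, hk⟩ := relIndex_center_pow hT
  exact dvd_prime_of_pow hk fun h1 => hsq (h1.trans (relIndex_center_dvd hTx))

/-- The central elements modulo the center are good. -/
theorem good_of_central [hN : N.Normal] (h : TwoG N m)
    (hS : ∀ R : Sylow r G, (R : Subgroup G) ≤ N)
    (hsq : ∀ v ∈ N, v ∉ center G → ¬ r * r ∣ (center G).relIndex (cz v)) {R : Sylow r G}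
    {x y : G} (hxR : x ∈ (R : Subgroup G)) (hxZ : x ∉ center G) (hxg : Good N r x)
    (hyR : y ∈ (R : Subgroup G)) (hyZ : y ∉ center G) (hyr : y ^ r ∈ center G)
    (hyc : ∀ g ∈ (R : Subgroup G), ⁅g, y⁆ ∈ center G) : Good N r y := by
  have hxN := hS R hxR
  have hyN := hS R hyR
  by_contra hyb
  have h1 : (center G).relIndex (N ⊓ cz y) ∣ r := by
    have h2 : IsPGroup r ((N ⊓ cz y).map (QuotientGroup.mk' (center G))) := by
      rintro ⟨_, u, hu, rfl⟩
      obtain ⟨hu1, hu2⟩ := hu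
      obtain ⟨a, b, hab, -, ⟨k, hk⟩, hb, haz, hbz⟩ :=
        Cfsg.Agent.H524.ClassSize.exists_decomp r u
      have hbZ : b ∈ center G := by
        by_contra hbZ
        have hb2 : b ∈ cz y := (zpowers_le.2 hu2) hbz
        exact hyb ⟨b, (zpowers_le.2 hu1) hbz, hbZ, hb, (mem_cz.1 hb2).symm⟩
      refine ⟨k, Subtype.ext ?_⟩
      change (QuotientGroup.mk' (center G) u) ^ r ^ k = 1
      rw [← map_pow]
      have hc : Commute a b := mem_center_iff.1 hbZ a
      rw [← hab, hc.mul_pow, ← hk, pow_orderOf_eq_one, one_mul]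
      exact (QuotientGroup.eq_one_iff _).2 (pow_mem hbZ _)
    obtain ⟨k, hk⟩ := IsPGroup.iff_card.1 h2
    rw [card_map_mk] at hk
    exact dvd_prime_of_pow hk fun h3 =>
      hsq y hyN hyZ (h3.trans (relIndex_center_dvd inf_le_right))
  have h2 : r < (center G).relIndex (N ⊓ cz x) := by
    obtain ⟨k, hk⟩ := REl.of_mem R.isPGroup' hxR
    have h3 : r ∣ (center G).relIndex (N ⊓ cz x) :=
      dvd_relIndex_center hr.out (mem_inf.2 ⟨hxN, self_mem_cz x⟩) hxZ hk
    obtain ⟨w, hw, hwZ, hwr, hc⟩ := hxg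
    obtain ⟨q, w', hq, ⟨l, hl⟩, hw'w, hw'Z⟩ := exists_primary _ _ rfl hwZ
    have hw'N : w' ∈ N := (zpowers_le.2 hw) hw'w
    have hw'x : w' ∈ cz x := (zpowers_le.2 (mem_cz.2 hc.symm.eq)) hw'w
    have h4 : q ∣ (center G).relIndex (N ⊓ cz x) :=
      dvd_relIndex_center hq (mem_inf.2 ⟨hw'N, hw'x⟩) hw'Z hl
    have hqr : q ≠ r := by
      rintro rfl
      have h5 : orderOf w' ∣ orderOf w := orderOf_dvd_of_mem_zpowers hw'w
      have hl0 : l ≠ 0 := by
        rintro rfl
        rw [pow_zero, orderOf_eq_one_iff] at hl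
        exact hw'Z (hl ▸ one_mem _)
      rw [hl] at h5
      exact (Nat.Prime.coprime_iff_not_dvd hq).1 hwr.symm ((dvd_pow_self q hl0).trans h5)
    have h5 : r * q ∣ (center G).relIndex (N ⊓ cz x) :=
      Nat.Coprime.mul_dvd_of_dvd_of_dvd ((Nat.coprime_primes hr.out hq).2 hqr.symm) h3 h4
    have h6 := Nat.le_of_dvd (Nat.pos_of_ne_zero (relIndex_ne_zero _ _)) h5
    have h7 := hq.one_lt
    have h8 := hr.out.pos
    nlinarith
  have hTsq : (center G).relIndex ((R : Subgroup G) ⊓ cz y) ∣ r :=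
    relIndex_dvd_of_isPGroup (R.isPGroup'.to_le inf_le_left) (hsq y hyN hyZ) inf_le_right
  have h3 := relIndex_le h hyN hyZ hxN hxZ (cz_le_sup hS hTsq hyR hyZ hyr hyc hxR)
  have h4 := center_relIndex_mul (R := N) (center_le_cz x)
  have h5 := center_relIndex_mul (R := N) (center_le_cz y)
  have h6 := Nat.le_of_dvd hr.out.pos h1
  have h7 : 0 < (cz x).relIndex N := Nat.pos_of_ne_zero (relIndex_ne_zero _ _)
  rw [← h5] at h4
  have h8 : (center G).relIndex (N ⊓ cz y) * (cz y).relIndex N ≤ r * (cz x).relIndex N :=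
    Nat.mul_le_mul h6 h3
  have h9 : r * (cz x).relIndex N < (center G).relIndex (N ⊓ cz x) * (cz x).relIndex N :=
    Nat.mul_lt_mul_of_pos_right h2 h7
  omega

/-- Groups whose order divides `r ^ 2` are abelian. -/
theorem comm_of_card_dvd {A : Type*} [Group A] (hA : Nat.card A ∣ r * r) (a b : A) :
    a * b = b * a := by
  rw [← pow_two] at hA
  obtain ⟨i, hi, hc⟩ := (Nat.dvd_prime_pow hr.out).1 hA
  interval_cases i
  · rw [pow_zero] at hc
    have := (Nat.card_eq_one_iff_unique.1 hc).1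
    exact Subsingleton.elim _ _
  · rw [pow_one] at hc
    have : IsCyclic A := isCyclic_of_prime_card hc
    obtain ⟨g, hg⟩ := this.exists_generator
    obtain ⟨i, rfl⟩ := hg a
    obtain ⟨j, rfl⟩ := hg b
    exact ((Commute.refl g).zpow_zpow i j).eq
  · exact (IsPGroup.isMulCommutative_of_card_eq_prime_sq hc).is_comm.comm a b

/-- The remaining case. -/
theorem false_of_not_sq [hN : N.Normal] (h : TwoG N m) (hrm : r ∣ m)
    (hS : ∀ R : Sylow r G, (R : Subgroup G) ≤ N)
    (hsq : ∀ v ∈ N, v ∉ center G → ¬ r * r ∣ (center G).relIndex (cz v)) {x : G} (hxN : x ∈ N)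
    (hxZ : x ∉ center G) (hxr : REl r x) (hxg : Good N r x) : False := by
  obtain ⟨R, hR⟩ := hxr.zpowers.exists_le_sylow
  have hxR : x ∈ (R : Subgroup G) := hR (mem_zpowers x)
  have hT : ∀ v ∈ (R : Subgroup G), v ∉ center G →
      (center G).relIndex ((R : Subgroup G) ⊓ cz v) ∣ r := fun v hv hvZ =>
    relIndex_dvd_of_isPGroup (R.isPGroup'.to_le inf_le_left) (hsq v (hS R hv) hvZ) inf_le_right
  obtain ⟨y, hyR, hyZ, hyr, hyc⟩ := exists_central_mod R (fun h1 => hxZ (h1 hxR))
  have hyg := good_of_central h hS hsq hxR hxZ hxg hyR hyZ hyr hyc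
  have hcard : (center G).relIndex (R : Subgroup G) ∣ r * r := by
    rw [← center_relIndex_mul (R := (R : Subgroup G)) (center_le_cz y)]
    exact mul_dvd_mul (hT y hyR hyZ) (relIndex_cz_dvd h hrm hS hyR hyZ hyr hyc hyg)
  have hvc : ∀ v ∈ (R : Subgroup G), ∀ g ∈ (R : Subgroup G), ⁅g, v⁆ ∈ center G := by
    intro v hv g hg
    rw [← card_map_mk] at hcard
    have h1 := comm_of_card_dvd hcard
      ⟨_, mem_map_of_mem (QuotientGroup.mk' (center G)) hg⟩
      ⟨_, mem_map_of_mem (QuotientGroup.mk' (center G)) hv⟩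
    have h2 := congrArg Subtype.val h1
    rw [← QuotientGroup.eq_one_iff]
    change QuotientGroup.mk' (center G) ⁅g, v⁆ = 1
    rw [map_commutatorElement, commutatorElement_eq_one_iff_mul_comm]
    exact h2
  have hvr : ∀ v ∈ (R : Subgroup G), v ∉ center G → v ^ r ∈ center G := by
    intro v hv hvZ
    have h1 := hT v hv hvZ
    rw [← card_map_mk] at h1
    have h2 : (⟨_, mem_map_of_mem (QuotientGroup.mk' (center G))
        (mem_inf.2 ⟨hv, self_mem_cz v⟩)⟩ :
        ((R : Subgroup G) ⊓ cz v).map (QuotientGroup.mk' (center G))) ^ r = 1 :=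
      orderOf_dvd_iff_pow_eq_one.1 ((_root_.orderOf_dvd_natCard _).trans h1)
    have h3 : (QuotientGroup.mk' (center G) v) ^ r = 1 := congrArg Subtype.val h2
    rw [← map_pow] at h3
    exact (QuotientGroup.eq_one_iff _).1 h3
  have hvg : ∀ v ∈ (R : Subgroup G), v ∉ center G → Good N r v := fun v hv hvZ =>
    good_of_central h hS hsq hxR hxZ hxg hv hvZ (hvr v hv hvZ) (hvc v hv)
  have hrel : ∀ v ∈ (R : Subgroup G), v ∉ center G →
      (cz v).relIndex N = (cz x).relIndex N := by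
    intro v hv hvZ
    apply le_antisymm
    · exact relIndex_le h (hS R hv) hvZ hxN hxZ
        (cz_le_sup hS (hT v hv hvZ) hv hvZ (hvr v hv hvZ) (hvc v hv) hxR)
    · exact relIndex_le h hxN hxZ (hS R hv) hvZ
        (cz_le_sup hS (hT x hxR hxZ) hxR hxZ (hvr x hxR hxZ) (hvc x hxR) hv)
  have hall : ∀ v ∈ N, v ∉ center G → (cz v).relIndex N = (cz x).relIndex N := by
    intro v hv hvZ
    have h1 : r ∣ (center G).relIndex (cz v) := by
      rw [relIndex_cz_eq h hv hvZ hxN hxZ]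
      obtain ⟨k, hk⟩ := hxr
      exact dvd_relIndex_center hr.out (self_mem_cz x) hxZ hk
    obtain ⟨u, hu, huZ, -, hur⟩ := exists_of_dvd_relIndex_center hr.out h1
    have hur' : REl r u := hur
    obtain ⟨R', hR'⟩ := hur'.zpowers.exists_le_sylow
    have huR' : u ∈ (R' : Subgroup G) := hR' (mem_zpowers u)
    obtain ⟨n, hn, hnR⟩ := exists_smul (hS R) (hS R')
    have h2 : n⁻¹ * u * n ∈ (R : Subgroup G) := by
      rw [← hnR, mem_smul] at huR'
      exact huR'
    have e : u = n * (n⁻¹ * u * n) * n⁻¹ := by group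
    have h3 : n⁻¹ * u * n ∉ center G := by
      intro h4
      apply huZ
      rw [e]
      exact conj_mem_center h4
    have hug : Good N r u := by
      rw [e]
      exact (hvg _ h2 h3).conj n
    have huN := hS R' huR'
    have h4 : cz v = cz u :=
      good_eq h huN huZ hur' hug hv hvZ (mem_cz.2 (mem_cz.1 hu).symm)
    rw [h4, ← hrel _ h2 h3]
    nth_rw 1 [e]
    rw [cz_conj]
    nth_rw 1 [← conj_normal n N]
    rw [relIndex_pointwise_smul]
  have hcen : ∀ v : N, v ∈ center N ↔ (v : G) ∈ center G := by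
    intro v
    constructor
    · intro h1
      refine mem_center_of_le h hrm R v.2 fun g hg => ?_
      have h2 := mem_center_iff.1 h1 ⟨g, hS R hg⟩
      rw [mem_cz]
      exact congrArg Subtype.val h2
    · intro h1
      rw [mem_center_iff]
      intro g
      exact Subtype.ext (mem_center_iff.1 h1 g)
  have hT2 : TwoG (⊤ : Subgroup N) ((cz x).relIndex N) := by
    intro v _
    by_cases hvZ : (v : G) ∈ center G
    · left
      rw [cz_index_eq_one, hcen]
      exact hvZ
    · right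
      rw [← hall v v.2 hvZ, relIndex]
      congr 1
      ext g
      rw [mem_cz, mem_subgroupOf, mem_cz]
      exact Subtype.ext_iff
  obtain ⟨p, hp, hpc⟩ := Cfsg.Agent.S4134.exists_prime hT2 ⟨⟨x, hxN⟩, fun h1 =>
    hxZ ((hcen _).1 h1)⟩
  obtain ⟨k, hk⟩ := hxr
  have hpr : p = r := by
    by_contra hpr
    have h1 := hpc ⟨x, hxN⟩ (by
      rw [Subgroup.orderOf_mk, hk]
      exact Nat.Coprime.pow_left _ ((Nat.coprime_primes hr.out hp).2 (Ne.symm hpr)))
    exact hxZ ((hcen _).1 h1)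
  obtain ⟨w, hw, hwZ, hwr, -⟩ := hxg
  have h1 := hpc ⟨w, hw⟩ (by rw [Subgroup.orderOf_mk, hpr]; exact hwr)
  exact hwZ ((hcen _).1 h1)

end Cfsg.Agent.H683.TwoNormal
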